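import Cfsg.Agent.J1Order38.Counts

/-!
Centralisers and normalisers of elements of order 3, 5, 7, and Sylow counting inside subgroups.
-/

set_option autoImplicit false
set_option linter.style.haveILetI false

namespace Cfsg.Agent.J1Order38

open Subgroup Cfsg.Agent.FG78

variable {G : Type*} [Group G]

theorem centralizer_zpowers (x : G) :
    centralizer ((zpowers x : Subgroup G) : Set G) = centralizer ({x} : Set G) := by
  rw [zpowers_eq_closure, centralizer_closure]

theorem mem_cent_iff {x c : G} : c ∈ centralizer ({x} : Set G) ↔ c * x = x * c :=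
  mem_centralizer_singleton_iff

theorem self_mem_cent (x : G) : x ∈ centralizer ({x} : Set G) := mem_cent_iff.2 rfl

theorem cent_comm_symm {x y : G} (h : y ∈ centralizer ({x} : Set G)) : x ∈ centralizer ({y} : Set G) :=
  mem_cent_iff.2 (mem_cent_iff.1 h).symm

theorem cent_le_norm (x : G) :
    centralizer ({x} : Set G) ≤ normalizer ((zpowers x : Subgroup G) : Set G) := by
  rw [← centralizer_zpowers]
  exact centralizer_le_normalizer _

theorem cent_zpow_le {x c : G} (h : c ∈ centralizer ({x} : Set G)) (i : ℤ) :
    c ∈ centralizer ({x ^ i} : Set G) :=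
  mem_cent_iff.2 (Commute.zpow_right (show Commute c x from mem_cent_iff.1 h) i).eq

variable [Finite G]

theorem exists_sylow_zpowers {r : ℕ} [hr : Fact r.Prime] (hsq : ¬ r ^ 2 ∣ Nat.card G) {x : G}
    (hx : orderOf x = r) : ∃ P : Sylow r G, (P : Subgroup G) = zpowers x := by
  have hc : Nat.card (zpowers x) = r := (Nat.card_zpowers x).trans hx
  obtain ⟨P, hP⟩ := (IsPGroup.of_card (n := 1) (by rw [hc, pow_one]) : IsPGroup r (zpowers x)).exists_le_sylow
  refine ⟨P, (eq_of_le_of_card_ge hP ?_).symm⟩
  rw [hc, PrimeSylow.card_sylow_eq (hx ▸ orderOf_dvd_natCard x) hsq P]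

section Simple

variable [IsSimpleGroup G] (hG : Nat.card G = 175560)
include hG

theorem three_data {x : G} (hx : orderOf x = 3) :
    Nat.card (normalizer ((zpowers x : Subgroup G) : Set G)) = 60 ∧
      Nat.card (centralizer ({x} : Set G)) = 30 := by
  haveI := Fact.mk (by norm_num : Nat.Prime 3)
  obtain ⟨P, hP⟩ := exists_sylow_zpowers (by rw [hG]; norm_num) hx
  have h := sylow_three hG P
  unfold PrimeSylow.cent at h
  rwa [hP, centralizer_zpowers] at h

theorem five_data {x : G} (hx : orderOf x = 5) :
    Nat.card (normalizer ((zpowers x : Subgroup G) : Set G)) = 60 ∧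
      (Nat.card (centralizer ({x} : Set G)) = 15 ∨ Nat.card (centralizer ({x} : Set G)) = 30) := by
  haveI := Fact.mk (by norm_num : Nat.Prime 5)
  obtain ⟨P, hP⟩ := exists_sylow_zpowers (by rw [hG]; norm_num) hx
  have h := sylow_five hG P
  unfold PrimeSylow.cent at h
  rwa [hP, centralizer_zpowers] at h

theorem seven_data {x : G} (hx : orderOf x = 7) :
    Nat.card (normalizer ((zpowers x : Subgroup G) : Set G)) = 42 ∧
      (Nat.card (centralizer ({x} : Set G)) = 7 ∨ Nat.card (centralizer ({x} : Set G)) = 14) := by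
  haveI := Fact.mk (by norm_num : Nat.Prime 7)
  obtain ⟨P, hP⟩ := exists_sylow_zpowers (by rw [hG]; norm_num) hx
  have h := sylow_seven hG P
  unfold PrimeSylow.cent at h
  rwa [hP, centralizer_zpowers] at h

end Simple

theorem exists_orderOf_prime {r : ℕ} [Fact r.Prime] (H : Subgroup G) (h : r ∣ Nat.card H) :
    ∃ x ∈ H, orderOf x = r := by
  obtain ⟨⟨x, hx⟩, ho⟩ := exists_prime_orderOf_dvd_card' r h
  exact ⟨x, hx, by rwa [orderOf_mk] at ho⟩

/-- Sylow counting inside a subgroup, for a prime dividing the order once. -/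
theorem count_in {r : ℕ} [hr : Fact r.Prime] (H : Subgroup G) (hsq : ¬ r ^ 2 ∣ Nat.card H) {z : G}
    (hz : z ∈ H) (ho : orderOf z = r) :
    Nat.card (Sylow r H) *
        Nat.card (H ⊓ normalizer ((zpowers z : Subgroup G) : Set G) : Subgroup G) = Nat.card H ∧
      Nat.card (Sylow r H) % r = 1 := by
  obtain ⟨P, hP⟩ := exists_sylow_zpowers (G := H) hsq (x := ⟨z, hz⟩) (by rwa [orderOf_mk])
  constructor
  · have e : Nat.card (normalizer ((P : Subgroup H) : Set H)) =
        Nat.card (H ⊓ normalizer ((zpowers z : Subgroup G) : Set G) : Subgroup G) := by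
      have hPz : (P : Subgroup H) = (zpowers z).subgroupOf H := by
        rw [hP]
        apply map_injective H.subtype_injective
        rw [MonoidHom.map_zpowers, subgroupOf_map_subtype, inf_eq_left.2 (zpowers_le.2 hz)]
        rfl
      have hle : zpowers z ≤ H := zpowers_le.2 hz
      rw [hPz, ← subgroupOf_normalizer_eq hle, ← card_map_of_injective H.subtype_injective,
        subgroupOf_map_subtype, inf_comm]
    rw [← e, P.card_eq_index_normalizer, mul_comm]
    simp only [Sylow.coe_coe]
    exact card_mul_index _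
  · have h := card_sylow_modEq_one r H
    unfold Nat.ModEq at h
    rwa [Nat.one_mod_eq_one.mpr hr.out.ne_one] at h

end Cfsg.Agent.J1Order38
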