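import Cfsg.Agent.J1Order38.Cert

/-!
Facts on the group `C₂ × A₅` and on linear maps of its elementary abelian subgroup of order eight.
-/

set_option autoImplicit false

namespace Cfsg.Agent.J1Order38.Model

set_option synthInstance.maxSize 4000

open Equiv Cert

/-- The model of an involution centraliser. -/
abbrev HM : Type := Multiplicative (ZMod 2) × alternatingGroup (Fin 5)

/-- Generator `a`. -/
def ga : alternatingGroup (Fin 5) :=
  ⟨swap 0 1 * swap 2 3, by rw [Equiv.Perm.mem_alternatingGroup]; decide +kernel⟩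

/-- Generator `b`. -/
def gb : alternatingGroup (Fin 5) :=
  ⟨swap 1 2 * swap 1 3, by rw [Equiv.Perm.mem_alternatingGroup]; decide +kernel⟩

/-- Generator `r`. -/
def gr : alternatingGroup (Fin 5) :=
  ⟨swap 0 4 * swap 1 2, by rw [Equiv.Perm.mem_alternatingGroup]; decide +kernel⟩

/-- The generators. -/
def g0 : ℕ → HM
  | 0 => (1, ga)
  | 1 => (1, gb)
  | 2 => (1, gr)
  | 3 => (Multiplicative.ofAdd 1, 1)
  | _ => 1

/-- The relations inside the centraliser. -/
def relsH : List (List ℕ) :=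
  [[0, 0], [2, 2, 2], [4, 4], [0, 2, 0, 2, 0, 2], [4, 2, 4, 2], [4, 0, 4, 0, 4, 0, 4, 0, 4, 0],
   [6, 6], [6, 0, 6, 0], [6, 2, 7, 3], [6, 4, 6, 4], [4, 0, 2, 4, 0, 2, 4, 0, 2],
   [4, 2, 0, 3, 4, 2, 0, 3, 4, 2, 0, 3]]

set_option maxRecDepth 100000 in
theorem relsH_ok : ∀ w ∈ relsH, eval g0 w = 1 := by decide +kernel

/-- The word for a vector of the four-group extended by the centre. -/
def svWord (v : Fin 8) : List ℕ :=
  (if v.val % 2 = 1 then [6] else []) ++ (if v.val / 2 % 2 = 1 then [0] else []) ++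
    (if v.val / 4 = 1 then [2, 0, 3] else [])

/-- The element of a vector. -/
def sv (v : Fin 8) : HM := eval g0 (svWord v)

/-- Addition of vectors. -/
def vadd (v w : Fin 8) : Fin 8 := ⟨(Nat.xor v.val w.val) % 8, Nat.mod_lt _ (by norm_num)⟩

set_option maxRecDepth 100000 in
theorem sv_add : ∀ v w : Fin 8, sv (vadd v w) = sv v * sv w := by decide +kernel

set_option maxRecDepth 100000 in
theorem sv_inj : ∀ v w : Fin 8, sv v = sv w → v = w := by decide +kernel

set_option maxRecDepth 100000 in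
theorem cent_sv : ∀ z : HM, z * g0 3 = g0 3 * z → z * g0 0 = g0 0 * z →
    z * sv 4 = sv 4 * z → ∃ v : Fin 8, sv v = z := by decide +kernel

theorem sv_one : sv 1 = g0 3 := by decide +kernel

theorem sv_two : sv 2 = g0 0 := by decide +kernel

/-- The action of `b`. -/
def beta (v : Fin 8) : Fin 8 :=
  vadd (vadd (if v.val % 2 = 1 then 1 else 0) (if v.val / 2 % 2 = 1 then 4 else 0))
    (if v.val / 4 = 1 then 6 else 0)

set_option maxRecDepth 100000 in
theorem beta_ok : ∀ v : Fin 8, g0 1 * sv v * (g0 1)⁻¹ = sv (beta v) := by decide +kernel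

set_option maxRecDepth 100000 in
theorem r_moves : ¬ ∀ v : Fin 8, ∃ w : Fin 8, g0 2 * sv v * (g0 2)⁻¹ = sv w := by decide +kernel

/-- The linear map with given images of the basis. -/
def lin (x y z v : Fin 8) : Fin 8 :=
  vadd (vadd (if v.val % 2 = 1 then x else 0) (if v.val / 2 % 2 = 1 then y else 0))
    (if v.val / 4 = 1 then z else 0)

/-- The chosen action of the element of order seven. -/
def m0 (v : Fin 8) : Fin 8 := lin 5 1 2 v

/-- The action of the outer automorphism. -/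
def sig (v : Fin 8) : Fin 8 := lin 1 2 6 v

set_option maxRecDepth 100000 in
theorem normalise : ∀ x y z : Fin 8, (∀ v, (lin x y z)^[7] v = v) → (∃ v, lin x y z v ≠ v) →
    (∃ j : Fin 7, ∀ v, beta (lin x y z v) = (lin x y z)^[j.val] (beta v)) →
    ∃ i : Fin 7, (∀ v, (lin x y z)^[i.val] v = m0 v) ∨ (∀ v, sig ((lin x y z)^[i.val] (sig v)) = m0 v) := by
  decide +kernel

set_option maxRecDepth 100000 in
theorem m0_power : ∀ j : Fin 7, (∀ v, beta (m0 v) = m0^[j.val] (beta v)) → j.val = 2 := by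
  decide +kernel

theorem not_mem_range : ∀ v : Fin 8, m0 v = v → v = 0 := by decide +kernel

/-- The outer automorphism of `A₅`. -/
def sigmaA : alternatingGroup (Fin 5) ≃* alternatingGroup (Fin 5) where
  toFun z := ⟨swap 2 3 * (z : Equiv.Perm (Fin 5)) * (swap 2 3)⁻¹,
    Equiv.Perm.mem_alternatingGroup.2 (by
      rw [map_mul, map_mul, map_inv, Equiv.Perm.mem_alternatingGroup.1 z.2, mul_one, mul_inv_cancel])⟩
  invFun z := ⟨(swap 2 3)⁻¹ * (z : Equiv.Perm (Fin 5)) * swap 2 3,
    Equiv.Perm.mem_alternatingGroup.2 (by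
      rw [map_mul, map_mul, map_inv, Equiv.Perm.mem_alternatingGroup.1 z.2, mul_one, inv_mul_cancel])⟩
  left_inv z := Subtype.ext (by simp [mul_assoc])
  right_inv z := Subtype.ext (by simp [mul_assoc])
  map_mul' z w := Subtype.ext (by simp [mul_assoc])

/-- The outer automorphism of the model. -/
def sigma : HM ≃* HM := (MulEquiv.refl _).prodCongr sigmaA

set_option maxRecDepth 100000 in
theorem sigma_ok : ∀ v : Fin 8, sigma (sv v) = sv (sig v) := by decide +kernel

set_option maxRecDepth 100000 in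
theorem sigma_t : sigma (g0 3) = g0 3 := by decide +kernel

/-- Words of the two subgroups of order five inverted by each involution used. -/
def phiWords : List (List ℕ) := [[2, 0, 4], [0, 3, 0, 4]]

set_option maxRecDepth 100000 in
theorem five_inverted : ∀ v : Fin 8, v = 5 ∨ v = 4 → ∀ z : HM, z ^ 5 = 1 → z ≠ 1 →
    sv v * z * (sv v)⁻¹ = z⁻¹ → ∃ i : Fin 5, ∃ w ∈ phiWords, z ^ i.val = eval g0 w := by
  decide +kernel

/-- The transporting element of the first kind. -/
def hR : List ℕ := [0, 4, 0, 4]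

/-- The transporting element of the second kind. -/
def hRT : List ℕ := [2, 0, 4]

set_option maxRecDepth 100000 in
theorem hR_ok : eval g0 hR * g0 0 * (eval g0 hR)⁻¹ = g0 2 := by decide +kernel

set_option maxRecDepth 100000 in
theorem hRT_ok : eval g0 hRT * sv 7 * (eval g0 hRT)⁻¹ = g0 2 * g0 3 := by decide +kernel

set_option maxRecDepth 100000 in
theorem g0_orders : orderOf (g0 1) ∣ 3 ∧ g0 1 ≠ 1 ∧ g0 2 * g0 1 * (g0 2)⁻¹ = (g0 1)⁻¹ ∧
    g0 2 * g0 3 = g0 3 * g0 2 ∧ g0 1 * g0 3 = g0 3 * g0 1 ∧ (g0 2 * g0 3) * (g0 2 * g0 3) = 1 := by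
  refine ⟨orderOf_dvd_of_pow_eq_one (by decide +kernel), by decide +kernel, by decide +kernel,
    by decide +kernel, by decide +kernel, by decide +kernel⟩

set_option maxRecDepth 100000 in
theorem norm_card : (Finset.univ.filter fun z : HM =>
    ∀ v : Fin 8, ∃ w : Fin 8, z * sv v * z⁻¹ = sv w).card = 24 := by decide +kernel

theorem sig_sig : ∀ v : Fin 8, sig (sig v) = v := by decide +kernel

theorem lin_basis : ∀ v : Fin 8, v = 0 ∨ v = 1 ∨ v = 2 ∨ v = 4 ∨ v = vadd 1 2 ∨ v = vadd 1 4 ∨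
    v = vadd 2 4 ∨ v = vadd (vadd 1 2) 4 := by decide +kernel

theorem sigma_b : sigma (g0 1) = (g0 1)⁻¹ := by decide +kernel

set_option maxRecDepth 100000 in
theorem m0_facts : m0 2 = 1 ∧ m0 1 = 5 ∧ m0 4 = 2 ∧ m0^[2] 1 = 7 ∧ m0^[5] 1 = 4 ∧ (∃ v, m0 v ≠ v) := by
  decide +kernel

set_option maxRecDepth 100000 in
theorem phi_ne : ∀ w ∈ phiWords, eval g0 w ≠ 1 := by decide +kernel

set_option maxRecDepth 100000 in
theorem ra_five : (g0 2 * g0 0) ^ 5 = 1 ∧ g0 2 * g0 0 ≠ 1 := by decide +kernel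

set_option maxRecDepth 100000 in
theorem central_t : ∀ z : HM, z * g0 3 = g0 3 * z := by decide +kernel

end Cfsg.Agent.J1Order38.Model
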