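import Cfsg.Agent.J1Order38.Iso
import Cfsg.Agent.J1Order38.Model

/-!
A normalised pair of an involution centraliser and an element of order seven.
-/

set_option autoImplicit false
set_option linter.style.haveILetI false

namespace Cfsg.Agent.J1Order38

open Subgroup Model Cert

variable {G : Type*} [Group G] [Finite G]

/-- An embedding of the model onto an involution centraliser, with a normalised element of order
seven. -/
structure Setup (G : Type*) [Group G] where
  ι : HM →* G
  u : G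
  inj : Function.Injective ι
  ordT : orderOf (ι (g0 3)) = 2
  range : ι.range = centralizer ({ι (g0 3)} : Set G)
  ordU : orderOf u = 7
  act : ∀ v : Fin 8, u * ι (sv v) * u⁻¹ = ι (sv (m0 v))
  conjB : ι (g0 1) * u * (ι (g0 1))⁻¹ = u ^ 2

/-- The image of the elementary abelian subgroup of order eight. -/
def sImage (ι : HM →* G) : Subgroup G where
  carrier := {x | ∃ v : Fin 8, ι (sv v) = x}
  one_mem' := ⟨0, by rw [show sv 0 = 1 from rfl, map_one]⟩
  mul_mem' := by
    rintro _ _ ⟨v, rfl⟩ ⟨w, rfl⟩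
    exact ⟨vadd v w, by rw [sv_add, map_mul]⟩
  inv_mem' := by
    rintro _ ⟨v, rfl⟩
    refine ⟨v, eq_inv_of_mul_eq_one_left ?_⟩
    rw [← map_mul, ← sv_add, show vadd v v = 0 from (by revert v; decide +kernel)]
    rw [show sv 0 = 1 from rfl, map_one]

omit [Finite G] in
theorem mem_sImage {ι : HM →* G} {x : G} : x ∈ sImage ι ↔ ∃ v : Fin 8, ι (sv v) = x := Iff.rfl

theorem card_sImage {ι : HM →* G} (hι : Function.Injective ι) : Nat.card (sImage ι) = 8 := by
  have e : Fin 8 ≃ sImage ι := Equiv.ofBijective (fun v => ⟨ι (sv v), v, rfl⟩)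
    ⟨fun v w h => sv_inj v w (hι (congrArg Subtype.val h)), fun x => by
      obtain ⟨v, hv⟩ := x.2
      exact ⟨v, Subtype.ext hv⟩⟩
  rw [← Nat.card_congr e, Nat.card_fin]

variable [IsSimpleGroup G] (hG : Nat.card G = 175560)
include hG

theorem card_normalizer_sImage {ι : HM →* G} (hι : Function.Injective ι) (hT : orderOf (ι (g0 3)) = 2)
    (hr : ι.range = centralizer ({ι (g0 3)} : Set G)) :
    Nat.card (normalizer ((sImage ι : Subgroup G) : Set G)) = 168 := by
  classical
  haveI : Fact (Nat.Prime 2) := ⟨Nat.prime_two⟩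
  obtain ⟨T, hT'⟩ := (IsPGroup.of_card (n := 3) (by rw [card_sImage hι]; norm_num) :
    IsPGroup 2 (sImage ι)).exists_le_sylow
  have hTS : (sImage ι : Subgroup G) = (T : Subgroup G) :=
    eq_of_le_of_card_ge hT' (by rw [card_two hG T, card_sImage hι])
  set N := normalizer ((sImage ι : Subgroup G) : Set G) with hN
  set H := centralizer ({ι (g0 3)} : Set G)
  set K := (N ⊓ H).subgroupOf N with hK
  have hv : ∀ n : N, ∃ v : {v : Fin 8 // v ≠ 0}, ι (sv v.1) = (n : G) * ι (sv 1) * (n : G)⁻¹ := fun n => by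
    obtain ⟨v, hv⟩ := (mem_normalizer_iff.1 n.2 (ι (sv 1))).1 ⟨1, rfl⟩
    refine ⟨⟨v, fun h => ?_⟩, hv⟩
    rw [h, show sv 0 = 1 from rfl, map_one, eq_comm, conj_eq_one_iff, sv_one] at hv
    rw [hv, orderOf_one] at hT
    omega
  choose φ hφ using hv
  have hφeq : ∀ n m : N, φ n = φ m ↔ (n : G)⁻¹ * m ∈ H := by
    intro n m
    have hiff : φ n = φ m ↔ (n : G) * ι (sv 1) * (n : G)⁻¹ = (m : G) * ι (sv 1) * (m : G)⁻¹ := by
      rw [← hφ n, ← hφ m]
      exact ⟨fun h => by rw [h], fun h => Subtype.ext (sv_inj _ _ (hι h))⟩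
    rw [hiff, sv_one, mem_cent_iff]
    constructor
    · intro h
      calc (n : G)⁻¹ * m * ι (g0 3) = (n : G)⁻¹ * ((m : G) * ι (g0 3) * (m : G)⁻¹) * m := by group
        _ = (n : G)⁻¹ * ((n : G) * ι (g0 3) * (n : G)⁻¹) * m := by rw [h]
        _ = ι (g0 3) * ((n : G)⁻¹ * m) := by group
    · intro h
      calc (n : G) * ι (g0 3) * (n : G)⁻¹ = (n : G) * (ι (g0 3) * ((n : G)⁻¹ * m)) * (m : G)⁻¹ := by group
        _ = (n : G) * (((n : G)⁻¹ * m) * ι (g0 3)) * (m : G)⁻¹ := by rw [h]
        _ = (m : G) * ι (g0 3) * (m : G)⁻¹ := by group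
  let f : N ⧸ K → {v : Fin 8 // v ≠ 0} := fun q => Quotient.liftOn' q φ fun n m hnm => by
    rw [QuotientGroup.leftRel_apply] at hnm
    exact (hφeq n m).2 hnm.2
  have hbij : Function.Bijective f := by
    constructor
    · intro p q
      induction p using QuotientGroup.induction_on with
      | H n => induction q using QuotientGroup.induction_on with
        | H m =>
          intro h
          rw [QuotientGroup.eq, hK, mem_subgroupOf]
          exact ⟨(n⁻¹ * m : N).2, (hφeq n m).1 h⟩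
    · rintro ⟨w, hw⟩
      have hw1 : orderOf (ι (sv w)) = 2 := by
        refine orderOf_eq_prime ?_ fun h => hw (sv_inj w 0 ?_)
        · rw [pow_two, ← map_mul, ← sv_add, show vadd w w = 0 from (by revert w; decide +kernel)]
          rw [show sv 0 = 1 from rfl, map_one]
        · rw [show sv 0 = 1 from rfl]
          exact hι (h.trans (map_one ι).symm)
      obtain ⟨g, hg⟩ := conj_involutions hG hT hw1
      have hcomm : IsMulCommutative (T : Subgroup G) := (two_elementary hG T).1
      obtain ⟨n, hn, hne⟩ := Transfer.conj_normalizer_of_abelian T hcomm (x := ι (g0 3)) (g := g)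
        (hTS.le ⟨1, by rw [sv_one]⟩) (by rw [hg]; exact hTS.le ⟨w, rfl⟩)
      rw [← hTS] at hn
      refine ⟨QuotientGroup.mk (⟨n, hn⟩ : N), Subtype.ext (sv_inj _ _ (hι ?_))⟩
      show ι (sv (φ ⟨n, hn⟩).1) = ι (sv w)
      rw [hφ ⟨n, hn⟩, sv_one, ← hg]
      exact hne
  have h7 : K.index = 7 := by
    rw [index, Nat.card_congr (Equiv.ofBijective f hbij), Nat.card_eq_fintype_card]
    decide
  have h24 : Nat.card K = 24 := by
    rw [hK, Nat.card_congr (subgroupOfEquivOfLe inf_le_left).toEquiv, ← norm_card, ← Fintype.card_subtype,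
      ← Nat.card_eq_fintype_card]
    refine (Nat.card_congr (Equiv.ofBijective
      (fun z : {z : HM // ∀ v : Fin 8, ∃ w : Fin 8, z * sv v * z⁻¹ = sv w} =>
        (⟨ι z.1, ?_, ?_⟩ : (N ⊓ H : Subgroup G))) ⟨?_, ?_⟩)).symm
    · show ι z.1 ∈ normalizer ((sImage ι : Subgroup G) : Set G)
      rw [mem_normalizer_iff_map_conj_eq]
      refine eq_of_le_of_card_ge ?_ (by rw [card_map_of_injective (MulAut.conj (ι z.1)).injective])
      rintro _ ⟨_, ⟨v, rfl⟩, rfl⟩
      obtain ⟨w, hw⟩ := z.2 v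
      exact ⟨w, by rw [← hw, map_mul, map_mul, map_inv]; rfl⟩
    · rw [show H = ι.range from hr.symm]
      exact ⟨z.1, rfl⟩
    · intro z z' h
      exact Subtype.ext (hι (congrArg Subtype.val h))
    · rintro ⟨x, hxN, hxH⟩
      rw [show H = ι.range from hr.symm] at hxH
      obtain ⟨z, rfl⟩ := hxH
      refine ⟨⟨z, fun v => ?_⟩, rfl⟩
      obtain ⟨w, hw⟩ := (mem_normalizer_iff.1 hxN (ι (sv v))).1 ⟨v, rfl⟩
      exact ⟨w, hι (by rw [hw, map_mul, map_mul, map_inv])⟩
  rw [← K.card_mul_index, h7, h24]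

theorem exists_setup : Nonempty (Setup G) := by
  classical
  haveI := Fact.mk (by norm_num : Nat.Prime 7)
  haveI := Fact.mk (by norm_num : Nat.Prime 3)
  haveI : Fact (Nat.Prime 2) := ⟨Nat.prime_two⟩
  obtain ⟨t, ht⟩ := exists_prime_orderOf_dvd_card' (G := G) 2 (by rw [hG]; norm_num)
  obtain ⟨e, he⟩ := exists_equiv hG ht
  let ι : HM →* G := (centralizer ({t} : Set G)).subtype.comp e.symm.toMonoidHom
  have hι : Function.Injective ι := (centralizer ({t} : Set G)).subtype_injective.comp e.symm.injective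
  have hιt : ι (g0 3) = t := by
    show ((e.symm (g0 3) : centralizer ({t} : Set G)) : G) = t
    rw [show g0 3 = (Multiplicative.ofAdd 1, 1) from rfl, ← he, e.symm_apply_apply]
  have hT : orderOf (ι (g0 3)) = 2 := by rw [hιt, ht]
  have hr : ι.range = centralizer ({ι (g0 3)} : Set G) := by
    rw [hιt, MonoidHom.range_comp, MonoidHom.range_eq_top.2 e.symm.surjective, ← MonoidHom.range_eq_map,
      Subgroup.range_subtype]
  set S := sImage ι
  set N := normalizer ((S : Subgroup G) : Set G) with hN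
  have hN168 : Nat.card N = 168 := card_normalizer_sImage hG hι hT hr
  -- `b` normalises `S`
  have hbN : ι (g0 1) ∈ N := by
    rw [hN, mem_normalizer_iff_map_conj_eq]
    refine eq_of_le_of_card_ge ?_ (by rw [card_map_of_injective (MulAut.conj (ι (g0 1))).injective])
    rintro _ ⟨_, ⟨v, rfl⟩, rfl⟩
    exact ⟨beta v, by rw [← beta_ok, map_mul, map_mul, map_inv]; rfl⟩
  -- a subgroup of order seven normalised by `b`
  have hb3 : orderOf (g0 1) = 3 := by
    rcases (Nat.dvd_prime (by norm_num : Nat.Prime 3)).1 g0_orders.1 with h | h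
    · exact absurd (orderOf_eq_one_iff.1 h) g0_orders.2.1
    · exact h
  set B := zpowers (⟨ι (g0 1), hbN⟩ : N)
  have hB : IsPGroup 3 B := IsPGroup.of_card (n := 1) (by
    rw [Nat.card_zpowers, orderOf_mk, orderOf_injective ι hι, hb3, pow_one])
  have hX : ¬ 3 ∣ Nat.card (Sylow 7 N) := by
    obtain ⟨P⟩ := (inferInstance : Nonempty (Sylow 7 N))
    have h1 : Nat.card (Sylow 7 N) ∣ 168 := hN168 ▸ P.card_dvd_index.trans (P : Subgroup N).index_dvd_card
    have h2 := card_sylow_modEq_one 7 N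
    unfold Nat.ModEq at h2
    have hP : Nat.card (P : Subgroup N) = 7 :=
      FG78.PrimeSylow.card_sylow_eq (by rw [hN168]; norm_num) (by rw [hN168]; norm_num) P
    have h3 : Nat.card (Sylow 7 N) ∣ 24 := by
      have h4 := (P : Subgroup N).card_mul_index
      rw [hP, hN168] at h4
      have h5 : (P : Subgroup N).index = 24 := by omega
      exact h5 ▸ P.card_dvd_index
    have h4 := Nat.le_of_dvd (by norm_num) h3
    intro h
    interval_cases hq : Nat.card (Sylow 7 N) <;> omega
  obtain ⟨P, hP⟩ := hB.nonempty_fixed_point_of_prime_not_dvd_card (Sylow 7 N) hX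
  have hPc : Nat.card (P : Subgroup N) = 7 :=
    FG78.PrimeSylow.card_sylow_eq (by rw [hN168]; norm_num) (by rw [hN168]; norm_num) P
  obtain ⟨⟨u, huN⟩, huP, hu⟩ := exists_orderOf_prime (r := 7) (P : Subgroup N) (by rw [hPc])
  have hbu : ι (g0 1) * u * (ι (g0 1))⁻¹ ∈ zpowers u := by
    have h1 : (⟨ι (g0 1), hbN⟩ : N) ∈ normalizer ((P : Subgroup N) : Set N) :=
      Sylow.smul_eq_iff_mem_normalizer.1 (hP ⟨_, mem_zpowers _⟩)
    have h2 := (mem_normalizer_iff.1 h1 ⟨u, huN⟩).1 huP
    have hPu : (P : Subgroup N) = zpowers (⟨u, huN⟩ : N) :=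
      (eq_of_le_of_card_ge (zpowers_le.2 huP) (by rw [Nat.card_zpowers, hu, hPc])).symm
    rw [hPu] at h2
    obtain ⟨i, hi⟩ := mem_zpowers_iff.1 h2
    exact mem_zpowers_iff.2 ⟨i, congrArg Subtype.val hi⟩
  rw [orderOf_mk] at hu
  -- the linear map of conjugation by `u`
  have hconj : ∀ v, ∃ w, u * ι (sv v) * u⁻¹ = ι (sv w) := fun v => by
    obtain ⟨w, hw⟩ := (mem_normalizer_iff.1 huN (ι (sv v))).1 ⟨v, rfl⟩
    exact ⟨w, hw.symm⟩
  choose M hM using hconj
  have hadd : ∀ v w, M (vadd v w) = vadd (M v) (M w) := fun v w => sv_inj _ _ (hι (by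
    rw [← hM, sv_add, sv_add, map_mul, map_mul, ← conj_mul, hM, hM]))
  have hM0 : M 0 = 0 := sv_inj _ _ (hι (by rw [← hM, show sv 0 = 1 from rfl, map_one]; group))
  have hlin : M = lin (M 1) (M 2) (M 4) := by
    funext v
    rcases lin_basis v with h | h | h | h | h | h | h | h <;> subst h <;>
      (try simp only [hadd, hM0])
    all_goals
      generalize M 1 = x
      generalize M 2 = y
      generalize M 4 = z
      revert x y z
      decide +kernel
  have hiter : ∀ (j : ℕ) v, u ^ j * ι (sv v) * (u ^ j)⁻¹ = ι (sv (M^[j] v)) := by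
    intro j
    induction j with
    | zero => intro v; simp
    | succ j ih =>
      intro v
      rw [Function.iterate_succ_apply, ← ih, ← hM, pow_succ]
      group
  have h7 : ∀ v, M^[7] v = v := fun v => sv_inj _ _ (hι (by
    rw [← hiter, ← hu, pow_orderOf_eq_one]; group))
  have hne : ∃ v, M v ≠ v := by
    by_contra! hall
    have h1 : u ∈ centralizer ({ι (g0 3)} : Set G) := by
      rw [mem_cent_iff, ← sv_one]
      exact comm_of_conj (by rw [hM, hall])
    have h2 : orderOf (⟨u, h1⟩ : centralizer ({ι (g0 3)} : Set G)) ∣ 120 := by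
      rw [← cent_inv_card hG hT]; exact _root_.orderOf_dvd_natCard _
    rw [orderOf_mk, hu] at h2
    norm_num at h2
  -- the exponent of `b`
  obtain ⟨j, hj⟩ : ∃ j : Fin 7, ι (g0 1) * u * (ι (g0 1))⁻¹ = u ^ j.val := by
    obtain ⟨i, hi⟩ := mem_zpowers_iff.1 hbu
    refine ⟨⟨(i % 7).toNat, by omega⟩, hi.symm.trans ?_⟩
    rw [← zpow_natCast u, Int.toNat_of_nonneg (Int.emod_nonneg i (by norm_num)),
      show (7 : ℤ) = ((orderOf u : ℕ) : ℤ) by rw [hu]; rfl, zpow_mod_orderOf]
  have hbeta : ∀ v, beta (M v) = M^[j.val] (beta v) := fun v => sv_inj _ _ (hι (by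
    rw [← hiter, ← hj, ← beta_ok, ← beta_ok, map_mul, map_mul, map_mul, map_mul, map_inv, ← hM]
    group))
  -- normalise
  rw [hlin] at h7 hne hbeta
  obtain ⟨i, hi⟩ := normalise (M 1) (M 2) (M 4) h7 hne ⟨j, hbeta⟩
  rw [← hlin] at hi
  have hi0 : i.val ≠ 0 := by
    intro h0
    rw [h0] at hi
    obtain ⟨v, hv⟩ := m0_facts.2.2.2.2.2
    rcases hi with hi | hi
    · exact hv (hi v).symm
    · exact hv (by rw [← hi v]; exact sig_sig v)
  set u' := u ^ i.val with hu'
  have hu7 : orderOf u' = 7 := by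
    rw [hu', orderOf_pow' _ hi0, hu]
    have := i.isLt
    rw [show Nat.gcd 7 i.val = 1 from Nat.Coprime.gcd_eq_one
      ((Nat.Prime.coprime_iff_not_dvd (by norm_num)).2 fun h => by have := Nat.le_of_dvd (by omega) h; omega)]
  have hbu' : ι (g0 1) * u' * (ι (g0 1))⁻¹ = u' ^ j.val := by
    rw [hu', ← conj_pow, hj, ← pow_mul, ← pow_mul, mul_comm]
  rcases hi with hi | hi
  · have hact : ∀ v, u' * ι (sv v) * u'⁻¹ = ι (sv (m0 v)) := fun v => by rw [hu', hiter, hi]
    have hk : j.val = 2 := by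
      refine m0_power j fun v => sv_inj _ _ (hι ?_)
      have hit : ∀ (l : ℕ) w, u' ^ l * ι (sv w) * (u' ^ l)⁻¹ = ι (sv (m0^[l] w)) := by
        intro l
        induction l with
        | zero => intro w; simp
        | succ l ih =>
          intro w
          rw [Function.iterate_succ_apply, ← ih, ← hact, pow_succ]
          group
      rw [← hit, ← hbu', ← beta_ok, ← beta_ok, map_mul, map_mul, map_mul, map_mul, map_inv, ← hact]
      group
    exact ⟨⟨ι, u', hι, hT, hr, hu7, hact, hbu'.trans (congrArg (u' ^ ·) hk)⟩⟩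
  · set ι' := ι.comp sigma.symm.toMonoidHom with hι'
    have hsv : ∀ v, ι' (sv v) = ι (sv (sig v)) := fun v => by
      show ι (sigma.symm (sv v)) = _
      congr 1
      rw [MulEquiv.symm_apply_eq, sigma_ok, sig_sig]
    have hb' : ι' (g0 1) = (ι (g0 1))⁻¹ := by
      show ι (sigma.symm (g0 1)) = _
      rw [← map_inv]
      congr 1
      rw [MulEquiv.symm_apply_eq, map_inv, sigma_b, inv_inv]
    have ht' : ι' (g0 3) = ι (g0 3) := by
      show ι (sigma.symm (g0 3)) = _
      congr 1
      rw [MulEquiv.symm_apply_eq, sigma_t]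
    have hact : ∀ v, u' * ι' (sv v) * u'⁻¹ = ι' (sv (m0 v)) := fun v => by
      rw [hsv, hsv, hu', hiter, ← hi v, sig_sig]
    have hι'i : Function.Injective ι' := hι.comp sigma.symm.injective
    have hr' : ι'.range = centralizer ({ι' (g0 3)} : Set G) := by
      rw [ht', ← hr, hι', MonoidHom.range_comp, MonoidHom.range_eq_top.2 sigma.symm.surjective,
        ← MonoidHom.range_eq_map]
    have hmem : ι' (g0 1) * u' * (ι' (g0 1))⁻¹ ∈ zpowers u' := by
      have h1 : ι (g0 1) ∈ normalizer ((zpowers u' : Subgroup G) : Set G) := by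
        rw [mem_normalizer_iff_map_conj_eq, MonoidHom.map_zpowers]
        refine eq_of_le_of_card_ge (zpowers_le.2 ?_) ?_
        · show ι (g0 1) * u' * (ι (g0 1))⁻¹ ∈ zpowers u'
          rw [hbu']
          exact pow_mem (mem_zpowers u') _
        · rw [Nat.card_zpowers, Nat.card_zpowers]
          show orderOf u' ≤ orderOf (MulAut.conj (ι (g0 1)) u')
          rw [MulEquiv.orderOf_eq]
      rw [hb']
      exact (mem_normalizer_iff.1 (inv_mem h1) u').1 (mem_zpowers u')
    obtain ⟨l, hl⟩ := mem_zpowers_iff.1 hmem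
    have hk : ι' (g0 1) * u' * (ι' (g0 1))⁻¹ = u' ^ 2 := by
      have hl' : ι' (g0 1) * u' * (ι' (g0 1))⁻¹ = u' ^ (l % 7).toNat := by
        rw [← hl, ← zpow_natCast u', Int.toNat_of_nonneg (Int.emod_nonneg l (by norm_num)),
          show (7 : ℤ) = ((orderOf u' : ℕ) : ℤ) by rw [hu7]; rfl, zpow_mod_orderOf]
      have hit : ∀ (m : ℕ) w, u' ^ m * ι' (sv w) * (u' ^ m)⁻¹ = ι' (sv (m0^[m] w)) := by
        intro m
        induction m with
        | zero => intro w; simp
        | succ m ih =>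
          intro w
          rw [Function.iterate_succ_apply, ← ih, ← hact, pow_succ]
          group
      have hq : (⟨(l % 7).toNat, by omega⟩ : Fin 7).val = 2 := by
        refine m0_power _ fun v => sv_inj _ _ (hι'i ?_)
        rw [← hit, ← hl', ← beta_ok, ← beta_ok, map_mul, map_mul, map_mul, map_mul, map_inv, ← hact]
        group
      rw [hl']
      exact congrArg (u' ^ ·) hq
    exact ⟨⟨ι', u', hι'i, by rw [ht', hT], hr', hu7, hact, hk⟩⟩

end Cfsg.Agent.J1Order38
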