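import Cfsg.Agent.J1Order38.Case1

/-!
The coset table of the surviving case.
-/

set_option autoImplicit false

namespace Cfsg.Agent.J1Order38.Table

open Cert

def node_0 : T := (.node 16 (.node 8 (.node 4 (.node 2 (.node 1 (.leaf 0) (.leaf 1)) (.node 1 (.leaf 2) (.leaf 3))) (.node 2 (.node 1 (.leaf 4) (.leaf 5)) (.node 1 (.leaf 6) (.leaf 7)))) (.node 4 (.node 2 (.node 1 (.leaf 8) (.leaf 9)) (.node 1 (.leaf 10) (.leaf 11))) (.node 2 (.node 1 (.leaf 12) (.leaf 13)) (.node 1 (.leaf 14) (.leaf 15))))) (.node 8 (.node 4 (.node 2 (.node 1 (.leaf 16) (.leaf 17)) (.node 1 (.leaf 18) (.leaf 19))) (.node 2 (.node 1 (.leaf 20) (.leaf 21)) (.node 1 (.leaf 22) (.leaf 23)))) (.node 4 (.node 2 (.node 1 (.leaf 24) (.leaf 25)) (.node 1 (.leaf 26) (.leaf 27))) (.node 2 (.node 1 (.leaf 28) (.leaf 29)) (.node 1 (.leaf 30) (.leaf 31))))))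
def node_1 : T := (.node 16 (.node 8 (.node 4 (.node 2 (.node 1 (.leaf 32) (.leaf 33)) (.node 1 (.leaf 34) (.leaf 35))) (.node 2 (.node 1 (.leaf 36) (.leaf 37)) (.node 1 (.leaf 38) (.leaf 39)))) (.node 4 (.node 2 (.node 1 (.leaf 40) (.leaf 41)) (.node 1 (.leaf 42) (.leaf 43))) (.node 2 (.node 1 (.leaf 44) (.leaf 45)) (.node 1 (.leaf 46) (.leaf 47))))) (.node 8 (.node 4 (.node 2 (.node 1 (.leaf 48) (.leaf 49)) (.node 1 (.leaf 50) (.leaf 51))) (.node 2 (.node 1 (.leaf 52) (.leaf 53)) (.node 1 (.leaf 54) (.leaf 55)))) (.node 4 (.node 2 (.node 1 (.leaf 56) (.leaf 57)) (.node 1 (.leaf 58) (.leaf 59))) (.node 2 (.node 1 (.leaf 60) (.leaf 61)) (.node 1 (.leaf 62) (.leaf 63))))))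
def node_2 : T := (.node 16 (.node 8 (.node 4 (.node 2 (.node 1 (.leaf 64) (.leaf 65)) (.node 1 (.leaf 66) (.leaf 67))) (.node 2 (.node 1 (.leaf 68) (.leaf 69)) (.node 1 (.leaf 70) (.leaf 71)))) (.node 4 (.node 2 (.node 1 (.leaf 72) (.leaf 73)) (.node 1 (.leaf 74) (.leaf 75))) (.node 2 (.node 1 (.leaf 76) (.leaf 77)) (.node 1 (.leaf 78) (.leaf 79))))) (.node 8 (.node 4 (.node 2 (.node 1 (.leaf 80) (.leaf 81)) (.node 1 (.leaf 82) (.leaf 83))) (.node 2 (.node 1 (.leaf 84) (.leaf 85)) (.node 1 (.leaf 86) (.leaf 87)))) (.node 4 (.node 2 (.node 1 (.leaf 88) (.leaf 89)) (.node 1 (.leaf 90) (.leaf 91))) (.node 2 (.node 1 (.leaf 92) (.leaf 93)) (.node 1 (.leaf 94) (.leaf 95))))))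
def node_3 : T := (.node 16 (.node 8 (.node 4 (.node 2 (.node 1 (.leaf 96) (.leaf 98)) (.node 1 (.leaf 99) (.leaf 102))) (.node 2 (.node 1 (.leaf 103) (.leaf 104)) (.node 1 (.leaf 105) (.leaf 107)))) (.node 4 (.node 2 (.node 1 (.leaf 108) (.leaf 109)) (.node 1 (.leaf 110) (.leaf 111))) (.node 2 (.node 1 (.leaf 112) (.leaf 113)) (.node 1 (.leaf 114) (.leaf 115))))) (.node 8 (.node 4 (.node 2 (.node 1 (.leaf 116) (.leaf 117)) (.node 1 (.leaf 118) (.leaf 119))) (.node 2 (.node 1 (.leaf 120) (.leaf 121)) (.node 1 (.leaf 122) (.leaf 123)))) (.node 4 (.node 2 (.node 1 (.leaf 124) (.leaf 125)) (.node 1 (.leaf 129) (.leaf 132))) (.node 2 (.node 1 (.leaf 134) (.leaf 135)) (.node 1 (.leaf 136) (.leaf 139))))))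
def node_4 : T := (.node 16 (.node 8 (.node 4 (.node 2 (.node 1 (.leaf 140) (.leaf 141)) (.node 1 (.leaf 142) (.leaf 143))) (.node 2 (.node 1 (.leaf 144) (.leaf 145)) (.node 1 (.leaf 146) (.leaf 147)))) (.node 4 (.node 2 (.node 1 (.leaf 148) (.leaf 149)) (.node 1 (.leaf 150) (.leaf 151))) (.node 2 (.node 1 (.leaf 152) (.leaf 153)) (.node 1 (.leaf 154) (.leaf 155))))) (.node 8 (.node 4 (.node 2 (.node 1 (.leaf 156) (.leaf 157)) (.node 1 (.leaf 158) (.leaf 159))) (.node 2 (.node 1 (.leaf 160) (.leaf 161)) (.node 1 (.leaf 162) (.leaf 163)))) (.node 4 (.node 2 (.node 1 (.leaf 164) (.leaf 165)) (.node 1 (.leaf 166) (.leaf 167))) (.node 2 (.node 1 (.leaf 168) (.leaf 169)) (.node 1 (.leaf 170) (.leaf 171))))))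
def node_5 : T := (.node 16 (.node 8 (.node 4 (.node 2 (.node 1 (.leaf 172) (.leaf 173)) (.node 1 (.leaf 174) (.leaf 175))) (.node 2 (.node 1 (.leaf 176) (.leaf 177)) (.node 1 (.leaf 178) (.leaf 179)))) (.node 4 (.node 2 (.node 1 (.leaf 180) (.leaf 181)) (.node 1 (.leaf 182) (.leaf 183))) (.node 2 (.node 1 (.leaf 184) (.leaf 185)) (.node 1 (.leaf 186) (.leaf 187))))) (.node 8 (.node 4 (.node 2 (.node 1 (.leaf 188) (.leaf 189)) (.node 1 (.leaf 190) (.leaf 191))) (.node 2 (.node 1 (.leaf 192) (.leaf 193)) (.node 1 (.leaf 194) (.leaf 196)))) (.node 4 (.node 2 (.node 1 (.leaf 197) (.leaf 198)) (.node 1 (.leaf 199) (.leaf 200))) (.node 2 (.node 1 (.leaf 201) (.leaf 202)) (.node 1 (.leaf 203) (.leaf 204))))))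
def node_6 : T := (.node 16 (.node 8 (.node 4 (.node 2 (.node 1 (.leaf 205) (.leaf 207)) (.node 1 (.leaf 208) (.leaf 210))) (.node 2 (.node 1 (.leaf 211) (.leaf 212)) (.node 1 (.leaf 213) (.leaf 214)))) (.node 4 (.node 2 (.node 1 (.leaf 215) (.leaf 216)) (.node 1 (.leaf 217) (.leaf 218))) (.node 2 (.node 1 (.leaf 219) (.leaf 220)) (.node 1 (.leaf 221) (.leaf 226))))) (.node 8 (.node 4 (.node 2 (.node 1 (.leaf 227) (.leaf 230)) (.node 1 (.leaf 231) (.leaf 232))) (.node 2 (.node 1 (.leaf 233) (.leaf 234)) (.node 1 (.leaf 235) (.leaf 236)))) (.node 4 (.node 2 (.node 1 (.leaf 237) (.leaf 238)) (.node 1 (.leaf 239) (.leaf 240))) (.node 2 (.node 1 (.leaf 241) (.leaf 242)) (.node 1 (.leaf 243) (.leaf 244))))))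
def node_7 : T := (.node 16 (.node 8 (.node 4 (.node 2 (.node 1 (.leaf 245) (.leaf 246)) (.node 1 (.leaf 247) (.leaf 248))) (.node 2 (.node 1 (.leaf 249) (.leaf 250)) (.node 1 (.leaf 251) (.leaf 253)))) (.node 4 (.node 2 (.node 1 (.leaf 254) (.leaf 255)) (.node 1 (.leaf 256) (.leaf 257))) (.node 2 (.node 1 (.leaf 258) (.leaf 259)) (.node 1 (.leaf 260) (.leaf 261))))) (.node 8 (.node 4 (.node 2 (.node 1 (.leaf 262) (.leaf 263)) (.node 1 (.leaf 264) (.leaf 265))) (.node 2 (.node 1 (.leaf 266) (.leaf 267)) (.node 1 (.leaf 268) (.leaf 269)))) (.node 4 (.node 2 (.node 1 (.leaf 270) (.leaf 271)) (.node 1 (.leaf 272) (.leaf 273))) (.node 2 (.node 1 (.leaf 274) (.leaf 275)) (.node 1 (.leaf 277) (.leaf 278))))))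
def node_8 : T := (.node 16 (.node 8 (.node 4 (.node 2 (.node 1 (.leaf 280) (.leaf 281)) (.node 1 (.leaf 282) (.leaf 283))) (.node 2 (.node 1 (.leaf 284) (.leaf 285)) (.node 1 (.leaf 286) (.leaf 287)))) (.node 4 (.node 2 (.node 1 (.leaf 288) (.leaf 289)) (.node 1 (.leaf 290) (.leaf 291))) (.node 2 (.node 1 (.leaf 292) (.leaf 294)) (.node 1 (.leaf 295) (.leaf 296))))) (.node 8 (.node 4 (.node 2 (.node 1 (.leaf 297) (.leaf 298)) (.node 1 (.leaf 299) (.leaf 300))) (.node 2 (.node 1 (.leaf 301) (.leaf 302)) (.node 1 (.leaf 303) (.leaf 304)))) (.node 4 (.node 2 (.node 1 (.leaf 307) (.leaf 311)) (.node 1 (.leaf 313) (.leaf 314))) (.node 2 (.node 1 (.leaf 315) (.leaf 316)) (.node 1 (.leaf 317) (.leaf 318))))))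
def node_9 : T := (.node 16 (.node 8 (.node 4 (.node 2 (.node 1 (.leaf 319) (.leaf 320)) (.node 1 (.leaf 321) (.leaf 323))) (.node 2 (.node 1 (.leaf 324) (.leaf 325)) (.node 1 (.leaf 326) (.leaf 327)))) (.node 4 (.node 2 (.node 1 (.leaf 328) (.leaf 329)) (.node 1 (.leaf 332) (.leaf 333))) (.node 2 (.node 1 (.leaf 334) (.leaf 335)) (.node 1 (.leaf 336) (.leaf 337))))) (.node 8 (.node 4 (.node 2 (.node 1 (.leaf 338) (.leaf 339)) (.node 1 (.leaf 340) (.leaf 341))) (.node 2 (.node 1 (.leaf 342) (.leaf 343)) (.node 1 (.leaf 344) (.leaf 345)))) (.node 4 (.node 2 (.node 1 (.leaf 346) (.leaf 347)) (.node 1 (.leaf 348) (.leaf 349))) (.node 2 (.node 1 (.leaf 350) (.leaf 351)) (.node 1 (.leaf 352) (.leaf 353))))))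
def node_10 : T := (.node 16 (.node 8 (.node 4 (.node 2 (.node 1 (.leaf 354) (.leaf 355)) (.node 1 (.leaf 356) (.leaf 357))) (.node 2 (.node 1 (.leaf 358) (.leaf 359)) (.node 1 (.leaf 360) (.leaf 361)))) (.node 4 (.node 2 (.node 1 (.leaf 362) (.leaf 363)) (.node 1 (.leaf 364) (.leaf 365))) (.node 2 (.node 1 (.leaf 366) (.leaf 367)) (.node 1 (.leaf 368) (.leaf 369))))) (.node 8 (.node 4 (.node 2 (.node 1 (.leaf 370) (.leaf 371)) (.node 1 (.leaf 372) (.leaf 373))) (.node 2 (.node 1 (.leaf 374) (.leaf 375)) (.node 1 (.leaf 376) (.leaf 377)))) (.node 4 (.node 2 (.node 1 (.leaf 378) (.leaf 379)) (.node 1 (.leaf 380) (.leaf 381))) (.node 2 (.node 1 (.leaf 382) (.leaf 383)) (.node 1 (.leaf 384) (.leaf 385))))))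
def node_11 : T := (.node 16 (.node 8 (.node 4 (.node 2 (.node 1 (.leaf 386) (.leaf 387)) (.node 1 (.leaf 388) (.leaf 389))) (.node 2 (.node 1 (.leaf 390) (.leaf 391)) (.node 1 (.leaf 392) (.leaf 393)))) (.node 4 (.node 2 (.node 1 (.leaf 394) (.leaf 395)) (.node 1 (.leaf 396) (.leaf 397))) (.node 2 (.node 1 (.leaf 398) (.leaf 399)) (.node 1 (.leaf 400) (.leaf 401))))) (.node 8 (.node 4 (.node 2 (.node 1 (.leaf 402) (.leaf 403)) (.node 1 (.leaf 404) (.leaf 405))) (.node 2 (.node 1 (.leaf 406) (.leaf 407)) (.node 1 (.leaf 408) (.leaf 409)))) (.node 4 (.node 2 (.node 1 (.leaf 410) (.leaf 411)) (.node 1 (.leaf 412) (.leaf 413))) (.node 2 (.node 1 (.leaf 414) (.leaf 415)) (.node 1 (.leaf 416) (.leaf 417))))))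
def node_12 : T := (.node 16 (.node 8 (.node 4 (.node 2 (.node 1 (.leaf 418) (.leaf 419)) (.node 1 (.leaf 420) (.leaf 421))) (.node 2 (.node 1 (.leaf 422) (.leaf 423)) (.node 1 (.leaf 424) (.leaf 425)))) (.node 4 (.node 2 (.node 1 (.leaf 426) (.leaf 427)) (.node 1 (.leaf 428) (.leaf 429))) (.node 2 (.node 1 (.leaf 430) (.leaf 431)) (.node 1 (.leaf 432) (.leaf 433))))) (.node 8 (.node 4 (.node 2 (.node 1 (.leaf 434) (.leaf 435)) (.node 1 (.leaf 436) (.leaf 437))) (.node 2 (.node 1 (.leaf 438) (.leaf 439)) (.node 1 (.leaf 440) (.leaf 441)))) (.node 4 (.node 2 (.node 1 (.leaf 442) (.leaf 444)) (.node 1 (.leaf 445) (.leaf 446))) (.node 2 (.node 1 (.leaf 447) (.leaf 448)) (.node 1 (.leaf 449) (.leaf 450))))))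
def node_13 : T := (.node 16 (.node 8 (.node 4 (.node 2 (.node 1 (.leaf 451) (.leaf 452)) (.node 1 (.leaf 453) (.leaf 454))) (.node 2 (.node 1 (.leaf 455) (.leaf 456)) (.node 1 (.leaf 457) (.leaf 458)))) (.node 4 (.node 2 (.node 1 (.leaf 459) (.leaf 460)) (.node 1 (.leaf 461) (.leaf 462))) (.node 2 (.node 1 (.leaf 463) (.leaf 464)) (.node 1 (.leaf 465) (.leaf 466))))) (.node 8 (.node 4 (.node 2 (.node 1 (.leaf 467) (.leaf 468)) (.node 1 (.leaf 469) (.leaf 470))) (.node 2 (.node 1 (.leaf 471) (.leaf 472)) (.node 1 (.leaf 473) (.leaf 474)))) (.node 4 (.node 2 (.node 1 (.leaf 475) (.leaf 476)) (.node 1 (.leaf 477) (.leaf 478))) (.node 2 (.node 1 (.leaf 479) (.leaf 480)) (.node 1 (.leaf 481) (.leaf 482))))))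
def node_14 : T := (.node 16 (.node 8 (.node 4 (.node 2 (.node 1 (.leaf 483) (.leaf 484)) (.node 1 (.leaf 485) (.leaf 486))) (.node 2 (.node 1 (.leaf 490) (.leaf 491)) (.node 1 (.leaf 492) (.leaf 493)))) (.node 4 (.node 2 (.node 1 (.leaf 494) (.leaf 495)) (.node 1 (.leaf 496) (.leaf 497))) (.node 2 (.node 1 (.leaf 498) (.leaf 499)) (.node 1 (.leaf 500) (.leaf 501))))) (.node 8 (.node 4 (.node 2 (.node 1 (.leaf 502) (.leaf 503)) (.node 1 (.leaf 504) (.leaf 505))) (.node 2 (.node 1 (.leaf 506) (.leaf 507)) (.node 1 (.leaf 508) (.leaf 509)))) (.node 4 (.node 2 (.node 1 (.leaf 511) (.leaf 512)) (.node 1 (.leaf 514) (.leaf 515))) (.node 2 (.node 1 (.leaf 516) (.leaf 518)) (.node 1 (.leaf 519) (.leaf 520))))))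
def node_15 : T := (.node 16 (.node 8 (.node 4 (.node 2 (.node 1 (.leaf 521) (.leaf 522)) (.node 1 (.leaf 523) (.leaf 524))) (.node 2 (.node 1 (.leaf 526) (.leaf 527)) (.node 1 (.leaf 528) (.leaf 529)))) (.node 4 (.node 2 (.node 1 (.leaf 530) (.leaf 531)) (.node 1 (.leaf 532) (.leaf 533))) (.node 2 (.node 1 (.leaf 534) (.leaf 535)) (.node 1 (.leaf 536) (.leaf 538))))) (.node 8 (.node 4 (.node 2 (.node 1 (.leaf 539) (.leaf 540)) (.node 1 (.leaf 541) (.leaf 542))) (.node 2 (.node 1 (.leaf 543) (.leaf 544)) (.node 1 (.leaf 545) (.leaf 546)))) (.node 4 (.node 2 (.node 1 (.leaf 547) (.leaf 548)) (.node 1 (.leaf 549) (.leaf 550))) (.node 2 (.node 1 (.leaf 551) (.leaf 552)) (.node 1 (.leaf 554) (.leaf 555))))))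
def node_16 : T := (.node 16 (.node 8 (.node 4 (.node 2 (.node 1 (.leaf 559) (.leaf 560)) (.node 1 (.leaf 561) (.leaf 563))) (.node 2 (.node 1 (.leaf 564) (.leaf 565)) (.node 1 (.leaf 566) (.leaf 567)))) (.node 4 (.node 2 (.node 1 (.leaf 568) (.leaf 570)) (.node 1 (.leaf 571) (.leaf 572))) (.node 2 (.node 1 (.leaf 573) (.leaf 574)) (.node 1 (.leaf 578) (.leaf 580))))) (.node 8 (.node 4 (.node 2 (.node 1 (.leaf 581) (.leaf 582)) (.node 1 (.leaf 583) (.leaf 584))) (.node 2 (.node 1 (.leaf 585) (.leaf 586)) (.node 1 (.leaf 587) (.leaf 589)))) (.node 4 (.node 2 (.node 1 (.leaf 590) (.leaf 591)) (.node 1 (.leaf 592) (.leaf 593))) (.node 2 (.node 1 (.leaf 594) (.leaf 596)) (.node 1 (.leaf 598) (.leaf 599))))))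
def node_17 : T := (.node 16 (.node 8 (.node 4 (.node 2 (.node 1 (.leaf 601) (.leaf 602)) (.node 1 (.leaf 603) (.leaf 604))) (.node 2 (.node 1 (.leaf 605) (.leaf 606)) (.node 1 (.leaf 607) (.leaf 609)))) (.node 4 (.node 2 (.node 1 (.leaf 610) (.leaf 611)) (.node 1 (.leaf 612) (.leaf 613))) (.node 2 (.node 1 (.leaf 614) (.leaf 615)) (.node 1 (.leaf 617) (.leaf 618))))) (.node 8 (.node 4 (.node 2 (.node 1 (.leaf 620) (.leaf 621)) (.node 1 (.leaf 622) (.leaf 623))) (.node 2 (.node 1 (.leaf 624) (.leaf 625)) (.node 1 (.leaf 626) (.leaf 627)))) (.node 4 (.node 2 (.node 1 (.leaf 630) (.leaf 631)) (.node 1 (.leaf 632) (.leaf 633))) (.node 2 (.node 1 (.leaf 634) (.leaf 636)) (.node 1 (.leaf 637) (.leaf 638))))))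
def node_18 : T := (.node 16 (.node 8 (.node 4 (.node 2 (.node 1 (.leaf 639) (.leaf 640)) (.node 1 (.leaf 641) (.leaf 642))) (.node 2 (.node 1 (.leaf 643) (.leaf 644)) (.node 1 (.leaf 645) (.leaf 646)))) (.node 4 (.node 2 (.node 1 (.leaf 647) (.leaf 648)) (.node 1 (.leaf 649) (.leaf 650))) (.node 2 (.node 1 (.leaf 651) (.leaf 652)) (.node 1 (.leaf 653) (.leaf 654))))) (.node 8 (.node 4 (.node 2 (.node 1 (.leaf 655) (.leaf 656)) (.node 1 (.leaf 657) (.leaf 658))) (.node 2 (.node 1 (.leaf 660) (.leaf 661)) (.node 1 (.leaf 662) (.leaf 664)))) (.node 4 (.node 2 (.node 1 (.leaf 665) (.leaf 667)) (.node 1 (.leaf 668) (.leaf 669))) (.node 2 (.node 1 (.leaf 671) (.leaf 672)) (.node 1 (.leaf 673) (.leaf 678))))))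
def node_19 : T := (.node 16 (.node 8 (.node 4 (.node 2 (.node 1 (.leaf 679) (.leaf 680)) (.node 1 (.leaf 681) (.leaf 682))) (.node 2 (.node 1 (.leaf 683) (.leaf 684)) (.node 1 (.leaf 685) (.leaf 686)))) (.node 4 (.node 2 (.node 1 (.leaf 687) (.leaf 688)) (.node 1 (.leaf 692) (.leaf 693))) (.node 2 (.node 1 (.leaf 695) (.leaf 697)) (.node 1 (.leaf 698) (.leaf 700))))) (.node 8 (.node 4 (.node 2 (.node 1 (.leaf 701) (.leaf 702)) (.node 1 (.leaf 703) (.leaf 704))) (.node 2 (.node 1 (.leaf 705) (.leaf 706)) (.node 1 (.leaf 707) (.leaf 708)))) (.node 4 (.node 2 (.node 1 (.leaf 715) (.leaf 716)) (.node 1 (.leaf 717) (.leaf 719))) (.node 2 (.node 1 (.leaf 720) (.leaf 721)) (.node 1 (.leaf 722) (.leaf 723))))))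
def node_20 : T := (.node 16 (.node 8 (.node 4 (.node 2 (.node 1 (.leaf 724) (.leaf 725)) (.node 1 (.leaf 726) (.leaf 731))) (.node 2 (.node 1 (.leaf 734) (.leaf 735)) (.node 1 (.leaf 736) (.leaf 738)))) (.node 4 (.node 2 (.node 1 (.leaf 740) (.leaf 741)) (.node 1 (.leaf 742) (.leaf 743))) (.node 2 (.node 1 (.leaf 744) (.leaf 745)) (.node 1 (.leaf 747) (.leaf 748))))) (.node 8 (.node 4 (.node 2 (.node 1 (.leaf 750) (.leaf 751)) (.node 1 (.leaf 758) (.leaf 759))) (.node 2 (.node 1 (.leaf 760) (.leaf 762)) (.node 1 (.leaf 764) (.leaf 765)))) (.node 4 (.node 2 (.node 1 (.leaf 768) (.leaf 769)) (.node 1 (.leaf 770) (.leaf 772))) (.node 2 (.node 1 (.leaf 774) (.leaf 776)) (.node 1 (.leaf 777) (.leaf 778))))))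
def node_21 : T := (.node 16 (.node 8 (.node 4 (.node 2 (.node 1 (.leaf 783) (.leaf 784)) (.node 1 (.leaf 785) (.leaf 786))) (.node 2 (.node 1 (.leaf 787) (.leaf 789)) (.node 1 (.leaf 790) (.leaf 792)))) (.node 4 (.node 2 (.node 1 (.leaf 793) (.leaf 794)) (.node 1 (.leaf 795) (.leaf 796))) (.node 2 (.node 1 (.leaf 797) (.leaf 799)) (.node 1 (.leaf 800) (.leaf 801))))) (.node 8 (.node 4 (.node 2 (.node 1 (.leaf 803) (.leaf 804)) (.node 1 (.leaf 805) (.leaf 806))) (.node 2 (.node 1 (.leaf 808) (.leaf 809)) (.node 1 (.leaf 811) (.leaf 812)))) (.node 4 (.node 2 (.node 1 (.leaf 815) (.leaf 817)) (.node 1 (.leaf 819) (.leaf 820))) (.node 2 (.node 1 (.leaf 821) (.leaf 823)) (.node 1 (.leaf 824) (.leaf 825))))))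
def node_22 : T := (.node 16 (.node 8 (.node 4 (.node 2 (.node 1 (.leaf 826) (.leaf 828)) (.node 1 (.leaf 830) (.leaf 831))) (.node 2 (.node 1 (.leaf 835) (.leaf 836)) (.node 1 (.leaf 837) (.leaf 839)))) (.node 4 (.node 2 (.node 1 (.leaf 840) (.leaf 841)) (.node 1 (.leaf 842) (.leaf 843))) (.node 2 (.node 1 (.leaf 844) (.leaf 845)) (.node 1 (.leaf 846) (.leaf 847))))) (.node 8 (.node 4 (.node 2 (.node 1 (.leaf 849) (.leaf 850)) (.node 1 (.leaf 852) (.leaf 853))) (.node 2 (.node 1 (.leaf 854) (.leaf 855)) (.node 1 (.leaf 858) (.leaf 859)))) (.node 4 (.node 2 (.node 1 (.leaf 860) (.leaf 862)) (.node 1 (.leaf 864) (.leaf 865))) (.node 2 (.node 1 (.leaf 871) (.leaf 872)) (.node 1 (.leaf 873) (.leaf 875))))))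
def node_23 : T := (.node 16 (.node 8 (.node 4 (.node 2 (.node 1 (.leaf 878) (.leaf 879)) (.node 1 (.leaf 883) (.leaf 885))) (.node 2 (.node 1 (.leaf 886) (.leaf 887)) (.node 1 (.leaf 895) (.leaf 896)))) (.node 4 (.node 2 (.node 1 (.leaf 898) (.leaf 899)) (.node 1 (.leaf 900) (.leaf 901))) (.node 2 (.node 1 (.leaf 902) (.leaf 905)) (.node 1 (.leaf 906) (.leaf 907))))) (.node 8 (.node 4 (.node 2 (.node 1 (.leaf 908) (.leaf 909)) (.node 1 (.leaf 910) (.leaf 913))) (.node 2 (.node 1 (.leaf 914) (.leaf 916)) (.node 1 (.leaf 918) (.leaf 922)))) (.node 4 (.node 2 (.node 1 (.leaf 923) (.leaf 924)) (.node 1 (.leaf 925) (.leaf 926))) (.node 2 (.node 1 (.leaf 927) (.leaf 929)) (.node 1 (.leaf 932) (.leaf 934))))))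
def node_24 : T := (.node 16 (.node 8 (.node 4 (.node 2 (.node 1 (.leaf 936) (.leaf 937)) (.node 1 (.leaf 938) (.leaf 939))) (.node 2 (.node 1 (.leaf 940) (.leaf 946)) (.node 1 (.leaf 947) (.leaf 952)))) (.node 4 (.node 2 (.node 1 (.leaf 954) (.leaf 956)) (.node 1 (.leaf 957) (.leaf 959))) (.node 2 (.node 1 (.leaf 960) (.leaf 962)) (.node 1 (.leaf 963) (.leaf 964))))) (.node 8 (.node 4 (.node 2 (.node 1 (.leaf 965) (.leaf 971)) (.node 1 (.leaf 972) (.leaf 973))) (.node 2 (.node 1 (.leaf 974) (.leaf 976)) (.node 1 (.leaf 977) (.leaf 978)))) (.node 4 (.node 2 (.node 1 (.leaf 989) (.leaf 990)) (.node 1 (.leaf 993) (.leaf 994))) (.node 2 (.node 1 (.leaf 995) (.leaf 996)) (.node 1 (.leaf 997) (.leaf 998))))))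
def node_25 : T := (.node 16 (.node 8 (.node 4 (.node 2 (.node 1 (.leaf 999) (.leaf 1001)) (.node 1 (.leaf 1002) (.leaf 1003))) (.node 2 (.node 1 (.leaf 1004) (.leaf 1006)) (.node 1 (.leaf 1008) (.leaf 1009)))) (.node 4 (.node 2 (.node 1 (.leaf 1010) (.leaf 1011)) (.node 1 (.leaf 1012) (.leaf 1013))) (.node 2 (.node 1 (.leaf 1014) (.leaf 1016)) (.node 1 (.leaf 1017) (.leaf 1018))))) (.node 8 (.node 4 (.node 2 (.node 1 (.leaf 1019) (.leaf 1020)) (.node 1 (.leaf 1021) (.leaf 1022))) (.node 2 (.node 1 (.leaf 1023) (.leaf 1024)) (.node 1 (.leaf 1025) (.leaf 1026)))) (.node 4 (.node 2 (.node 1 (.leaf 1028) (.leaf 1031)) (.node 1 (.leaf 1033) (.leaf 1034))) (.node 2 (.node 1 (.leaf 1036) (.leaf 1037)) (.node 1 (.leaf 1038) (.leaf 1040))))))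
def node_26 : T := (.node 16 (.node 8 (.node 4 (.node 2 (.node 1 (.leaf 1044) (.leaf 1047)) (.node 1 (.leaf 1049) (.leaf 1052))) (.node 2 (.node 1 (.leaf 1056) (.leaf 1064)) (.node 1 (.leaf 1065) (.leaf 1068)))) (.node 4 (.node 2 (.node 1 (.leaf 1069) (.leaf 1071)) (.node 1 (.leaf 1076) (.leaf 1077))) (.node 2 (.node 1 (.leaf 1078) (.leaf 1082)) (.node 1 (.leaf 1083) (.leaf 1084))))) (.node 8 (.node 4 (.node 2 (.node 1 (.leaf 1087) (.leaf 1091)) (.node 1 (.leaf 1099) (.leaf 1101))) (.node 2 (.node 1 (.leaf 1102) (.leaf 1106)) (.node 1 (.leaf 1107) (.leaf 1110)))) (.node 4 (.node 2 (.node 1 (.leaf 1113) (.leaf 1114)) (.node 1 (.leaf 1115) (.leaf 1117))) (.node 2 (.node 1 (.leaf 1118) (.leaf 1119)) (.node 1 (.leaf 1121) (.leaf 1122))))))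
def node_27 : T := (.node 16 (.node 8 (.node 4 (.node 2 (.node 1 (.leaf 1123) (.leaf 1124)) (.node 1 (.leaf 1127) (.leaf 1128))) (.node 2 (.node 1 (.leaf 1129) (.leaf 1130)) (.node 1 (.leaf 1131) (.leaf 1132)))) (.node 4 (.node 2 (.node 1 (.leaf 1133) (.leaf 1146)) (.node 1 (.leaf 1148) (.leaf 1159))) (.node 2 (.node 1 (.leaf 1166) (.leaf 1170)) (.node 1 (.leaf 1171) (.leaf 1174))))) (.node 8 (.node 4 (.node 2 (.node 1 (.leaf 1177) (.leaf 1178)) (.node 1 (.leaf 1181) (.leaf 1182))) (.node 2 (.node 1 (.leaf 1183) (.leaf 1195)) (.node 1 (.leaf 1196) (.leaf 1197)))) (.node 4 (.node 2 (.node 1 (.leaf 1199) (.leaf 1200)) (.node 1 (.leaf 1201) (.leaf 1219))) (.node 2 (.node 1 (.leaf 1222) (.leaf 1224)) (.node 1 (.leaf 1244) (.leaf 1251))))))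
def node_28 : T := (.node 16 (.node 8 (.node 4 (.node 2 (.node 1 (.leaf 1252) (.leaf 1256)) (.node 1 (.leaf 1265) (.leaf 1278))) (.node 2 (.node 1 (.leaf 1279) (.leaf 1281)) (.node 1 (.leaf 1282) (.leaf 1283)))) (.node 4 (.node 2 (.node 1 (.leaf 1286) (.leaf 1292)) (.node 1 (.leaf 1293) (.leaf 1295))) (.node 2 (.node 1 (.leaf 1298) (.leaf 1302)) (.node 1 (.leaf 1303) (.leaf 1304))))) (.node 8 (.node 4 (.node 2 (.node 1 (.leaf 1312) (.leaf 1316)) (.node 1 (.leaf 1324) (.leaf 1326))) (.node 2 (.node 1 (.leaf 1328) (.leaf 1332)) (.node 1 (.leaf 1333) (.leaf 1336)))) (.node 4 (.node 2 (.node 1 (.leaf 1339) (.leaf 1341)) (.node 1 (.leaf 1347) (.leaf 1348))) (.node 2 (.node 1 (.leaf 1350) (.leaf 1353)) (.node 1 (.leaf 1356) (.leaf 1357))))))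
def node_29 : T := (.node 16 (.node 8 (.node 4 (.node 2 (.node 1 (.leaf 1358) (.leaf 1359)) (.node 1 (.leaf 1360) (.leaf 1366))) (.node 2 (.node 1 (.leaf 1367) (.leaf 1368)) (.node 1 (.leaf 1370) (.leaf 1373)))) (.node 4 (.node 2 (.node 1 (.leaf 1386) (.leaf 1390)) (.node 1 (.leaf 1396) (.leaf 1398))) (.node 2 (.node 1 (.leaf 1401) (.leaf 1403)) (.node 1 (.leaf 1406) (.leaf 1407))))) (.node 8 (.node 4 (.node 2 (.node 1 (.leaf 1408) (.leaf 1409)) (.node 1 (.leaf 1410) (.leaf 1411))) (.node 2 (.node 1 (.leaf 1412) (.leaf 1413)) (.node 1 (.leaf 1414) (.leaf 1415)))) (.node 4 (.node 2 (.node 1 (.leaf 1416) (.leaf 1417)) (.node 1 (.leaf 1418) (.leaf 1419))) (.node 2 (.node 1 (.leaf 1420) (.leaf 1421)) (.node 1 (.leaf 1422) (.leaf 1423))))))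
def node_30 : T := (.node 16 (.node 8 (.node 4 (.node 2 (.node 1 (.leaf 1424) (.leaf 1425)) (.node 1 (.leaf 1426) (.leaf 1427))) (.node 2 (.node 1 (.leaf 1428) (.leaf 1429)) (.node 1 (.leaf 1430) (.leaf 1431)))) (.node 4 (.node 2 (.node 1 (.leaf 1432) (.leaf 1433)) (.node 1 (.leaf 1434) (.leaf 1435))) (.node 2 (.node 1 (.leaf 1436) (.leaf 1437)) (.node 1 (.leaf 1438) (.leaf 1439))))) (.node 8 (.node 4 (.node 2 (.node 1 (.leaf 1440) (.leaf 1441)) (.node 1 (.leaf 1442) (.leaf 1443))) (.node 2 (.node 1 (.leaf 1444) (.leaf 1445)) (.node 1 (.leaf 1446) (.leaf 1447)))) (.node 4 (.node 2 (.node 1 (.leaf 1448) (.leaf 1449)) (.node 1 (.leaf 1450) (.leaf 1451))) (.node 2 (.node 1 (.leaf 1452) (.leaf 1453)) (.node 1 (.leaf 1454) (.leaf 1455))))))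
def node_31 : T := (.node 16 (.node 8 (.node 4 (.node 2 (.node 1 (.leaf 1456) (.leaf 1457)) (.node 1 (.leaf 1458) (.leaf 1459))) (.node 2 (.node 1 (.leaf 1460) (.leaf 1461)) (.node 1 (.leaf 1462) (.leaf 1463)))) (.node 4 (.node 2 (.node 1 (.leaf 1464) (.leaf 1465)) (.node 1 (.leaf 1466) (.leaf 1467))) (.node 2 (.node 1 (.leaf 1468) (.leaf 1469)) (.node 1 (.leaf 1470) (.leaf 1471))))) (.node 8 (.node 4 (.node 2 (.node 1 (.leaf 1472) (.leaf 1473)) (.node 1 (.leaf 1474) (.leaf 1475))) (.node 2 (.node 1 (.leaf 1476) (.leaf 1477)) (.node 1 (.leaf 1478) (.leaf 1479)))) (.node 4 (.node 2 (.node 1 (.leaf 1480) (.leaf 1481)) (.node 1 (.leaf 1482) (.leaf 1483))) (.node 2 (.node 1 (.leaf 1484) (.leaf 1485)) (.node 1 (.leaf 1486) (.leaf 1487))))))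
def node_32 : T := (.node 10 (.node 5 (.node 2 (.node 1 (.leaf 1488) (.leaf 1489)) (.node 1 (.leaf 1490) (.node 1 (.leaf 1491) (.leaf 1492)))) (.node 2 (.node 1 (.leaf 1493) (.leaf 1494)) (.node 1 (.leaf 1495) (.node 1 (.leaf 1496) (.leaf 1497))))) (.node 5 (.node 2 (.node 1 (.leaf 1498) (.leaf 1499)) (.node 1 (.leaf 1500) (.node 1 (.leaf 1501) (.leaf 1502)))) (.node 3 (.node 1 (.leaf 1503) (.node 1 (.leaf 1504) (.leaf 1505))) (.node 1 (.leaf 1506) (.node 1 (.leaf 1507) (.leaf 1508))))))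
/-- Packed data. -/
def node : T := (.node 512 (.node 256 (.node 128 (.node 64 (.node 32 node_0 node_1) (.node 32 node_2 node_3)) (.node 64 (.node 32 node_4 node_5) (.node 32 node_6 node_7))) (.node 128 (.node 64 (.node 32 node_8 node_9) (.node 32 node_10 node_11)) (.node 64 (.node 32 node_12 node_13) (.node 32 node_14 node_15)))) (.node 256 (.node 128 (.node 64 (.node 32 node_16 node_17) (.node 32 node_18 node_19)) (.node 64 (.node 32 node_20 node_21) (.node 32 node_22 node_23))) (.node 128 (.node 64 (.node 32 node_24 node_25) (.node 32 node_26 node_27)) (.node 64 (.node 32 node_28 node_29) (.node 32 node_30 (.node 32 node_31 node_32))))))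
def pre0_0 : T := (.node 16 (.node 8 (.node 4 (.node 2 (.node 1 (.leaf 0) (.leaf 2)) (.node 1 (.leaf 1) (.leaf 10))) (.node 2 (.node 1 (.leaf 4) (.leaf 7)) (.node 1 (.leaf 17) (.leaf 5)))) (.node 4 (.node 2 (.node 1 (.leaf 8) (.leaf 27)) (.node 1 (.leaf 3) (.leaf 20))) (.node 2 (.node 1 (.leaf 21) (.leaf 35)) (.node 1 (.leaf 24) (.leaf 25))))) (.node 8 (.node 4 (.node 2 (.node 1 (.leaf 16) (.leaf 6)) (.node 1 (.leaf 18) (.leaf 47))) (.node 2 (.node 1 (.leaf 11) (.leaf 12)) (.node 1 (.leaf 34) (.leaf 53)))) (.node 4 (.node 2 (.node 1 (.leaf 14) (.leaf 15)) (.node 1 (.leaf 42) (.leaf 9))) (.node 2 (.node 1 (.leaf 65) (.leaf 69)) (.node 1 (.leaf 72) (.leaf 51))))))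
def pre0_1 : T := (.node 16 (.node 8 (.node 4 (.node 2 (.node 1 (.leaf 80) (.leaf 44)) (.node 1 (.leaf 22) (.leaf 13))) (.node 2 (.node 1 (.leaf 92) (.leaf 96)) (.node 1 (.leaf 71) (.leaf 102)))) (.node 4 (.node 2 (.node 1 (.leaf 90) (.leaf 46)) (.node 1 (.leaf 26) (.leaf 107))) (.node 2 (.node 1 (.leaf 33) (.leaf 111)) (.node 1 (.leaf 41) (.leaf 19))))) (.node 8 (.node 4 (.node 2 (.node 1 (.leaf 121) (.leaf 122)) (.node 1 (.leaf 123) (.leaf 31))) (.node 2 (.node 1 (.leaf 128) (.leaf 23)) (.node 1 (.leaf 135) (.leaf 139)))) (.node 4 (.node 2 (.node 1 (.leaf 142) (.leaf 114)) (.node 1 (.leaf 150) (.leaf 153))) (.node 2 (.node 1 (.leaf 158) (.leaf 162)) (.node 1 (.leaf 165) (.leaf 119))))))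
def pre0_2 : T := (.node 16 (.node 8 (.node 4 (.node 2 (.node 1 (.leaf 173) (.leaf 28)) (.node 1 (.leaf 183) (.leaf 186))) (.node 2 (.node 1 (.leaf 188) (.leaf 29)) (.node 1 (.leaf 193) (.leaf 38)))) (.node 4 (.node 2 (.node 1 (.leaf 30) (.leaf 166)) (.node 1 (.leaf 124) (.leaf 204))) (.node 2 (.node 1 (.leaf 169) (.leaf 207)) (.node 1 (.leaf 87) (.leaf 127))))) (.node 8 (.node 4 (.node 2 (.node 1 (.leaf 32) (.leaf 215)) (.node 1 (.leaf 219) (.leaf 222))) (.node 2 (.node 1 (.leaf 110) (.leaf 230)) (.node 1 (.leaf 185) (.leaf 78)))) (.node 4 (.node 2 (.node 1 (.leaf 192) (.leaf 161)) (.node 1 (.leaf 40) (.leaf 242))) (.node 2 (.node 1 (.leaf 36) (.leaf 170)) (.node 1 (.leaf 159) (.leaf 252))))))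
def pre0_3 : T := (.node 16 (.node 8 (.node 4 (.node 2 (.node 1 (.leaf 37) (.leaf 256)) (.node 1 (.leaf 255) (.leaf 260))) (.node 2 (.node 1 (.leaf 195) (.leaf 262)) (.node 1 (.leaf 39) (.leaf 160)))) (.node 4 (.node 2 (.node 1 (.leaf 269) (.leaf 181)) (.node 1 (.leaf 273) (.leaf 43))) (.node 2 (.node 1 (.leaf 279) (.leaf 143)) (.node 1 (.leaf 84) (.leaf 45))))) (.node 8 (.node 4 (.node 2 (.node 1 (.leaf 289) (.leaf 292)) (.node 1 (.leaf 57) (.leaf 298))) (.node 2 (.node 1 (.leaf 302) (.leaf 303)) (.node 1 (.leaf 190) (.leaf 63)))) (.node 4 (.node 2 (.node 1 (.leaf 308) (.leaf 48)) (.node 1 (.leaf 49) (.leaf 50))) (.node 2 (.node 1 (.leaf 74) (.leaf 316)) (.node 1 (.leaf 307) (.leaf 79))))))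
def pre0_4 : T := (.node 16 (.node 8 (.node 4 (.node 2 (.node 1 (.leaf 52) (.leaf 146)) (.node 1 (.leaf 221) (.leaf 331))) (.node 2 (.node 1 (.leaf 224) (.leaf 287)) (.node 1 (.leaf 334) (.leaf 54)))) (.node 4 (.node 2 (.node 1 (.leaf 340) (.leaf 343)) (.node 1 (.leaf 345) (.leaf 55))) (.node 2 (.node 1 (.leaf 330) (.leaf 152)) (.node 1 (.leaf 56) (.leaf 109))))) (.node 8 (.node 4 (.node 2 (.node 1 (.leaf 294) (.leaf 354)) (.node 1 (.leaf 129) (.leaf 360))) (.node 2 (.node 1 (.leaf 276) (.leaf 216)) (.node 1 (.leaf 58) (.leaf 325)))) (.node 4 (.node 2 (.node 1 (.leaf 141) (.leaf 59)) (.node 1 (.leaf 322) (.leaf 323))) (.node 2 (.node 1 (.leaf 300) (.leaf 378)) (.node 1 (.leaf 60) (.leaf 94))))))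
def pre0_5 : T := (.node 16 (.node 8 (.node 4 (.node 2 (.node 1 (.leaf 103) (.leaf 89)) (.node 1 (.leaf 61) (.leaf 191))) (.node 2 (.node 1 (.leaf 305) (.leaf 62)) (.node 1 (.leaf 73) (.leaf 203)))) (.node 4 (.node 2 (.node 1 (.leaf 393) (.leaf 76)) (.node 1 (.leaf 93) (.leaf 209))) (.node 2 (.node 1 (.leaf 258) (.leaf 64)) (.node 1 (.leaf 406) (.leaf 409))))) (.node 8 (.node 4 (.node 2 (.node 1 (.leaf 412) (.leaf 382)) (.node 1 (.leaf 420) (.leaf 425))) (.node 2 (.node 1 (.leaf 427) (.leaf 105)) (.node 1 (.leaf 198) (.leaf 66)))) (.node 4 (.node 2 (.node 1 (.leaf 432) (.leaf 86)) (.node 1 (.leaf 67) (.leaf 436))) (.node 2 (.node 1 (.leaf 68) (.leaf 249)) (.node 1 (.leaf 118) (.leaf 163))))))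
def pre0_6 : T := (.node 16 (.node 8 (.node 4 (.node 2 (.node 1 (.leaf 88) (.leaf 70)) (.node 1 (.leaf 335) (.leaf 100))) (.node 2 (.node 1 (.leaf 444) (.leaf 388)) (.node 1 (.leaf 182) (.leaf 314)))) (.node 4 (.node 2 (.node 1 (.leaf 449) (.leaf 257)) (.node 1 (.leaf 435) (.leaf 167))) (.node 2 (.node 1 (.leaf 75) (.leaf 456)) (.node 1 (.leaf 374) (.leaf 77))))) (.node 8 (.node 4 (.node 2 (.node 1 (.leaf 274) (.leaf 171)) (.node 1 (.leaf 313) (.leaf 445))) (.node 2 (.node 1 (.leaf 293) (.leaf 277)) (.node 1 (.leaf 464) (.leaf 81)))) (.node 4 (.node 2 (.node 1 (.leaf 149) (.leaf 365)) (.node 1 (.leaf 346) (.leaf 82))) (.node 2 (.node 1 (.leaf 473) (.leaf 130)) (.node 1 (.leaf 83) (.leaf 461))))))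
def pre0_7 : T := (.node 16 (.node 8 (.node 4 (.node 2 (.node 1 (.leaf 132) (.leaf 476)) (.node 1 (.leaf 463) (.leaf 482))) (.node 2 (.node 1 (.leaf 484) (.leaf 284)) (.node 1 (.leaf 85) (.leaf 459)))) (.node 4 (.node 2 (.node 1 (.leaf 485) (.leaf 487)) (.node 1 (.leaf 275) (.leaf 304))) (.node 2 (.node 1 (.leaf 391) (.leaf 261)) (.node 1 (.leaf 495) (.leaf 268))))) (.node 8 (.node 4 (.node 2 (.node 1 (.leaf 270) (.leaf 501)) (.node 1 (.leaf 91) (.leaf 507))) (.node 2 (.node 1 (.leaf 510) (.leaf 443)) (.node 1 (.leaf 491) (.leaf 387)))) (.node 4 (.node 2 (.node 1 (.leaf 399) (.leaf 189)) (.node 1 (.leaf 517) (.leaf 448))) (.node 2 (.node 1 (.leaf 95) (.leaf 440)) (.node 1 (.leaf 494) (.leaf 98))))))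
def pre0_8 : T := (.node 16 (.node 8 (.node 4 (.node 2 (.node 1 (.leaf 97) (.leaf 201)) (.node 1 (.leaf 172) (.leaf 315))) (.node 2 (.node 1 (.leaf 99) (.leaf 237)) (.node 1 (.leaf 101) (.leaf 534)))) (.node 4 (.node 2 (.node 1 (.leaf 537) (.leaf 357)) (.node 1 (.leaf 532) (.leaf 544))) (.node 2 (.node 1 (.leaf 239) (.leaf 104)) (.node 1 (.leaf 240) (.leaf 438))))) (.node 8 (.node 4 (.node 2 (.node 1 (.leaf 550) (.leaf 106)) (.node 1 (.leaf 208) (.leaf 234))) (.node 2 (.node 1 (.leaf 148) (.leaf 213)) (.node 1 (.leaf 413) (.leaf 108)))) (.node 4 (.node 2 (.node 1 (.leaf 562) (.leaf 563)) (.node 1 (.leaf 353) (.leaf 290))) (.node 2 (.node 1 (.leaf 229) (.leaf 569)) (.node 1 (.leaf 364) (.leaf 133))))))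
def pre0_9 : T := (.node 16 (.node 8 (.node 4 (.node 2 (.node 1 (.leaf 572) (.leaf 112)) (.node 1 (.leaf 283) (.leaf 474))) (.node 2 (.node 1 (.leaf 113) (.leaf 212)) (.node 1 (.leaf 144) (.leaf 579)))) (.node 4 (.node 2 (.node 1 (.leaf 299) (.leaf 327)) (.node 1 (.leaf 115) (.leaf 296))) (.node 2 (.node 1 (.leaf 156) (.leaf 587)) (.node 1 (.leaf 116) (.leaf 117))))) (.node 8 (.node 4 (.node 2 (.node 1 (.leaf 235) (.leaf 164)) (.node 1 (.leaf 573) (.leaf 126))) (.node 2 (.node 1 (.leaf 120) (.leaf 599)) (.node 1 (.leaf 589) (.leaf 604)))) (.node 4 (.node 2 (.node 1 (.leaf 324) (.leaf 210)) (.node 1 (.leaf 199) (.leaf 259))) (.node 2 (.node 1 (.leaf 125) (.leaf 614)) (.node 1 (.leaf 519) (.leaf 518))))))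
def pre0_10 : T := (.node 16 (.node 8 (.node 4 (.node 2 (.node 1 (.leaf 612) (.leaf 525)) (.node 1 (.leaf 154) (.leaf 155))) (.node 2 (.node 1 (.leaf 312) (.leaf 151)) (.node 1 (.leaf 628) (.leaf 297)))) (.node 4 (.node 2 (.node 1 (.leaf 367) (.leaf 627)) (.node 1 (.leaf 140) (.leaf 131))) (.node 2 (.node 1 (.leaf 634) (.leaf 571)) (.node 1 (.leaf 134) (.leaf 194))))) (.node 8 (.node 4 (.node 2 (.node 1 (.leaf 639) (.leaf 624)) (.node 1 (.leaf 350) (.leaf 377))) (.node 2 (.node 1 (.leaf 136) (.leaf 446)) (.node 1 (.leaf 376) (.leaf 137)))) (.node 4 (.node 2 (.node 1 (.leaf 481) (.leaf 138)) (.node 1 (.leaf 218) (.leaf 586))) (.node 2 (.node 1 (.leaf 648) (.leaf 371)) (.node 1 (.leaf 338) (.leaf 483))))))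
def pre0_11 : T := (.node 16 (.node 8 (.node 4 (.node 2 (.node 1 (.leaf 654) (.leaf 282)) (.node 1 (.leaf 145) (.leaf 658))) (.node 2 (.node 1 (.leaf 661) (.leaf 265)) (.node 1 (.leaf 666) (.leaf 558)))) (.node 4 (.node 2 (.node 1 (.leaf 147) (.leaf 647)) (.node 1 (.leaf 670) (.leaf 577))) (.node 2 (.node 1 (.leaf 286) (.leaf 217)) (.node 1 (.leaf 576) (.leaf 328))))) (.node 8 (.node 4 (.node 2 (.node 1 (.leaf 674) (.leaf 556)) (.node 1 (.leaf 653) (.leaf 349))) (.node 2 (.node 1 (.leaf 543) (.leaf 633)) (.node 1 (.leaf 206) (.leaf 683)))) (.node 4 (.node 2 (.node 1 (.leaf 342) (.leaf 339)) (.node 1 (.leaf 157) (.leaf 663))) (.node 2 (.node 1 (.leaf 694) (.leaf 533)) (.node 1 (.leaf 177) (.leaf 411))))))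
def pre0_12 : T := (.node 16 (.node 8 (.node 4 (.node 2 (.node 1 (.leaf 700) (.leaf 426)) (.node 1 (.leaf 703) (.leaf 247))) (.node 2 (.node 1 (.leaf 197) (.leaf 439)) (.node 1 (.leaf 500) (.leaf 236)))) (.node 4 (.node 2 (.node 1 (.leaf 526) (.leaf 168)) (.node 1 (.leaf 713) (.leaf 575))) (.node 2 (.node 1 (.leaf 718) (.leaf 717)) (.node 1 (.leaf 711) (.leaf 248))))) (.node 8 (.node 4 (.node 2 (.node 1 (.leaf 724) (.leaf 728)) (.node 1 (.leaf 421) (.leaf 538))) (.node 2 (.node 1 (.leaf 690) (.leaf 570)) (.node 1 (.leaf 174) (.leaf 739)))) (.node 4 (.node 2 (.node 1 (.leaf 531) (.leaf 175)) (.node 1 (.leaf 742) (.leaf 383))) (.node 2 (.node 1 (.leaf 176) (.leaf 278)) (.node 1 (.leaf 696) (.leaf 749))))))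
def pre0_13 : T := (.node 16 (.node 8 (.node 4 (.node 2 (.node 1 (.leaf 613) (.leaf 506)) (.node 1 (.leaf 756) (.leaf 698))) (.node 2 (.node 1 (.leaf 178) (.leaf 402)) (.node 1 (.leaf 759) (.leaf 762)))) (.node 4 (.node 2 (.node 1 (.leaf 699) (.leaf 179)) (.node 1 (.leaf 385) (.leaf 180))) (.node 2 (.node 1 (.leaf 434) (.leaf 768)) (.node 1 (.leaf 492) (.leaf 772))))) (.node 8 (.node 4 (.node 2 (.node 1 (.leaf 184) (.leaf 746)) (.node 1 (.leaf 428) (.leaf 202))) (.node 2 (.node 1 (.leaf 187) (.leaf 775)) (.node 1 (.leaf 271) (.leaf 389)))) (.node 4 (.node 2 (.node 1 (.leaf 253) (.leaf 778)) (.node 1 (.leaf 549) (.leaf 245))) (.node 2 (.node 1 (.leaf 196) (.leaf 211)) (.node 1 (.leaf 341) (.leaf 784))))))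
def pre0_14 : T := (.node 16 (.node 8 (.node 4 (.node 2 (.node 1 (.leaf 251) (.leaf 200)) (.node 1 (.leaf 511) (.leaf 791))) (.node 2 (.node 1 (.leaf 793) (.leaf 774)) (.node 1 (.leaf 797) (.leaf 800)))) (.node 4 (.node 2 (.node 1 (.leaf 205) (.leaf 803)) (.node 1 (.leaf 805) (.leaf 231))) (.node 2 (.node 1 (.leaf 561) (.leaf 223)) (.node 1 (.leaf 810) (.leaf 226))))) (.node 8 (.node 4 (.node 2 (.node 1 (.leaf 214) (.leaf 819)) (.node 1 (.leaf 823) (.leaf 726))) (.node 2 (.node 1 (.leaf 808) (.leaf 829)) (.node 1 (.leaf 831) (.leaf 625)))) (.node 4 (.node 2 (.node 1 (.leaf 832) (.leaf 220)) (.node 1 (.leaf 291) (.leaf 834))) (.node 2 (.node 1 (.leaf 225) (.leaf 721)) (.node 1 (.leaf 714) (.leaf 841))))))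
def pre0_15 : T := (.node 16 (.node 8 (.node 4 (.node 2 (.node 1 (.leaf 716) (.leaf 344)) (.node 1 (.leaf 227) (.leaf 351))) (.node 2 (.node 1 (.leaf 228) (.leaf 232)) (.node 1 (.leaf 667) (.leaf 233)))) (.node 4 (.node 2 (.node 1 (.leaf 848) (.leaf 849)) (.node 1 (.leaf 780) (.leaf 246))) (.node 2 (.node 1 (.leaf 430) (.leaf 521)) (.node 1 (.leaf 254) (.leaf 238))))) (.node 8 (.node 4 (.node 2 (.node 1 (.leaf 855) (.leaf 857)) (.node 1 (.leaf 776) (.leaf 863))) (.node 2 (.node 1 (.leaf 390) (.leaf 241)) (.node 1 (.leaf 867) (.leaf 789)))) (.node 4 (.node 2 (.node 1 (.leaf 787) (.leaf 786)) (.node 1 (.leaf 417) (.leaf 243))) (.node 2 (.node 1 (.leaf 872) (.leaf 708)) (.node 1 (.leaf 244) (.leaf 450))))))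
def pre0_16 : T := (.node 16 (.node 8 (.node 4 (.node 2 (.node 1 (.leaf 876) (.leaf 846)) (.node 1 (.leaf 871) (.leaf 850))) (.node 2 (.node 1 (.leaf 881) (.leaf 250)) (.node 1 (.leaf 319) (.leaf 318)))) (.node 4 (.node 2 (.node 1 (.leaf 781) (.leaf 493)) (.node 1 (.leaf 885) (.leaf 880))) (.node 2 (.node 1 (.leaf 809) (.leaf 321)) (.node 1 (.leaf 392) (.leaf 689))))) (.node 8 (.node 4 (.node 2 (.node 1 (.leaf 731) (.leaf 597)) (.node 1 (.leaf 891) (.leaf 408))) (.node 2 (.node 1 (.leaf 266) (.leaf 381)) (.node 1 (.leaf 263) (.leaf 595)))) (.node 4 (.node 2 (.node 1 (.leaf 546) (.leaf 264)) (.node 1 (.leaf 403) (.leaf 773))) (.node 2 (.node 1 (.leaf 895) (.leaf 893)) (.node 1 (.leaf 898) (.leaf 372))))))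
def pre0_17 : T := (.node 16 (.node 8 (.node 4 (.node 2 (.node 1 (.leaf 267) (.leaf 603)) (.node 1 (.leaf 536) (.leaf 761))) (.node 2 (.node 1 (.leaf 901) (.leaf 442)) (.node 1 (.leaf 272) (.leaf 905)))) (.node 4 (.node 2 (.node 1 (.leaf 671) (.leaf 629)) (.node 1 (.leaf 910) (.leaf 744))) (.node 2 (.node 1 (.leaf 369) (.leaf 865)) (.node 1 (.leaf 359) (.leaf 859))))) (.node 8 (.node 4 (.node 2 (.node 1 (.leaf 914) (.leaf 460)) (.node 1 (.leaf 280) (.leaf 281))) (.node 2 (.node 1 (.leaf 919) (.leaf 920)) (.node 1 (.leaf 921) (.leaf 635)))) (.node 4 (.node 2 (.node 1 (.leaf 869) (.leaf 285)) (.node 1 (.leaf 405) (.leaf 333))) (.node 2 (.node 1 (.leaf 288) (.leaf 306)) (.node 1 (.leaf 830) (.leaf 395))))))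
def pre0_18 : T := (.node 16 (.node 8 (.node 4 (.node 2 (.node 1 (.leaf 366) (.leaf 363)) (.node 1 (.leaf 864) (.leaf 295))) (.node 2 (.node 1 (.leaf 932) (.leaf 907)) (.node 1 (.leaf 824) (.leaf 725)))) (.node 4 (.node 2 (.node 1 (.leaf 904) (.leaf 643)) (.node 1 (.leaf 347) (.leaf 301))) (.node 2 (.node 1 (.leaf 748) (.leaf 310)) (.node 1 (.leaf 649) (.leaf 852))))) (.node 8 (.node 4 (.node 2 (.node 1 (.leaf 754) (.leaf 939)) (.node 1 (.leaf 890) (.leaf 535))) (.node 2 (.node 1 (.leaf 679) (.leaf 529)) (.node 1 (.leaf 692) (.leaf 309)))) (.node 4 (.node 2 (.node 1 (.leaf 946) (.leaf 732)) (.node 1 (.leaf 730) (.leaf 545))) (.node 2 (.node 1 (.leaf 311) (.leaf 669)) (.node 1 (.leaf 938) (.leaf 722))))))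
def pre0_19 : T := (.node 16 (.node 8 (.node 4 (.node 2 (.node 1 (.leaf 794) (.leaf 621)) (.node 1 (.leaf 883) (.leaf 948))) (.node 2 (.node 1 (.leaf 320) (.leaf 416)) (.node 1 (.leaf 317) (.leaf 950)))) (.node 4 (.node 2 (.node 1 (.leaf 795) (.leaf 642)) (.node 1 (.leaf 641) (.leaf 741))) (.node 2 (.node 1 (.leaf 949) (.leaf 609)) (.node 1 (.leaf 882) (.leaf 911))))) (.node 8 (.node 4 (.node 2 (.node 1 (.leaf 337) (.leaf 471)) (.node 1 (.leaf 844) (.leaf 329))) (.node 2 (.node 1 (.leaf 326) (.leaf 553)) (.node 1 (.leaf 892) (.leaf 956)))) (.node 4 (.node 2 (.node 1 (.leaf 884) (.leaf 373)) (.node 1 (.leaf 332) (.leaf 567))) (.node 2 (.node 1 (.leaf 964) (.leaf 968)) (.node 1 (.leaf 954) (.leaf 336))))))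
def pre0_20 : T := (.node 16 (.node 8 (.node 4 (.node 2 (.node 1 (.leaf 951) (.leaf 618)) (.node 1 (.leaf 617) (.leaf 585))) (.node 2 (.node 1 (.leaf 974) (.leaf 684)) (.node 1 (.leaf 779) (.leaf 361)))) (.node 4 (.node 2 (.node 1 (.leaf 348) (.leaf 590)) (.node 1 (.leaf 815) (.leaf 665))) (.node 2 (.node 1 (.leaf 801) (.leaf 370)) (.node 1 (.leaf 352) (.leaf 915))))) (.node 8 (.node 4 (.node 2 (.node 1 (.leaf 981) (.leaf 984)) (.node 1 (.leaf 355) (.leaf 942))) (.node 2 (.node 1 (.leaf 733) (.leaf 356)) (.node 1 (.leaf 757) (.leaf 379)))) (.node 4 (.node 2 (.node 1 (.leaf 680) (.leaf 651)) (.node 1 (.leaf 358) (.leaf 486))) (.node 2 (.node 1 (.leaf 945) (.leaf 605)) (.node 1 (.leaf 362) (.leaf 552))))))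
def pre0_21 : T := (.node 16 (.node 8 (.node 4 (.node 2 (.node 1 (.leaf 989) (.leaf 686)) (.node 1 (.leaf 368) (.leaf 878))) (.node 2 (.node 1 (.leaf 925) (.leaf 993)) (.node 1 (.leaf 995) (.leaf 596)))) (.node 4 (.node 2 (.node 1 (.leaf 664) (.leaf 997)) (.node 1 (.leaf 710) (.leaf 375))) (.node 2 (.node 1 (.leaf 645) (.leaf 998)) (.node 1 (.leaf 673) (.leaf 996))))) (.node 8 (.node 4 (.node 2 (.node 1 (.leaf 758) (.leaf 527)) (.node 1 (.leaf 404) (.leaf 798))) (.node 2 (.node 1 (.leaf 598) (.leaf 729)) (.node 1 (.leaf 380) (.leaf 874)))) (.node 4 (.node 2 (.node 1 (.leaf 414) (.leaf 873)) (.node 1 (.leaf 419) (.leaf 424))) (.node 2 (.node 1 (.leaf 384) (.leaf 856)) (.node 1 (.leaf 1001) (.leaf 386))))))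
def pre0_22 : T := (.node 16 (.node 8 (.node 4 (.node 2 (.node 1 (.leaf 935) (.leaf 983)) (.node 1 (.leaf 807) (.leaf 875))) (.node 2 (.node 1 (.leaf 509) (.leaf 990)) (.node 1 (.leaf 682) (.leaf 398)))) (.node 4 (.node 2 (.node 1 (.leaf 783) (.leaf 394)) (.node 1 (.leaf 478) (.leaf 980))) (.node 2 (.node 1 (.leaf 480) (.leaf 397)) (.node 1 (.leaf 396) (.leaf 836))))) (.node 8 (.node 4 (.node 2 (.node 1 (.leaf 822) (.leaf 477)) (.node 1 (.leaf 607) (.leaf 928))) (.node 2 (.node 1 (.leaf 400) (.leaf 583)) (.node 1 (.leaf 467) (.leaf 817)))) (.node 4 (.node 2 (.node 1 (.leaf 401) (.leaf 693)) (.node 1 (.leaf 602) (.leaf 528))) (.node 2 (.node 1 (.leaf 601) (.leaf 660)) (.node 1 (.leaf 763) (.leaf 1011))))))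
def pre0_23 : T := (.node 16 (.node 8 (.node 4 (.node 2 (.node 1 (.leaf 1009) (.leaf 858)) (.node 1 (.leaf 745) (.leaf 407))) (.node 2 (.node 1 (.leaf 765) (.leaf 619)) (.node 1 (.leaf 410) (.leaf 986)))) (.node 4 (.node 2 (.node 1 (.leaf 555) (.leaf 738)) (.node 1 (.leaf 433) (.leaf 1014))) (.node 2 (.node 1 (.leaf 588) (.leaf 415)) (.node 1 (.leaf 959) (.leaf 971))))) (.node 8 (.node 4 (.node 2 (.node 1 (.leaf 1019) (.leaf 924)) (.node 1 (.leaf 592) (.leaf 870))) (.node 2 (.node 1 (.leaf 418) (.leaf 662)) (.node 1 (.leaf 688) (.leaf 422)))) (.node 4 (.node 2 (.node 1 (.leaf 788) (.leaf 547)) (.node 1 (.leaf 423) (.leaf 734))) (.node 2 (.node 1 (.leaf 899) (.leaf 740)) (.node 1 (.leaf 930) (.leaf 1008))))))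
def pre0_24 : T := (.node 16 (.node 8 (.node 4 (.node 2 (.node 1 (.leaf 429) (.leaf 966)) (.node 1 (.leaf 1021) (.leaf 1027))) (.node 2 (.node 1 (.leaf 431) (.leaf 539)) (.node 1 (.leaf 453) (.leaf 437)))) (.node 4 (.node 2 (.node 1 (.leaf 498) (.leaf 1031)) (.node 1 (.leaf 441) (.leaf 646))) (.node 2 (.node 1 (.leaf 490) (.leaf 520)) (.node 1 (.leaf 1015) (.leaf 712))))) (.node 8 (.node 4 (.node 2 (.node 1 (.leaf 447) (.leaf 866)) (.node 1 (.leaf 505) (.leaf 504))) (.node 2 (.node 1 (.leaf 760) (.leaf 503)) (.node 1 (.leaf 879) (.leaf 451)))) (.node 4 (.node 2 (.node 1 (.leaf 943) (.leaf 452)) (.node 1 (.leaf 608) (.leaf 616))) (.node 2 (.node 1 (.leaf 970) (.leaf 454)) (.node 1 (.leaf 691) (.leaf 962))))))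
def pre0_25 : T := (.node 16 (.node 8 (.node 4 (.node 2 (.node 1 (.leaf 455) (.leaf 652)) (.node 1 (.leaf 1036) (.leaf 457))) (.node 2 (.node 1 (.leaf 909) (.leaf 458)) (.node 1 (.leaf 861) (.leaf 706)))) (.node 4 (.node 2 (.node 1 (.leaf 468) (.leaf 524)) (.node 1 (.leaf 462) (.leaf 897))) (.node 2 (.node 1 (.leaf 821) (.leaf 820)) (.node 1 (.leaf 965) (.leaf 650))))) (.node 8 (.node 4 (.node 2 (.node 1 (.leaf 862) (.leaf 727)) (.node 1 (.leaf 835) (.leaf 465))) (.node 2 (.node 1 (.leaf 813) (.leaf 812)) (.node 1 (.leaf 720) (.leaf 466)))) (.node 4 (.node 2 (.node 1 (.leaf 582) (.leaf 1000)) (.node 1 (.leaf 976) (.leaf 988))) (.node 2 (.node 1 (.leaf 958) (.leaf 469)) (.node 1 (.leaf 574) (.leaf 470))))))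
def pre0_26 : T := (.node 16 (.node 8 (.node 4 (.node 2 (.node 1 (.leaf 472) (.leaf 933)) (.node 1 (.leaf 475) (.leaf 818))) (.node 2 (.node 1 (.leaf 719) (.leaf 842)) (.node 1 (.leaf 839) (.leaf 838)))) (.node 4 (.node 2 (.node 1 (.leaf 1006) (.leaf 479)) (.node 1 (.leaf 837) (.leaf 994))) (.node 2 (.node 1 (.leaf 626) (.leaf 1024)) (.node 1 (.leaf 513) (.leaf 1032))))) (.node 8 (.node 4 (.node 2 (.node 1 (.leaf 488) (.leaf 489)) (.node 1 (.leaf 515) (.leaf 868))) (.node 2 (.node 1 (.leaf 591) (.leaf 947)) (.node 1 (.leaf 894) (.leaf 496)))) (.node 4 (.node 2 (.node 1 (.leaf 701) (.leaf 497)) (.node 1 (.leaf 737) (.leaf 559))) (.node 2 (.node 1 (.leaf 922) (.leaf 806)) (.node 1 (.leaf 816) (.leaf 499))))))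
def pre0_27 : T := (.node 16 (.node 8 (.node 4 (.node 2 (.node 1 (.leaf 578) (.leaf 557)) (.node 1 (.leaf 785) (.leaf 502))) (.node 2 (.node 1 (.leaf 851) (.leaf 568)) (.node 1 (.leaf 755) (.leaf 514)))) (.node 4 (.node 2 (.node 1 (.leaf 508) (.leaf 697)) (.node 1 (.leaf 695) (.leaf 707))) (.node 2 (.node 1 (.leaf 512) (.leaf 941)) (.node 1 (.leaf 675) (.leaf 790))))) (.node 8 (.node 4 (.node 2 (.node 1 (.leaf 523) (.leaf 516)) (.node 1 (.leaf 622) (.leaf 610))) (.node 2 (.node 1 (.leaf 632) (.leaf 522)) (.node 1 (.leaf 906) (.leaf 987)))) (.node 4 (.node 2 (.node 1 (.leaf 1041) (.leaf 1039)) (.node 1 (.leaf 594) (.leaf 530))) (.node 2 (.node 1 (.leaf 630) (.leaf 541)) (.node 1 (.leaf 854) (.leaf 540))))))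
def pre0_28 : T := (.node 16 (.node 8 (.node 4 (.node 2 (.node 1 (.leaf 908) (.leaf 811)) (.node 1 (.leaf 542) (.leaf 764))) (.node 2 (.node 1 (.leaf 1042) (.leaf 548)) (.node 1 (.leaf 1023) (.leaf 992)))) (.node 4 (.node 2 (.node 1 (.leaf 584) (.leaf 551)) (.node 1 (.leaf 886) (.leaf 581))) (.node 2 (.node 1 (.leaf 896) (.leaf 804)) (.node 1 (.leaf 554) (.leaf 623))))) (.node 8 (.node 4 (.node 2 (.node 1 (.leaf 955) (.leaf 975)) (.node 1 (.leaf 560) (.leaf 655))) (.node 2 (.node 1 (.leaf 929) (.leaf 1035)) (.node 1 (.leaf 967) (.leaf 564)))) (.node 4 (.node 2 (.node 1 (.leaf 565) (.leaf 566)) (.node 1 (.leaf 860) (.leaf 1038))) (.node 2 (.node 1 (.leaf 753) (.leaf 676)) (.node 1 (.leaf 991) (.leaf 940))))))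
def pre0_29 : T := (.node 16 (.node 8 (.node 4 (.node 2 (.node 1 (.leaf 723) (.leaf 916)) (.node 1 (.leaf 766) (.leaf 1003))) (.node 2 (.node 1 (.leaf 580) (.leaf 833)) (.node 1 (.leaf 1028) (.leaf 704)))) (.node 4 (.node 2 (.node 1 (.leaf 973) (.leaf 1002)) (.node 1 (.leaf 606) (.leaf 593))) (.node 2 (.node 1 (.leaf 927) (.leaf 877)) (.node 1 (.leaf 659) (.leaf 792))))) (.node 8 (.node 4 (.node 2 (.node 1 (.leaf 1012) (.leaf 668)) (.node 1 (.leaf 600) (.leaf 853))) (.node 2 (.node 1 (.leaf 611) (.leaf 620)) (.node 1 (.leaf 615) (.leaf 640)))) (.node 4 (.node 2 (.node 1 (.leaf 972) (.leaf 999)) (.node 1 (.leaf 638) (.leaf 912))) (.node 2 (.node 1 (.leaf 631) (.leaf 1044)) (.node 1 (.leaf 828) (.leaf 750))))))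
def pre0_30 : T := (.node 16 (.node 8 (.node 4 (.node 2 (.node 1 (.leaf 1026) (.leaf 1043)) (.node 1 (.leaf 799) (.leaf 1034))) (.node 2 (.node 1 (.leaf 636) (.leaf 814)) (.node 1 (.leaf 769) (.leaf 918)))) (.node 4 (.node 2 (.node 1 (.leaf 637) (.leaf 1020)) (.node 1 (.leaf 796) (.leaf 751))) (.node 2 (.node 1 (.leaf 952) (.leaf 936)) (.node 1 (.leaf 644) (.leaf 913))))) (.node 8 (.node 4 (.node 2 (.node 1 (.leaf 826) (.leaf 1029)) (.node 1 (.leaf 1025) (.leaf 1018))) (.node 2 (.node 1 (.leaf 715) (.leaf 656)) (.node 1 (.leaf 1013) (.leaf 705)))) (.node 4 (.node 2 (.node 1 (.leaf 657) (.leaf 1010)) (.node 1 (.leaf 743) (.leaf 887))) (.node 2 (.node 1 (.leaf 827) (.leaf 672)) (.node 1 (.leaf 709) (.leaf 926))))))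
def pre0_31 : T := (.node 16 (.node 8 (.node 4 (.node 2 (.node 1 (.leaf 903) (.leaf 677)) (.node 1 (.leaf 843) (.leaf 678))) (.node 2 (.node 1 (.leaf 687) (.leaf 681)) (.node 1 (.leaf 685) (.leaf 953)))) (.node 4 (.node 2 (.node 1 (.leaf 825) (.leaf 702)) (.node 1 (.leaf 937) (.leaf 931))) (.node 2 (.node 1 (.leaf 1017) (.leaf 1016)) (.node 1 (.leaf 840) (.leaf 1040))))) (.node 8 (.node 4 (.node 2 (.node 1 (.leaf 767) (.leaf 736)) (.node 1 (.leaf 985) (.leaf 735))) (.node 2 (.node 1 (.leaf 944) (.leaf 982)) (.node 1 (.leaf 747) (.leaf 782)))) (.node 4 (.node 2 (.node 1 (.leaf 1005) (.leaf 1004)) (.node 1 (.leaf 979) (.leaf 752))) (.node 2 (.node 1 (.leaf 969) (.leaf 770)) (.node 1 (.leaf 1030) (.leaf 902))))))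
def pre0_32 : T := (.node 10 (.node 5 (.node 2 (.node 1 (.leaf 845) (.leaf 978)) (.node 1 (.leaf 960) (.node 1 (.leaf 771) (.leaf 934)))) (.node 2 (.node 1 (.leaf 977) (.leaf 1022)) (.node 1 (.leaf 777) (.node 1 (.leaf 847) (.leaf 1037))))) (.node 5 (.node 2 (.node 1 (.leaf 963) (.leaf 917)) (.node 1 (.leaf 802) (.node 1 (.leaf 1033) (.leaf 923)))) (.node 3 (.node 1 (.leaf 889) (.node 1 (.leaf 1007) (.leaf 888))) (.node 1 (.leaf 900) (.node 1 (.leaf 961) (.leaf 957))))))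
/-- Packed data. -/
def pre0 : T := (.node 512 (.node 256 (.node 128 (.node 64 (.node 32 pre0_0 pre0_1) (.node 32 pre0_2 pre0_3)) (.node 64 (.node 32 pre0_4 pre0_5) (.node 32 pre0_6 pre0_7))) (.node 128 (.node 64 (.node 32 pre0_8 pre0_9) (.node 32 pre0_10 pre0_11)) (.node 64 (.node 32 pre0_12 pre0_13) (.node 32 pre0_14 pre0_15)))) (.node 256 (.node 128 (.node 64 (.node 32 pre0_16 pre0_17) (.node 32 pre0_18 pre0_19)) (.node 64 (.node 32 pre0_20 pre0_21) (.node 32 pre0_22 pre0_23))) (.node 128 (.node 64 (.node 32 pre0_24 pre0_25) (.node 32 pre0_26 pre0_27)) (.node 64 (.node 32 pre0_28 pre0_29) (.node 32 pre0_30 (.node 32 pre0_31 pre0_32))))))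
def ref0_0 : T := (.node 16 (.node 8 (.node 4 (.node 2 (.node 1 (.leaf 0) (.leaf 17)) (.node 1 (.leaf 19) (.leaf 63))) (.node 2 (.node 1 (.leaf 26) (.leaf 52)) (.node 1 (.leaf 106) (.leaf 47)))) (.node 4 (.node 2 (.node 1 (.leaf 56) (.leaf 187)) (.node 1 (.leaf 67) (.leaf 144))) (.node 2 (.node 1 (.leaf 140) (.leaf 233)) (.node 1 (.leaf 162) (.leaf 177))))) (.node 8 (.node 4 (.node 2 (.node 1 (.leaf 100) (.leaf 105)) (.node 1 (.leaf 118) (.leaf 335))) (.node 2 (.node 1 (.leaf 143) (.leaf 139)) (.node 1 (.leaf 229) (.leaf 379)))) (.node 4 (.node 2 (.node 1 (.leaf 165) (.leaf 171)) (.node 1 (.leaf 287) (.leaf 189))) (.node 2 (.node 1 (.leaf 433) (.leaf 445)) (.node 1 (.leaf 455) (.leaf 368))))))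
def ref0_1 : T := (.node 16 (.node 8 (.node 4 (.node 2 (.node 1 (.leaf 487) (.leaf 302)) (.node 1 (.leaf 221) (.leaf 235))) (.node 2 (.node 1 (.leaf 549) (.leaf 561)) (.node 1 (.leaf 1488) (.leaf 607)))) (.node 4 (.node 2 (.node 1 (.leaf 543) (.leaf 324)) (.node 1 (.leaf 275) (.leaf 631))) (.node 2 (.node 1 (.leaf 305) (.leaf 665)) (.node 1 (.leaf 327) (.leaf 339))))) (.node 8 (.node 4 (.node 2 (.node 1 (.leaf 737) (.leaf 749)) (.node 1 (.leaf 767) (.leaf 371))) (.node 2 (.node 1 (.leaf 811) (.leaf 381)) (.node 1 (.leaf 839) (.leaf 851)))) (.node 4 (.node 2 (.node 1 (.leaf 861) (.leaf 688)) (.node 1 (.leaf 893) (.leaf 909))) (.node 2 (.node 1 (.leaf 933) (.leaf 965)) (.node 1 (.leaf 977) (.leaf 728))))))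
def ref0_2 : T := (.node 16 (.node 8 (.node 4 (.node 2 (.node 1 (.leaf 1031) (.leaf 435)) (.node 1 (.leaf 1081) (.leaf 1091))) (.node 2 (.node 1 (.leaf 1115) (.leaf 447)) (.node 1 (.leaf 1159) (.leaf 1491)))) (.node 4 (.node 2 (.node 1 (.leaf 457) (.leaf 990)) (.node 1 (.leaf 780) (.leaf 1231))) (.node 2 (.node 1 (.leaf 1006) (.leaf 1267)) (.node 1 (.leaf 1520) (.leaf 809))))) (.node 8 (.node 4 (.node 2 (.node 1 (.leaf 489) (.leaf 1351)) (.node 1 (.leaf 1363) (.leaf 1381))) (.node 2 (.node 1 (.leaf 660) (.leaf 1419)) (.node 1 (.leaf 1579) (.leaf 1523)))) (.node 4 (.node 2 (.node 1 (.leaf 1546) (.leaf 1506)) (.node 1 (.leaf 539) (.leaf 1671))) (.node 2 (.node 1 (.leaf 551) (.leaf 1481)) (.node 1 (.leaf 1445) (.leaf 1731))))))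
def ref0_3 : T := (.node 16 (.node 8 (.node 4 (.node 2 (.node 1 (.leaf 563) (.leaf 1767)) (.node 1 (.leaf 1761) (.leaf 1807))) (.node 2 (.node 1 (.leaf 1541) (.leaf 1833)) (.node 1 (.leaf 609) (.leaf 1463)))) (.node 4 (.node 2 (.node 1 (.leaf 1881) (.leaf 1590)) (.node 1 (.leaf 1919) (.leaf 635))) (.node 2 (.node 1 (.leaf 1973) (.leaf 2270)) (.node 1 (.leaf 663) (.leaf 669))))) (.node 8 (.node 4 (.node 2 (.node 1 (.leaf 2059) (.leaf 2073)) (.node 1 (.leaf 691) (.leaf 2117))) (.node 2 (.node 1 (.leaf 2151) (.leaf 2161)) (.node 1 (.leaf 1138) (.leaf 731)))) (.node 4 (.node 2 (.node 1 (.leaf 2225) (.leaf 739)) (.node 1 (.leaf 753) (.leaf 771))) (.node 2 (.node 1 (.leaf 783) (.leaf 2519)) (.node 1 (.leaf 2216) (.leaf 805))))))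
def ref0_4 : T := (.node 16 (.node 8 (.node 4 (.node 2 (.node 1 (.leaf 813) (.leaf 2317)) (.node 1 (.leaf 1376) (.leaf 2639))) (.node 2 (.node 1 (.leaf 2296) (.leaf 2050)) (.node 1 (.leaf 2661) (.leaf 841)))) (.node 4 (.node 2 (.node 1 (.leaf 2711) (.leaf 2737)) (.node 1 (.leaf 2757) (.leaf 853))) (.node 2 (.node 1 (.leaf 2637) (.leaf 904)) (.node 1 (.leaf 863) (.leaf 2273))))) (.node 8 (.node 4 (.node 2 (.node 1 (.leaf 2086) (.leaf 2823)) (.node 1 (.leaf 2318) (.leaf 2853))) (.node 2 (.node 1 (.leaf 2386) (.leaf 2488)) (.node 1 (.leaf 897) (.leaf 2596)))) (.node 4 (.node 2 (.node 1 (.leaf 907) (.leaf 911)) (.node 1 (.leaf 2559) (.leaf 2570))) (.node 2 (.node 1 (.leaf 2136) (.leaf 3025)) (.node 1 (.leaf 937) (.leaf 1442))))))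
def ref0_5 : T := (.node 16 (.node 8 (.node 4 (.node 2 (.node 1 (.leaf 1460) (.leaf 1562)) (.node 1 (.leaf 967) (.leaf 1144))) (.node 2 (.node 1 (.leaf 2198) (.leaf 981)) (.node 1 (.leaf 989) (.leaf 1229)))) (.node 4 (.node 2 (.node 1 (.leaf 3193) (.leaf 1009)) (.node 1 (.leaf 1478) (.leaf 1309))) (.node 2 (.node 1 (.leaf 1792) (.leaf 1033)) (.node 1 (.leaf 3259) (.leaf 3271))))) (.node 8 (.node 4 (.node 2 (.node 1 (.leaf 3281) (.leaf 3058)) (.node 1 (.leaf 3313) (.leaf 3339))) (.node 2 (.node 1 (.leaf 3361) (.leaf 1572)) (.node 1 (.leaf 1194) (.leaf 1083)))) (.node 4 (.node 2 (.node 1 (.leaf 3401) (.leaf 1576)) (.node 1 (.leaf 1095) (.leaf 3449))) (.node 2 (.node 1 (.leaf 1117) (.leaf 1708)) (.node 1 (.leaf 1136) (.leaf 1143))))))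
def ref0_6 : T := (.node 16 (.node 8 (.node 4 (.node 2 (.node 1 (.leaf 1549) (.leaf 1165)) (.node 1 (.leaf 2674) (.leaf 1516))) (.node 2 (.node 1 (.leaf 3549) (.leaf 3146)) (.node 1 (.leaf 1198) (.leaf 2508)))) (.node 4 (.node 2 (.node 1 (.leaf 3605) (.leaf 1787)) (.node 1 (.leaf 11399) (.leaf 1223))) (.node 2 (.node 1 (.leaf 1233) (.leaf 3651)) (.node 1 (.leaf 2982) (.leaf 1269))))) (.node 8 (.node 4 (.node 2 (.node 1 (.leaf 1941) (.leaf 1301)) (.node 1 (.leaf 2258) (.leaf 3572))) (.node 2 (.node 1 (.leaf 2348) (.leaf 1964)) (.node 1 (.leaf 3731) (.leaf 1353)))) (.node 4 (.node 2 (.node 1 (.leaf 2491) (.leaf 2914)) (.node 1 (.leaf 2768) (.leaf 1367))) (.node 2 (.node 1 (.leaf 3793) (.leaf 1379)) (.node 1 (.leaf 1383) (.leaf 3698))))))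
def ref0_7 : T := (.node 16 (.node 8 (.node 4 (.node 2 (.node 1 (.leaf 2299) (.leaf 3827)) (.node 1 (.leaf 3720) (.leaf 3869))) (.node 2 (.node 1 (.leaf 3907) (.leaf 2029)) (.node 1 (.leaf 1421) (.leaf 3680)))) (.node 4 (.node 2 (.node 1 (.leaf 3931) (.leaf 3941)) (.node 1 (.leaf 1948) (.leaf 2182))) (.node 2 (.node 1 (.leaf 3174) (.leaf 1831)) (.node 1 (.leaf 4017) (.leaf 1873))))) (.node 8 (.node 4 (.node 2 (.node 1 (.leaf 1905) (.leaf 4055)) (.node 1 (.leaf 1673) (.leaf 4091))) (.node 2 (.node 1 (.leaf 4101) (.leaf 3542)) (.node 1 (.leaf 3974) (.leaf 3099)))) (.node 4 (.node 2 (.node 1 (.leaf 3233) (.leaf 1711)) (.node 1 (.leaf 4153) (.leaf 11115))) (.node 2 (.node 1 (.leaf 1733) (.leaf 3508)) (.node 1 (.leaf 4011) (.leaf 1757))))))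
def ref0_8 : T := (.node 16 (.node 8 (.node 4 (.node 2 (.node 1 (.leaf 1771) (.leaf 1781)) (.node 1 (.leaf 1791) (.leaf 11413))) (.node 2 (.node 1 (.leaf 1809) (.leaf 1821)) (.node 1 (.leaf 1835) (.leaf 4287)))) (.node 4 (.node 2 (.node 1 (.leaf 4301) (.leaf 10551)) (.node 1 (.leaf 4281) (.leaf 4341))) (.node 2 (.node 1 (.leaf 1867) (.leaf 1885)) (.node 1 (.leaf 1895) (.leaf 3474))))) (.node 8 (.node 4 (.node 2 (.node 1 (.leaf 4385) (.leaf 1923)) (.node 1 (.leaf 1938) (.leaf 1951))) (.node 2 (.node 1 (.leaf 2385) (.leaf 1967)) (.node 1 (.leaf 9988) (.leaf 1975)))) (.node 4 (.node 2 (.node 1 (.leaf 4497) (.leaf 4511)) (.node 1 (.leaf 2821) (.leaf 2483))) (.node 2 (.node 1 (.leaf 2025) (.leaf 4561)) (.node 1 (.leaf 2898) (.leaf 2053))))))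
def ref0_9 : T := (.node 16 (.node 8 (.node 4 (.node 2 (.node 1 (.leaf 4591) (.leaf 2061)) (.node 1 (.leaf 2484) (.leaf 3812))) (.node 2 (.node 1 (.leaf 2077) (.leaf 2375)) (.node 1 (.leaf 2089) (.leaf 4659)))) (.node 4 (.node 2 (.node 1 (.leaf 2399) (.leaf 2606)) (.node 1 (.leaf 2123) (.leaf 2400))) (.node 2 (.node 1 (.leaf 2139) (.leaf 4703)) (.node 1 (.leaf 2157) (.leaf 2167))))) (.node 8 (.node 4 (.node 2 (.node 1 (.leaf 2181) (.leaf 2201)) (.node 1 (.leaf 4606) (.leaf 2219))) (.node 2 (.node 1 (.leaf 2227) (.leaf 4777)) (.node 1 (.leaf 4714) (.leaf 4817)))) (.node 4 (.node 2 (.node 1 (.leaf 2589) (.leaf 2261)) (.node 1 (.leaf 2511) (.leaf 11410))) (.node 2 (.node 1 (.leaf 2521) (.leaf 4873)) (.node 1 (.leaf 9493) (.leaf 9466))))))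
def ref0_10 : T := (.node 16 (.node 8 (.node 4 (.node 2 (.node 1 (.leaf 4867) (.leaf 4218)) (.node 1 (.leaf 2560) (.leaf 2573))) (.node 2 (.node 1 (.leaf 2581) (.leaf 2599)) (.node 1 (.leaf 5001) (.leaf 2609)))) (.node 4 (.node 2 (.node 1 (.leaf 5879) (.leaf 4990)) (.node 1 (.leaf 2629) (.leaf 2643))) (.node 2 (.node 1 (.leaf 5075) (.leaf 4587)) (.node 1 (.leaf 2667) (.leaf 2677))))) (.node 8 (.node 4 (.node 2 (.node 1 (.leaf 5111) (.leaf 4961)) (.node 1 (.leaf 2794) (.leaf 5972))) (.node 2 (.node 1 (.leaf 2713) (.leaf 3586)) (.node 1 (.leaf 3006) (.leaf 2743)))) (.node 4 (.node 2 (.node 1 (.leaf 3867) (.leaf 2761)) (.node 1 (.leaf 2767) (.leaf 5968))) (.node 2 (.node 1 (.leaf 5203) (.leaf 2961)) (.node 1 (.leaf 2798) (.leaf 3897))))))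
def ref0_11 : T := (.node 16 (.node 8 (.node 4 (.node 2 (.node 1 (.leaf 5257) (.leaf 2813)) (.node 1 (.leaf 2825) (.leaf 5305))) (.node 2 (.node 1 (.leaf 5317) (.leaf 10548)) (.node 1 (.leaf 5353) (.leaf 10492)))) (.node 4 (.node 2 (.node 1 (.leaf 2857) (.leaf 5952)) (.node 1 (.leaf 5387) (.leaf 4632))) (.node 2 (.node 1 (.leaf 2901) (.leaf 2917)) (.node 1 (.leaf 5978) (.leaf 5876))))) (.node 8 (.node 4 (.node 2 (.node 1 (.leaf 5421) (.leaf 4453)) (.node 1 (.leaf 5239) (.leaf 2957))) (.node 2 (.node 1 (.leaf 10542) (.leaf 5064)) (.node 1 (.leaf 2981) (.leaf 5489)))) (.node 4 (.node 2 (.node 1 (.leaf 3009) (.leaf 5975)) (.node 1 (.leaf 3029) (.leaf 10486))) (.node 2 (.node 1 (.leaf 5583) (.leaf 10305)) (.node 1 (.leaf 3061) (.leaf 5607))))))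
def ref0_12 : T := (.node 16 (.node 8 (.node 4 (.node 2 (.node 1 (.leaf 5697) (.leaf 3356)) (.node 1 (.leaf 5717) (.leaf 3101))) (.node 2 (.node 1 (.leaf 3145) (.leaf 3496)) (.node 1 (.leaf 4052) (.leaf 3177)))) (.node 4 (.node 2 (.node 1 (.leaf 11416) (.leaf 3195)) (.node 1 (.leaf 5799) (.leaf 4614))) (.node 2 (.node 1 (.leaf 5832) (.leaf 5840)) (.node 1 (.leaf 5793) (.leaf 3225))))) (.node 8 (.node 4 (.node 2 (.node 1 (.leaf 6049) (.leaf 6087)) (.node 1 (.leaf 5620) (.leaf 9945))) (.node 2 (.node 1 (.leaf 5562) (.leaf 10538)) (.node 1 (.leaf 3261) (.leaf 6219)))) (.node 4 (.node 2 (.node 1 (.leaf 10135) (.leaf 3273)) (.node 1 (.leaf 6283) (.leaf 5604))) (.node 2 (.node 1 (.leaf 3283) (.leaf 9991)) (.node 1 (.leaf 5658) (.leaf 6345))))))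
def ref0_13 : T := (.node 16 (.node 8 (.node 4 (.node 2 (.node 1 (.leaf 12190) (.leaf 12107)) (.node 1 (.leaf 6397) (.leaf 5685))) (.node 2 (.node 1 (.leaf 3315) (.leaf 5610)) (.node 1 (.leaf 6503) (.leaf 6535)))) (.node 4 (.node 2 (.node 1 (.leaf 5688) (.leaf 3343)) (.node 1 (.leaf 3355) (.leaf 3369))) (.node 2 (.node 1 (.leaf 3428) (.leaf 6627)) (.node 1 (.leaf 3984) (.leaf 6645))))) (.node 8 (.node 4 (.node 2 (.node 1 (.leaf 3407) (.leaf 10284)) (.node 1 (.leaf 3427) (.leaf 11396))) (.node 2 (.node 1 (.leaf 3455) (.leaf 6703)) (.node 1 (.leaf 3473) (.leaf 3499)))) (.node 4 (.node 2 (.node 1 (.leaf 3507) (.leaf 6745)) (.node 1 (.leaf 4383) (.leaf 3546))) (.node 2 (.node 1 (.leaf 3557) (.leaf 3571)) (.node 1 (.leaf 3589) (.leaf 6803))))))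
def ref0_14 : T := (.node 16 (.node 8 (.node 4 (.node 2 (.node 1 (.leaf 11112) (.leaf 3609)) (.node 1 (.leaf 4108) (.leaf 6857))) (.node 2 (.node 1 (.leaf 6927) (.leaf 11388)) (.node 1 (.leaf 6951) (.leaf 6963)))) (.node 4 (.node 2 (.node 1 (.leaf 3657) (.leaf 6977)) (.node 1 (.leaf 6987) (.leaf 3683))) (.node 2 (.node 1 (.leaf 4495) (.leaf 3697)) (.node 1 (.leaf 7041) (.leaf 3723))))) (.node 8 (.node 4 (.node 2 (.node 1 (.leaf 3733) (.leaf 7089)) (.node 1 (.leaf 7101) (.leaf 11256))) (.node 2 (.node 1 (.leaf 7020) (.leaf 7143)) (.node 1 (.leaf 7151) (.leaf 4968)))) (.node 4 (.node 2 (.node 1 (.leaf 7179) (.leaf 3799)) (.node 1 (.leaf 3811) (.leaf 7225))) (.node 2 (.node 1 (.leaf 3829) (.leaf 9286)) (.node 1 (.leaf 9300) (.leaf 7327))))))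
def ref0_15 : T := (.node 16 (.node 8 (.node 4 (.node 2 (.node 1 (.leaf 9388) (.leaf 3859)) (.node 1 (.leaf 3875) (.leaf 3887))) (.node 2 (.node 1 (.leaf 3911) (.leaf 3921)) (.node 1 (.leaf 10402) (.leaf 3945)))) (.node 4 (.node 2 (.node 1 (.leaf 7421) (.leaf 7433)) (.node 1 (.leaf 6766) (.leaf 3977))) (.node 2 (.node 1 (.leaf 3983) (.leaf 4186)) (.node 1 (.leaf 4001) (.leaf 4019))))) (.node 8 (.node 4 (.node 2 (.node 1 (.leaf 7541) (.leaf 7555)) (.node 1 (.leaf 6718) (.leaf 7587))) (.node 2 (.node 1 (.leaf 4050) (.leaf 4063)) (.node 1 (.leaf 7637) (.leaf 11594)))) (.node 4 (.node 2 (.node 1 (.leaf 11674) (.leaf 11657)) (.node 1 (.leaf 12104) (.leaf 4093))) (.node 2 (.node 1 (.leaf 11572) (.leaf 11585)) (.node 1 (.leaf 4103) (.leaf 4107))))))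
def ref0_16 : T := (.node 16 (.node 8 (.node 4 (.node 2 (.node 1 (.leaf 7853) (.leaf 11562)) (.node 1 (.leaf 11648) (.leaf 7479))) (.node 2 (.node 1 (.leaf 7929) (.leaf 4155)) (.node 1 (.leaf 9469) (.leaf 9490)))) (.node 4 (.node 2 (.node 1 (.leaf 11766) (.leaf 4188)) (.node 1 (.leaf 8037) (.leaf 7927))) (.node 2 (.node 1 (.leaf 7030) (.leaf 4221)) (.node 1 (.leaf 11419) (.leaf 5598))))) (.node 8 (.node 4 (.node 2 (.node 1 (.leaf 10180) (.leaf 4769)) (.node 1 (.leaf 8169) (.leaf 10132))) (.node 2 (.node 1 (.leaf 4277) (.leaf 10302)) (.node 1 (.leaf 4289) (.leaf 10051)))) (.node 4 (.node 2 (.node 1 (.leaf 10322) (.leaf 4303)) (.node 1 (.leaf 9942) (.leaf 6670))) (.node 2 (.node 1 (.leaf 8347) (.leaf 8212)) (.node 1 (.leaf 8425) (.leaf 10545))))))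
def ref0_17 : T := (.node 16 (.node 8 (.node 4 (.node 2 (.node 1 (.leaf 4343) (.leaf 10060)) (.node 1 (.leaf 10325) (.leaf 6524))) (.node 2 (.node 1 (.leaf 8559) (.leaf 4375)) (.node 1 (.leaf 4389) (.leaf 8617)))) (.node 4 (.node 2 (.node 1 (.leaf 12232) (.leaf 9580)) (.node 1 (.leaf 8691) (.leaf 10082))) (.node 2 (.node 1 (.leaf 4445) (.leaf 12312)) (.node 1 (.leaf 10495) (.leaf 10856))))) (.node 8 (.node 4 (.node 2 (.node 1 (.leaf 8893) (.leaf 4489)) (.node 1 (.leaf 4505) (.leaf 4513))) (.node 2 (.node 1 (.leaf 8967) (.leaf 8997)) (.node 1 (.leaf 9015) (.leaf 9516)))) (.node 4 (.node 2 (.node 1 (.leaf 7650) (.leaf 4567)) (.node 1 (.leaf 10541) (.leaf 4579))) (.node 2 (.node 1 (.leaf 4593) (.leaf 4604)) (.node 1 (.leaf 12288) (.leaf 4618))))))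
def ref0_18 : T := (.node 16 (.node 8 (.node 4 (.node 2 (.node 1 (.leaf 5981) (.leaf 4640)) (.node 1 (.leaf 9007) (.leaf 4661))) (.node 2 (.node 1 (.leaf 9187) (.leaf 10982)) (.node 1 (.leaf 10688) (.leaf 11296)))) (.node 4 (.node 2 (.node 1 (.leaf 11312) (.leaf 5997)) (.node 1 (.leaf 5971) (.leaf 4707))) (.node 2 (.node 1 (.leaf 10260) (.leaf 4717)) (.node 1 (.leaf 12254) (.leaf 7509))))) (.node 8 (.node 4 (.node 2 (.node 1 (.leaf 12398) (.leaf 9716)) (.node 1 (.leaf 8080) (.leaf 10048))) (.node 2 (.node 1 (.leaf 10460) (.leaf 4765)) (.node 1 (.leaf 10232) (.leaf 4781)))) (.node 4 (.node 2 (.node 1 (.leaf 12657) (.leaf 11151)) (.node 1 (.leaf 10168) (.leaf 10063))) (.node 2 (.node 1 (.leaf 4819) (.leaf 10814)) (.node 1 (.leaf 9708) (.leaf 5870))))))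
def ref0_19 : T := (.node 16 (.node 8 (.node 4 (.node 2 (.node 1 (.leaf 11746) (.leaf 9448)) (.node 1 (.leaf 7966) (.leaf 12711))) (.node 2 (.node 1 (.leaf 4863) (.leaf 12193)) (.node 1 (.leaf 4875) (.leaf 12739)))) (.node 4 (.node 2 (.node 1 (.leaf 11972) (.leaf 9530)) (.node 1 (.leaf 5131) (.leaf 10725))) (.node 2 (.node 1 (.leaf 12722) (.leaf 9451)) (.node 1 (.leaf 9547) (.leaf 9625))))) (.node 8 (.node 4 (.node 2 (.node 1 (.leaf 4958) (.leaf 4971)) (.node 1 (.leaf 7366) (.leaf 4993))) (.node 2 (.node 1 (.leaf 5003) (.leaf 9583)) (.node 1 (.leaf 10658) (.leaf 12826)))) (.node 4 (.node 2 (.node 1 (.leaf 7985) (.leaf 5067)) (.node 1 (.leaf 5077) (.leaf 9519))) (.node 2 (.node 1 (.leaf 12931) (.leaf 12989)) (.node 1 (.leaf 12794) (.leaf 5113))))))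
def ref0_20 : T := (.node 16 (.node 8 (.node 4 (.node 2 (.node 1 (.leaf 12746) (.leaf 5127)) (.node 1 (.leaf 9533) (.leaf 5999))) (.node 2 (.node 1 (.leaf 13075) (.leaf 6003)) (.node 1 (.leaf 12223) (.leaf 5955)))) (.node 4 (.node 2 (.node 1 (.leaf 5205) (.leaf 12257)) (.node 1 (.leaf 12441) (.leaf 10645))) (.node 2 (.node 1 (.leaf 12156) (.leaf 5231)) (.node 1 (.leaf 5259) (.leaf 12448))))) (.node 8 (.node 4 (.node 2 (.node 1 (.leaf 13195) (.leaf 13227)) (.node 1 (.leaf 5307) (.leaf 12611))) (.node 2 (.node 1 (.leaf 10433) (.leaf 5319)) (.node 1 (.leaf 10393) (.leaf 10489)))) (.node 4 (.node 2 (.node 1 (.leaf 5466) (.leaf 10761)) (.node 1 (.leaf 5355) (.leaf 10405))) (.node 2 (.node 1 (.leaf 12652) (.leaf 10710)) (.node 1 (.leaf 5389) (.leaf 12235))))))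
def ref0_21 : T := (.node 16 (.node 8 (.node 4 (.node 2 (.node 1 (.leaf 13317) (.leaf 5522)) (.node 1 (.leaf 5423) (.leaf 12468))) (.node 2 (.node 1 (.leaf 12169) (.leaf 13385)) (.node 1 (.leaf 13403) (.leaf 10463)))) (.node 4 (.node 2 (.node 1 (.leaf 5469) (.leaf 13441)) (.node 1 (.leaf 5783) (.leaf 5493))) (.node 2 (.node 1 (.leaf 6004) (.leaf 13468)) (.node 1 (.leaf 5525) (.leaf 13424))))) (.node 8 (.node 4 (.node 2 (.node 1 (.leaf 6461) (.leaf 5594)) (.node 1 (.leaf 5565) (.leaf 10816))) (.node 2 (.node 1 (.leaf 10235) (.leaf 6104)) (.node 1 (.leaf 5587) (.leaf 12346)))) (.node 4 (.node 2 (.node 1 (.leaf 5661) (.leaf 12092)) (.node 1 (.leaf 5681) (.leaf 5691))) (.node 2 (.node 1 (.leaf 5699) (.leaf 10918)) (.node 1 (.leaf 13513) (.leaf 5719))))))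
def ref0_22 : T := (.node 16 (.node 8 (.node 4 (.node 2 (.node 1 (.leaf 11127) (.leaf 13223)) (.node 1 (.leaf 11218) (.leaf 7810))) (.node 2 (.node 1 (.leaf 11582) (.leaf 13330)) (.node 1 (.leaf 5777) (.leaf 5789)))) (.node 4 (.node 2 (.node 1 (.leaf 9507) (.leaf 5803)) (.node 1 (.leaf 9303) (.leaf 13164))) (.node 2 (.node 1 (.leaf 9391) (.leaf 5843)) (.node 1 (.leaf 5835) (.leaf 9362))))) (.node 8 (.node 4 (.node 2 (.node 1 (.leaf 11875) (.leaf 9289)) (.node 1 (.leaf 5868) (.leaf 9130))) (.node 2 (.node 1 (.leaf 6051) (.leaf 11299)) (.node 1 (.leaf 11259) (.leaf 11980)))) (.node 4 (.node 2 (.node 1 (.leaf 6091) (.leaf 6103)) (.node 1 (.leaf 10171) (.leaf 10183))) (.node 2 (.node 1 (.leaf 11148) (.leaf 10430)) (.node 1 (.leaf 6552) (.leaf 13679))))))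
def ref0_23 : T := (.node 16 (.node 8 (.node 4 (.node 2 (.node 1 (.leaf 13650) (.leaf 10896)) (.node 1 (.leaf 6310) (.leaf 6221))) (.node 2 (.node 1 (.leaf 6581) (.leaf 10722)) (.node 1 (.leaf 6289) (.leaf 13277)))) (.node 4 (.node 2 (.node 1 (.leaf 10085) (.leaf 6314)) (.node 1 (.leaf 10287) (.leaf 13737))) (.node 2 (.node 1 (.leaf 10263) (.leaf 6347)) (.node 1 (.leaf 12872) (.leaf 13040))))) (.node 8 (.node 4 (.node 2 (.node 1 (.leaf 13833) (.leaf 12510)) (.node 1 (.leaf 12401) (.leaf 12370))) (.node 2 (.node 1 (.leaf 6403) (.leaf 10390)) (.node 1 (.leaf 6458) (.leaf 6509)))) (.node 4 (.node 2 (.node 1 (.leaf 12507) (.leaf 6527)) (.node 1 (.leaf 6539) (.leaf 6551))) (.node 2 (.node 1 (.leaf 8538) (.leaf 6575)) (.node 1 (.leaf 9148) (.leaf 13628))))))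
def ref0_24 : T := (.node 16 (.node 8 (.node 4 (.node 2 (.node 1 (.leaf 6629) (.leaf 12960)) (.node 1 (.leaf 13876) (.leaf 13967))) (.node 2 (.node 1 (.leaf 6647) (.leaf 6673)) (.node 1 (.leaf 11391) (.leaf 6707)))) (.node 4 (.node 2 (.node 1 (.leaf 6721) (.leaf 14043)) (.node 1 (.leaf 6749) (.leaf 12220))) (.node 2 (.node 1 (.leaf 6774) (.leaf 11769)) (.node 1 (.leaf 13768) (.leaf 9429))))) (.node 8 (.node 4 (.node 2 (.node 1 (.leaf 6809) (.leaf 7622)) (.node 1 (.leaf 11654) (.leaf 11677))) (.node 2 (.node 1 (.leaf 12503) (.leaf 11597)) (.node 1 (.leaf 11937) (.leaf 6859)))) (.node 4 (.node 2 (.node 1 (.leaf 12631) (.leaf 6929)) (.node 1 (.leaf 11749) (.leaf 11975))) (.node 2 (.node 1 (.leaf 13033) (.leaf 6955)) (.node 1 (.leaf 10819) (.leaf 12902))))))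
def ref0_25 : T := (.node 16 (.node 8 (.node 4 (.node 2 (.node 1 (.leaf 6965) (.leaf 12343)) (.node 1 (.leaf 14131) (.leaf 6979))) (.node 2 (.node 1 (.leaf 8684) (.leaf 6991)) (.node 1 (.leaf 10940) (.leaf 11250)))) (.node 4 (.node 2 (.node 1 (.leaf 7023) (.leaf 7038)) (.node 1 (.leaf 7043) (.leaf 11849))) (.node 2 (.node 1 (.leaf 11884) (.leaf 12010)) (.node 1 (.leaf 12951) (.leaf 12438))))) (.node 8 (.node 4 (.node 2 (.node 1 (.leaf 11139) (.leaf 11983)) (.node 1 (.leaf 12042) (.leaf 7091))) (.node 2 (.node 1 (.leaf 12013) (.leaf 11892)) (.node 1 (.leaf 11872) (.leaf 7103)))) (.node 4 (.node 2 (.node 1 (.leaf 10691) (.leaf 13500)) (.node 1 (.leaf 13123) (.leaf 13302))) (.node 2 (.node 1 (.leaf 12852) (.leaf 7145)) (.node 1 (.leaf 12291) (.leaf 7155))))))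
def ref0_26 : T := (.node 16 (.node 8 (.node 4 (.node 2 (.node 1 (.leaf 7181) (.leaf 10808)) (.node 1 (.leaf 7233) (.leaf 12047))) (.node 2 (.node 1 (.leaf 9365) (.leaf 9419)) (.node 1 (.leaf 9421) (.leaf 9412)))) (.node 4 (.node 2 (.node 1 (.leaf 13605) (.leaf 7329)) (.node 1 (.leaf 9399) (.leaf 13390))) (.node 2 (.node 1 (.leaf 7376) (.leaf 13930)) (.node 1 (.leaf 11565) (.leaf 14066))))) (.node 8 (.node 4 (.node 2 (.node 1 (.leaf 7423) (.leaf 7437)) (.node 1 (.leaf 7475) (.leaf 7644))) (.node 2 (.node 1 (.leaf 7499) (.leaf 12692)) (.node 1 (.leaf 8314) (.leaf 7543)))) (.node 4 (.node 2 (.node 1 (.leaf 10921) (.leaf 7557)) (.node 1 (.leaf 10899) (.leaf 10859))) (.node 2 (.node 1 (.leaf 10966) (.leaf 10943)) (.node 1 (.leaf 11811) (.leaf 7589))))))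
def ref0_27 : T := (.node 16 (.node 8 (.node 4 (.node 2 (.node 1 (.leaf 9008) (.leaf 12315)) (.node 1 (.leaf 7630) (.leaf 7639))) (.node 2 (.node 1 (.leaf 7643) (.leaf 7653)) (.node 1 (.leaf 12373) (.leaf 11651)))) (.node 4 (.node 2 (.node 1 (.leaf 11575) (.leaf 12095)) (.node 1 (.leaf 12349) (.leaf 7816))) (.node 2 (.node 1 (.leaf 7855) (.leaf 12152)) (.node 1 (.leaf 12467) (.leaf 11941))))) (.node 8 (.node 4 (.node 2 (.node 1 (.leaf 7922) (.leaf 7935)) (.node 1 (.leaf 9544) (.leaf 7968))) (.node 2 (.node 1 (.leaf 7979) (.leaf 8045)) (.node 1 (.leaf 8628) (.leaf 13282)))) (.node 4 (.node 2 (.node 1 (.leaf 14234) (.leaf 14194)) (.node 1 (.leaf 8083) (.leaf 8173))) (.node 2 (.node 1 (.leaf 10661) (.leaf 8215)) (.node 1 (.leaf 8318) (.leaf 8349))))))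
def ref0_28 : T := (.node 16 (.node 8 (.node 4 (.node 2 (.node 1 (.leaf 10828) (.leaf 11889)) (.node 1 (.leaf 8427) (.leaf 8541))) (.node 2 (.node 1 (.leaf 14247) (.leaf 8563)) (.node 1 (.leaf 13902) (.leaf 13359)))) (.node 4 (.node 2 (.node 1 (.leaf 11315) (.leaf 8621)) (.node 1 (.leaf 8627) (.leaf 10985))) (.node 2 (.node 1 (.leaf 10831) (.leaf 8687)) (.node 1 (.leaf 8695) (.leaf 9599))))) (.node 8 (.node 4 (.node 2 (.node 1 (.leaf 12819) (.leaf 13094)) (.node 1 (.leaf 8897) (.leaf 12451))) (.node 2 (.node 1 (.leaf 12519) (.leaf 14129)) (.node 1 (.leaf 12976) (.leaf 8969)))) (.node 4 (.node 2 (.node 1 (.leaf 9001) (.leaf 9019)) (.node 1 (.leaf 10965) (.leaf 14182))) (.node 2 (.node 1 (.leaf 12513) (.leaf 12417)) (.node 1 (.leaf 13344) (.leaf 9768))))))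
def ref0_29 : T := (.node 16 (.node 8 (.node 4 (.node 2 (.node 1 (.leaf 9129) (.leaf 12421)) (.node 1 (.leaf 9151) (.leaf 13544))) (.node 2 (.node 1 (.leaf 9189) (.leaf 11024)) (.node 1 (.leaf 13986) (.leaf 11124)))) (.node 4 (.node 2 (.node 1 (.leaf 13068) (.leaf 13534)) (.node 1 (.leaf 9711) (.leaf 9719))) (.node 2 (.node 1 (.leaf 9771) (.leaf 12155)) (.node 1 (.leaf 12599) (.leaf 12615))))) (.node 8 (.node 4 (.node 2 (.node 1 (.leaf 13704) (.leaf 12655)) (.node 1 (.leaf 12665) (.leaf 12685))) (.node 2 (.node 1 (.leaf 12714) (.leaf 12725)) (.node 1 (.leaf 12733) (.leaf 12745)))) (.node 4 (.node 2 (.node 1 (.leaf 13063) (.leaf 13482)) (.node 1 (.leaf 12796) (.leaf 12813))) (.node 2 (.node 1 (.leaf 12829) (.leaf 14287)) (.node 1 (.leaf 12864) (.leaf 12869))))))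
def ref0_30 : T := (.node 16 (.node 8 (.node 4 (.node 2 (.node 1 (.leaf 13963) (.leaf 14274)) (.node 1 (.leaf 12905) (.leaf 14100))) (.node 2 (.node 1 (.leaf 12923) (.leaf 12946)) (.node 1 (.leaf 12963) (.leaf 12979)))) (.node 4 (.node 2 (.node 1 (.leaf 12995) (.leaf 13865)) (.node 1 (.leaf 13025) (.leaf 13046))) (.node 2 (.node 1 (.leaf 13060) (.leaf 13071)) (.node 1 (.leaf 13081) (.leaf 13097))))) (.node 8 (.node 4 (.node 2 (.node 1 (.leaf 13114) (.leaf 14018)) (.node 1 (.leaf 13944) (.leaf 13829))) (.node 2 (.node 1 (.leaf 13174) (.leaf 13183)) (.node 1 (.leaf 13720) (.leaf 13220)))) (.node 4 (.node 2 (.node 1 (.leaf 13235) (.leaf 13662)) (.node 1 (.leaf 13267) (.leaf 13281))) (.node 2 (.node 1 (.leaf 13301) (.leaf 13321)) (.node 1 (.leaf 13333) (.leaf 13347))))))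
def ref0_31 : T := (.node 16 (.node 8 (.node 4 (.node 2 (.node 1 (.leaf 13371) (.leaf 13375)) (.node 1 (.leaf 13400) (.leaf 13409))) (.node 2 (.node 1 (.leaf 13432) (.leaf 13451)) (.node 1 (.leaf 13471) (.leaf 13481)))) (.node 4 (.node 2 (.node 1 (.leaf 13503) (.leaf 13519)) (.node 1 (.leaf 13537) (.leaf 13556))) (.node 2 (.node 1 (.leaf 13798) (.leaf 13780)) (.node 1 (.leaf 13602) (.leaf 14218))))) (.node 8 (.node 4 (.node 2 (.node 1 (.leaf 13631) (.leaf 13653)) (.node 1 (.leaf 13672) (.leaf 13689))) (.node 2 (.node 1 (.leaf 13703) (.leaf 13732)) (.node 1 (.leaf 13743) (.leaf 13765)))) (.node 4 (.node 2 (.node 1 (.leaf 13779) (.leaf 13808)) (.node 1 (.leaf 13815) (.leaf 13841))) (.node 2 (.node 1 (.leaf 13853) (.leaf 13879)) (.node 1 (.leaf 14034) (.leaf 13901))))))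
def ref0_32 : T := (.node 10 (.node 5 (.node 2 (.node 1 (.leaf 13923) (.leaf 13937)) (.node 1 (.leaf 13951) (.node 1 (.leaf 13975) (.leaf 14000)))) (.node 2 (.node 1 (.leaf 14013) (.leaf 14037)) (.node 1 (.leaf 14053) (.node 1 (.leaf 14076) (.leaf 14164))))) (.node 5 (.node 2 (.node 1 (.leaf 14103) (.leaf 14115)) (.node 1 (.leaf 14141) (.node 1 (.leaf 14167) (.leaf 14185)))) (.node 3 (.node 1 (.leaf 14206) (.node 1 (.leaf 14226) (.leaf 14237))) (.node 1 (.leaf 14257) (.node 1 (.leaf 14277) (.leaf 14293))))))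
/-- Packed data. -/
def ref0 : T := (.node 512 (.node 256 (.node 128 (.node 64 (.node 32 ref0_0 ref0_1) (.node 32 ref0_2 ref0_3)) (.node 64 (.node 32 ref0_4 ref0_5) (.node 32 ref0_6 ref0_7))) (.node 128 (.node 64 (.node 32 ref0_8 ref0_9) (.node 32 ref0_10 ref0_11)) (.node 64 (.node 32 ref0_12 ref0_13) (.node 32 ref0_14 ref0_15)))) (.node 256 (.node 128 (.node 64 (.node 32 ref0_16 ref0_17) (.node 32 ref0_18 ref0_19)) (.node 64 (.node 32 ref0_20 ref0_21) (.node 32 ref0_22 ref0_23))) (.node 128 (.node 64 (.node 32 ref0_24 ref0_25) (.node 32 ref0_26 ref0_27)) (.node 64 (.node 32 ref0_28 ref0_29) (.node 32 ref0_30 (.node 32 ref0_31 ref0_32))))))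
def pre1_0 : T := (.node 16 (.node 8 (.node 4 (.node 2 (.node 1 (.leaf 0) (.leaf 1)) (.node 1 (.leaf 7) (.leaf 11))) (.node 2 (.node 1 (.leaf 15) (.leaf 2)) (.node 1 (.leaf 22) (.leaf 5)))) (.node 4 (.node 2 (.node 1 (.leaf 25) (.leaf 30)) (.node 1 (.leaf 34) (.leaf 12))) (.node 2 (.node 1 (.leaf 3) (.leaf 38)) (.node 1 (.leaf 4) (.leaf 14))))) (.node 8 (.node 4 (.node 2 (.node 1 (.leaf 42) (.leaf 20)) (.node 1 (.leaf 26) (.leaf 50))) (.node 2 (.node 1 (.leaf 44) (.leaf 6)) (.node 1 (.leaf 21) (.leaf 56)))) (.node 4 (.node 2 (.node 1 (.leaf 8) (.leaf 24)) (.node 1 (.leaf 46) (.leaf 62))) (.node 2 (.node 1 (.leaf 68) (.leaf 9)) (.node 1 (.leaf 29) (.leaf 77))))))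
def pre1_1 : T := (.node 16 (.node 8 (.node 4 (.node 2 (.node 1 (.leaf 83) (.leaf 10)) (.node 1 (.leaf 33) (.leaf 88))) (.node 2 (.node 1 (.leaf 95) (.leaf 13)) (.node 1 (.leaf 37) (.leaf 103)))) (.node 4 (.node 2 (.node 1 (.leaf 100) (.leaf 16)) (.node 1 (.leaf 41) (.leaf 109))) (.node 2 (.node 1 (.leaf 17) (.leaf 113)) (.node 1 (.leaf 18) (.leaf 118))))) (.node 8 (.node 4 (.node 2 (.node 1 (.leaf 39) (.leaf 19)) (.node 1 (.leaf 49) (.leaf 93))) (.node 2 (.node 1 (.leaf 43) (.leaf 132)) (.node 1 (.leaf 138) (.leaf 23)))) (.node 4 (.node 2 (.node 1 (.leaf 55) (.leaf 147)) (.node 1 (.leaf 45) (.leaf 107))) (.node 2 (.node 1 (.leaf 161) (.leaf 27)) (.node 1 (.leaf 61) (.leaf 170))))))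
def pre1_2 : T := (.node 16 (.node 8 (.node 4 (.node 2 (.node 1 (.leaf 176) (.leaf 181)) (.node 1 (.leaf 185) (.leaf 28))) (.node 2 (.node 1 (.leaf 67) (.leaf 182)) (.node 1 (.leaf 66) (.leaf 78)))) (.node 4 (.node 2 (.node 1 (.leaf 162) (.leaf 194)) (.node 1 (.leaf 187) (.leaf 131))) (.node 2 (.node 1 (.leaf 31) (.leaf 76)) (.node 1 (.leaf 189) (.leaf 208))))) (.node 8 (.node 4 (.node 2 (.node 1 (.leaf 212) (.leaf 218)) (.node 1 (.leaf 32) (.leaf 82))) (.node 2 (.node 1 (.leaf 227) (.leaf 53)) (.node 1 (.leaf 235) (.leaf 35)))) (.node 4 (.node 2 (.node 1 (.leaf 87) (.leaf 239)) (.node 1 (.leaf 164) (.leaf 245))) (.node 2 (.node 1 (.leaf 191) (.leaf 126)) (.node 1 (.leaf 36) (.leaf 94))))))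
def pre1_3 : T := (.node 16 (.node 8 (.node 4 (.node 2 (.node 1 (.leaf 249) (.leaf 104)) (.node 1 (.leaf 40) (.leaf 251))) (.node 2 (.node 1 (.leaf 98) (.leaf 120)) (.node 1 (.leaf 268) (.leaf 48)))) (.node 4 (.node 2 (.node 1 (.leaf 253) (.leaf 186)) (.node 1 (.leaf 193) (.leaf 155))) (.node 2 (.node 1 (.leaf 280) (.leaf 52)) (.node 1 (.leaf 282) (.leaf 286))))) (.node 8 (.node 4 (.node 2 (.node 1 (.leaf 291) (.leaf 58)) (.node 1 (.leaf 297) (.leaf 80))) (.node 2 (.node 1 (.leaf 105) (.leaf 47)) (.node 1 (.leaf 117) (.leaf 207)))) (.node 4 (.node 2 (.node 1 (.leaf 264) (.leaf 89)) (.node 1 (.leaf 210) (.leaf 303))) (.node 2 (.node 1 (.leaf 99) (.leaf 318)) (.node 1 (.leaf 51) (.leaf 248))))))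
def pre1_4 : T := (.node 16 (.node 8 (.node 4 (.node 2 (.node 1 (.leaf 324) (.leaf 133)) (.node 1 (.leaf 283) (.leaf 206))) (.node 2 (.node 1 (.leaf 85) (.leaf 327)) (.node 1 (.leaf 79) (.leaf 223)))) (.node 4 (.node 2 (.node 1 (.leaf 342) (.leaf 54)) (.node 1 (.leaf 137) (.leaf 338))) (.node 2 (.node 1 (.leaf 136) (.leaf 148)) (.node 1 (.leaf 230) (.leaf 153))))) (.node 8 (.node 4 (.node 2 (.node 1 (.leaf 344) (.leaf 357)) (.node 1 (.leaf 57) (.leaf 146))) (.node 2 (.node 1 (.leaf 346) (.leaf 361)) (.node 1 (.leaf 363) (.leaf 290)))) (.node 4 (.node 2 (.node 1 (.leaf 215) (.leaf 312)) (.node 1 (.leaf 149) (.leaf 59))) (.node 2 (.node 1 (.leaf 377) (.leaf 381)) (.node 1 (.leaf 102) (.leaf 241))))))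
def pre1_5 : T := (.node 16 (.node 8 (.node 4 (.node 2 (.node 1 (.leaf 60) (.leaf 160)) (.node 1 (.leaf 198) (.leaf 159))) (.node 2 (.node 1 (.leaf 171) (.leaf 69)) (.node 1 (.leaf 387) (.leaf 261)))) (.node 4 (.node 2 (.node 1 (.leaf 396) (.leaf 63)) (.node 1 (.leaf 169) (.leaf 90))) (.node 2 (.node 1 (.leaf 399) (.leaf 403)) (.node 1 (.leaf 354) (.leaf 64))))) (.node 8 (.node 4 (.node 2 (.node 1 (.leaf 175) (.leaf 417)) (.node 1 (.leaf 423) (.leaf 92))) (.node 2 (.node 1 (.leaf 65) (.leaf 180)) (.node 1 (.leaf 165) (.leaf 273)))) (.node 4 (.node 2 (.node 1 (.leaf 74) (.leaf 70)) (.node 1 (.leaf 116) (.leaf 184))) (.node 2 (.node 1 (.leaf 427) (.leaf 71)) (.node 1 (.leaf 122) (.leaf 179))))))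
def pre1_6 : T := (.node 16 (.node 8 (.node 4 (.node 2 (.node 1 (.leaf 96) (.leaf 275)) (.node 1 (.leaf 201) (.leaf 209))) (.node 2 (.node 1 (.leaf 222) (.leaf 442)) (.node 1 (.leaf 72) (.leaf 260)))) (.node 4 (.node 2 (.node 1 (.leaf 451) (.leaf 73)) (.node 1 (.leaf 431) (.leaf 434))) (.node 2 (.node 1 (.leaf 112) (.leaf 110)) (.node 1 (.leaf 75) (.leaf 307))))) (.node 8 (.node 4 (.node 2 (.node 1 (.leaf 134) (.leaf 438)) (.node 1 (.leaf 190) (.leaf 460))) (.node 2 (.node 1 (.leaf 115) (.leaf 353)) (.node 1 (.leaf 467) (.leaf 369)))) (.node 4 (.node 2 (.node 1 (.leaf 471) (.leaf 81)) (.node 1 (.leaf 217) (.leaf 444))) (.node 2 (.node 1 (.leaf 216) (.leaf 228)) (.node 1 (.leaf 298) (.leaf 337))))))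
def pre1_7 : T := (.node 16 (.node 8 (.node 4 (.node 2 (.node 1 (.leaf 139) (.leaf 478)) (.node 1 (.leaf 84) (.leaf 226))) (.node 2 (.node 1 (.leaf 328) (.leaf 483)) (.node 1 (.leaf 350) (.leaf 108)))) (.node 4 (.node 2 (.node 1 (.leaf 111) (.leaf 490)) (.node 1 (.leaf 86) (.leaf 234))) (.node 2 (.node 1 (.leaf 240) (.leaf 492)) (.node 1 (.leaf 311) (.leaf 121))))) (.node 8 (.node 4 (.node 2 (.node 1 (.leaf 335) (.leaf 163)) (.node 1 (.leaf 504) (.leaf 491))) (.node 2 (.node 1 (.leaf 91) (.leaf 244)) (.node 1 (.leaf 514) (.leaf 257)))) (.node 4 (.node 2 (.node 1 (.leaf 321) (.leaf 192)) (.node 1 (.leaf 125) (.leaf 124))) (.node 2 (.node 1 (.leaf 425) (.leaf 97)) (.node 1 (.leaf 388) (.leaf 271))))))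
def pre1_8 : T := (.node 16 (.node 8 (.node 4 (.node 2 (.node 1 (.leaf 197) (.leaf 270)) (.node 1 (.leaf 274) (.leaf 315))) (.node 2 (.node 1 (.leaf 432) (.leaf 385)) (.node 1 (.leaf 530) (.leaf 536)))) (.node 4 (.node 2 (.node 1 (.leaf 101) (.leaf 406)) (.node 1 (.leaf 301) (.leaf 383))) (.node 2 (.node 1 (.leaf 158) (.leaf 549)) (.node 1 (.leaf 247) (.leaf 305))))) (.node 8 (.node 4 (.node 2 (.node 1 (.leaf 551) (.leaf 304)) (.node 1 (.leaf 525) (.leaf 106))) (.node 2 (.node 1 (.leaf 556) (.leaf 482)) (.node 1 (.leaf 486) (.leaf 561)))) (.node 4 (.node 2 (.node 1 (.leaf 231) (.leaf 455)) (.node 1 (.leaf 205) (.leaf 329))) (.node 2 (.node 1 (.leaf 294) (.leaf 461)) (.node 1 (.leaf 232) (.leaf 360))))))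
def pre1_9 : T := (.node 16 (.node 8 (.node 4 (.node 2 (.node 1 (.leaf 454) (.leaf 374)) (.node 1 (.leaf 367) (.leaf 204))) (.node 2 (.node 1 (.leaf 485) (.leaf 219)) (.node 1 (.leaf 370) (.leaf 582)))) (.node 4 (.node 2 (.node 1 (.leaf 114) (.leaf 296)) (.node 1 (.leaf 196) (.leaf 287))) (.node 2 (.node 1 (.leaf 340) (.leaf 433)) (.node 1 (.leaf 188) (.leaf 313))))) (.node 8 (.node 4 (.node 2 (.node 1 (.leaf 183) (.leaf 255)) (.node 1 (.leaf 593) (.leaf 119))) (.node 2 (.node 1 (.leaf 597) (.leaf 555)) (.node 1 (.leaf 603) (.leaf 497)))) (.node 4 (.node 2 (.node 1 (.leaf 143) (.leaf 123)) (.node 1 (.leaf 436) (.leaf 520))) (.node 2 (.node 1 (.leaf 610) (.leaf 617)) (.node 1 (.leaf 250) (.leaf 452))))))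
def pre1_10 : T := (.node 16 (.node 8 (.node 4 (.node 2 (.node 1 (.leaf 618) (.leaf 127)) (.node 1 (.leaf 333) (.leaf 128))) (.node 2 (.node 1 (.leaf 323) (.leaf 484)) (.node 1 (.leaf 630) (.leaf 129)))) (.node 4 (.node 2 (.node 1 (.leaf 221) (.leaf 130)) (.node 1 (.leaf 339) (.leaf 474))) (.node 2 (.node 1 (.leaf 326) (.leaf 625)) (.node 1 (.leaf 172) (.leaf 236))))) (.node 8 (.node 4 (.node 2 (.node 1 (.leaf 641) (.leaf 135)) (.node 1 (.leaf 224) (.leaf 347))) (.node 2 (.node 1 (.leaf 586) (.leaf 144)) (.node 1 (.leaf 140) (.leaf 285)))) (.node 4 (.node 2 (.node 1 (.leaf 341) (.leaf 624)) (.node 1 (.leaf 141) (.leaf 330))) (.node 2 (.node 1 (.leaf 646) (.leaf 279)) (.node 1 (.leaf 142) (.leaf 653))))))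
def pre1_11 : T := (.node 16 (.node 8 (.node 4 (.node 2 (.node 1 (.leaf 583) (.leaf 463)) (.node 1 (.leaf 408) (.leaf 420))) (.node 2 (.node 1 (.leaf 145) (.leaf 356)) (.node 1 (.leaf 667) (.leaf 372)))) (.node 4 (.node 2 (.node 1 (.leaf 299) (.leaf 154)) (.node 1 (.leaf 348) (.leaf 364))) (.node 2 (.node 1 (.leaf 150) (.leaf 276)) (.node 1 (.leaf 672) (.leaf 151))))) (.node 8 (.node 4 (.node 2 (.node 1 (.leaf 676) (.leaf 152)) (.node 1 (.leaf 284) (.leaf 445))) (.node 2 (.node 1 (.leaf 663) (.leaf 289)) (.node 1 (.leaf 373) (.leaf 685)))) (.node 4 (.node 2 (.node 1 (.leaf 156) (.leaf 376)) (.node 1 (.leaf 689) (.leaf 547))) (.node 2 (.node 1 (.leaf 157) (.leaf 380)) (.node 1 (.leaf 601) (.leaf 546))))))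
def pre1_12 : T := (.node 16 (.node 8 (.node 4 (.node 2 (.node 1 (.leaf 386) (.leaf 167)) (.node 1 (.leaf 500) (.leaf 391))) (.node 2 (.node 1 (.leaf 440) (.leaf 428)) (.node 1 (.leaf 707) (.leaf 166)))) (.node 4 (.node 2 (.node 1 (.leaf 702) (.leaf 710)) (.node 1 (.leaf 716) (.leaf 168))) (.node 2 (.node 1 (.leaf 395) (.leaf 673)) (.node 1 (.leaf 637) (.leaf 334))))) (.node 8 (.node 4 (.node 2 (.node 1 (.leaf 649) (.leaf 558)) (.node 1 (.leaf 173) (.leaf 402))) (.node 2 (.node 1 (.leaf 732) (.leaf 671)) (.node 1 (.leaf 541) (.leaf 741)))) (.node 4 (.node 2 (.node 1 (.leaf 174) (.leaf 738)) (.node 1 (.leaf 407) (.leaf 418))) (.node 2 (.node 1 (.leaf 421) (.leaf 743)) (.node 1 (.leaf 532) (.leaf 752))))))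
def pre1_13 : T := (.node 16 (.node 8 (.node 4 (.node 2 (.node 1 (.leaf 177) (.leaf 416)) (.node 1 (.leaf 595) (.leaf 755))) (.node 2 (.node 1 (.leaf 660) (.leaf 745)) (.node 1 (.leaf 178) (.leaf 422)))) (.node 4 (.node 2 (.node 1 (.leaf 765) (.leaf 501)) (.node 1 (.leaf 389) (.leaf 302))) (.node 2 (.node 1 (.leaf 426) (.leaf 591)) (.node 1 (.leaf 203) (.leaf 435))))) (.node 8 (.node 4 (.node 2 (.node 1 (.leaf 199) (.leaf 266)) (.node 1 (.leaf 430) (.leaf 202))) (.node 2 (.node 1 (.leaf 448) (.leaf 590)) (.node 1 (.leaf 195) (.leaf 237)))) (.node 4 (.node 2 (.node 1 (.leaf 254) (.leaf 272)) (.node 1 (.leaf 256) (.leaf 200))) (.node 2 (.node 1 (.leaf 293) (.leaf 562)) (.node 1 (.leaf 351) (.leaf 523))))))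
def pre1_14 : T := (.node 16 (.node 8 (.node 4 (.node 2 (.node 1 (.leaf 314) (.leaf 242)) (.node 1 (.leaf 790) (.leaf 443))) (.node 2 (.node 1 (.leaf 620) (.leaf 771)) (.node 1 (.leaf 573) (.leaf 565)))) (.node 4 (.node 2 (.node 1 (.leaf 277) (.leaf 306)) (.node 1 (.leaf 807) (.leaf 211))) (.node 2 (.node 1 (.leaf 459) (.leaf 343)) (.node 1 (.leaf 812) (.leaf 213))))) (.node 8 (.node 4 (.node 2 (.node 1 (.leaf 816) (.leaf 822)) (.node 1 (.leaf 214) (.leaf 466))) (.node 2 (.node 1 (.leaf 827) (.leaf 368)) (.node 1 (.leaf 472) (.leaf 220)))) (.node 4 (.node 2 (.node 1 (.leaf 736) (.leaf 571)) (.node 1 (.leaf 633) (.leaf 336))) (.node 2 (.node 1 (.leaf 686) (.leaf 225)) (.node 1 (.leaf 477) (.leaf 711))))))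
def pre1_15 : T := (.node 16 (.node 8 (.node 4 (.node 2 (.node 1 (.leaf 840) (.leaf 229)) (.node 1 (.leaf 456) (.leaf 481))) (.node 2 (.node 1 (.leaf 627) (.leaf 577)) (.node 1 (.leaf 559) (.leaf 847)))) (.node 4 (.node 2 (.node 1 (.leaf 511) (.leaf 233)) (.node 1 (.leaf 489) (.leaf 509))) (.node 2 (.node 1 (.leaf 439) (.leaf 638)) (.node 1 (.leaf 269) (.leaf 854))))) (.node 8 (.node 4 (.node 2 (.node 1 (.leaf 856) (.leaf 238)) (.node 1 (.leaf 861) (.leaf 493))) (.node 2 (.node 1 (.leaf 384) (.leaf 252)) (.node 1 (.leaf 785) (.leaf 850)))) (.node 4 (.node 2 (.node 1 (.leaf 449) (.leaf 708)) (.node 1 (.leaf 873) (.leaf 786))) (.node 2 (.node 1 (.leaf 488) (.leaf 243)) (.node 1 (.leaf 791) (.leaf 508))))))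
def pre1_16 : T := (.node 16 (.node 8 (.node 4 (.node 2 (.node 1 (.leaf 749) (.leaf 246)) (.node 1 (.leaf 513) (.leaf 879))) (.node 2 (.node 1 (.leaf 320) (.leaf 884)) (.node 1 (.leaf 615) (.leaf 621)))) (.node 4 (.node 2 (.node 1 (.leaf 259) (.leaf 866)) (.node 1 (.leaf 777) (.leaf 780))) (.node 2 (.node 1 (.leaf 889) (.leaf 258)) (.node 1 (.leaf 392) (.leaf 694))))) (.node 8 (.node 4 (.node 2 (.node 1 (.leaf 762) (.leaf 262)) (.node 1 (.leaf 529) (.leaf 661))) (.node 2 (.node 1 (.leaf 740) (.leaf 758)) (.node 1 (.leaf 756) (.leaf 263)))) (.node 4 (.node 2 (.node 1 (.leaf 535) (.leaf 679)) (.node 1 (.leaf 409) (.leaf 542))) (.node 2 (.node 1 (.leaf 824) (.leaf 265)) (.node 1 (.leaf 698) (.leaf 728))))))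
def pre1_17 : T := (.node 16 (.node 8 (.node 4 (.node 2 (.node 1 (.leaf 534) (.leaf 695)) (.node 1 (.leaf 267) (.leaf 693))) (.node 2 (.node 1 (.leaf 852) (.leaf 494)) (.node 1 (.leaf 522) (.leaf 441)))) (.node 4 (.node 2 (.node 1 (.leaf 605) (.leaf 429)) (.node 1 (.leaf 524) (.leaf 600))) (.node 2 (.node 1 (.leaf 365) (.leaf 802)) (.node 1 (.leaf 729) (.leaf 278))))) (.node 8 (.node 4 (.node 2 (.node 1 (.leaf 651) (.leaf 349)) (.node 1 (.leaf 371) (.leaf 917))) (.node 2 (.node 1 (.leaf 804) (.leaf 281)) (.node 1 (.leaf 878) (.leaf 678)))) (.node 4 (.node 2 (.node 1 (.leaf 631) (.leaf 345)) (.node 1 (.leaf 584) (.leaf 647))) (.node 2 (.node 1 (.leaf 803) (.leaf 288)) (.node 1 (.leaf 835) (.leaf 681))))))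
def pre1_18 : T := (.node 16 (.node 8 (.node 4 (.node 2 (.node 1 (.leaf 366) (.leaf 292)) (.node 1 (.leaf 567) (.leaf 906))) (.node 2 (.node 1 (.leaf 934) (.leaf 295)) (.node 1 (.leaf 581) (.leaf 644)))) (.node 4 (.node 2 (.node 1 (.leaf 669) (.leaf 936)) (.node 1 (.leaf 300) (.leaf 696))) (.node 2 (.node 1 (.leaf 358) (.leaf 659)) (.node 1 (.leaf 767) (.leaf 553))))) (.node 8 (.node 4 (.node 2 (.node 1 (.leaf 566) (.leaf 457)) (.node 1 (.leaf 829) (.leaf 411))) (.node 2 (.node 1 (.leaf 308) (.leaf 596)) (.node 1 (.leaf 942) (.leaf 945)))) (.node 4 (.node 2 (.node 1 (.leaf 309) (.leaf 697)) (.node 1 (.leaf 310) (.leaf 602))) (.node 2 (.node 1 (.leaf 947) (.leaf 828)) (.node 1 (.leaf 779) (.leaf 393))))))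
def pre1_19 : T := (.node 16 (.node 8 (.node 4 (.node 2 (.node 1 (.leaf 948) (.leaf 316)) (.node 1 (.leaf 609) (.leaf 950))) (.node 2 (.node 1 (.leaf 796) (.leaf 404)) (.node 1 (.leaf 882) (.leaf 794)))) (.node 4 (.node 2 (.node 1 (.leaf 317) (.leaf 616)) (.node 1 (.leaf 516) (.leaf 953))) (.node 2 (.node 1 (.leaf 319) (.leaf 632)) (.node 1 (.leaf 795) (.leaf 955))))) (.node 8 (.node 4 (.node 2 (.node 1 (.leaf 569) (.leaf 322)) (.node 1 (.leaf 957) (.leaf 325))) (.node 2 (.node 1 (.leaf 959) (.leaf 901)) (.node 1 (.leaf 332) (.leaf 809)))) (.node 4 (.node 2 (.node 1 (.leaf 519) (.leaf 331)) (.node 1 (.leaf 909) (.leaf 962))) (.node 2 (.node 1 (.leaf 623) (.leaf 719)) (.node 1 (.leaf 499) (.leaf 970))))))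
def pre1_20 : T := (.node 16 (.node 8 (.node 4 (.node 2 (.node 1 (.leaf 642) (.leaf 475)) (.node 1 (.leaf 972) (.leaf 585))) (.node 2 (.node 1 (.leaf 352) (.leaf 836)) (.node 1 (.leaf 362) (.leaf 473)))) (.node 4 (.node 2 (.node 1 (.leaf 820) (.leaf 704)) (.node 1 (.leaf 735) (.leaf 915))) (.node 2 (.node 1 (.leaf 783) (.leaf 446)) (.node 1 (.leaf 496) (.leaf 580))))) (.node 8 (.node 4 (.node 2 (.node 1 (.leaf 462) (.leaf 405)) (.node 1 (.leaf 528) (.leaf 874))) (.node 2 (.node 1 (.leaf 355) (.leaf 893)) (.node 1 (.leaf 533) (.leaf 359)))) (.node 4 (.node 2 (.node 1 (.leaf 734) (.leaf 937)) (.node 1 (.leaf 986) (.leaf 588))) (.node 2 (.node 1 (.leaf 946) (.leaf 570)) (.node 1 (.leaf 938) (.leaf 657))))))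
def pre1_21 : T := (.node 16 (.node 8 (.node 4 (.node 2 (.node 1 (.leaf 576) (.leaf 721)) (.node 1 (.leaf 890) (.leaf 961))) (.node 2 (.node 1 (.leaf 469) (.leaf 916)) (.node 1 (.leaf 578) (.leaf 891)))) (.node 4 (.node 2 (.node 1 (.leaf 419) (.leaf 682)) (.node 1 (.leaf 575) (.leaf 375))) (.node 2 (.node 1 (.leaf 479) (.leaf 683)) (.node 1 (.leaf 709) (.leaf 604))))) (.node 8 (.node 4 (.node 2 (.node 1 (.leaf 378) (.leaf 688)) (.node 1 (.leaf 506) (.leaf 912))) (.node 2 (.node 1 (.leaf 545) (.leaf 379)) (.node 1 (.leaf 757) (.leaf 692)))) (.node 4 (.node 2 (.node 1 (.leaf 699) (.leaf 382)) (.node 1 (.leaf 539) (.leaf 587))) (.node 2 (.node 1 (.leaf 983) (.leaf 965)) (.node 1 (.leaf 526) (.leaf 825))))))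
def pre1_22 : T := (.node 16 (.node 8 (.node 4 (.node 2 (.node 1 (.leaf 400) (.leaf 390)) (.node 1 (.leaf 977) (.leaf 705))) (.node 2 (.node 1 (.leaf 846) (.leaf 476)) (.node 1 (.leaf 607) (.leaf 684)))) (.node 4 (.node 2 (.node 1 (.leaf 927) (.leaf 928)) (.node 1 (.leaf 990) (.leaf 394))) (.node 2 (.node 1 (.leaf 715) (.leaf 714)) (.node 1 (.leaf 722) (.leaf 398))))) (.node 8 (.node 4 (.node 2 (.node 1 (.leaf 987) (.leaf 397)) (.node 1 (.leaf 997) (.leaf 980))) (.node 2 (.node 1 (.leaf 985) (.leaf 701)) (.node 1 (.leaf 650) (.leaf 988)))) (.node 4 (.node 2 (.node 1 (.leaf 761) (.leaf 401)) (.node 1 (.leaf 598) (.leaf 733))) (.node 2 (.node 1 (.leaf 613) (.leaf 759)) (.node 1 (.leaf 773) (.leaf 726))))))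
def pre1_23 : T := (.node 16 (.node 8 (.node 4 (.node 2 (.node 1 (.leaf 470) (.leaf 540)) (.node 1 (.leaf 538) (.leaf 788))) (.node 2 (.node 1 (.leaf 414) (.leaf 410)) (.node 1 (.leaf 943) (.leaf 748)))) (.node 4 (.node 2 (.node 1 (.leaf 1012) (.leaf 412)) (.node 1 (.leaf 424) (.leaf 1015))) (.node 2 (.node 1 (.leaf 413) (.leaf 851)) (.node 1 (.leaf 634) (.leaf 415))))) (.node 8 (.node 4 (.node 2 (.node 1 (.leaf 751) (.leaf 939)) (.node 1 (.leaf 918) (.leaf 680))) (.node 2 (.node 1 (.leaf 544) (.leaf 527)) (.node 1 (.leaf 662) (.leaf 731)))) (.node 4 (.node 2 (.node 1 (.leaf 742) (.leaf 543)) (.node 1 (.leaf 658) (.leaf 870))) (.node 2 (.node 1 (.leaf 744) (.leaf 746)) (.node 1 (.leaf 521) (.leaf 437))))))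
def pre1_24 : T := (.node 16 (.node 8 (.node 4 (.node 2 (.node 1 (.leaf 1024) (.leaf 963)) (.node 1 (.leaf 1025) (.leaf 774))) (.node 2 (.node 1 (.leaf 772) (.leaf 664)) (.node 1 (.leaf 453) (.leaf 1010)))) (.node 4 (.node 2 (.node 1 (.leaf 1029) (.leaf 550)) (.node 1 (.leaf 1030) (.leaf 908))) (.node 2 (.node 1 (.leaf 447) (.leaf 781)) (.node 1 (.leaf 677) (.leaf 978))))) (.node 8 (.node 4 (.node 2 (.node 1 (.leaf 487) (.leaf 863)) (.node 1 (.leaf 871) (.leaf 510))) (.node 2 (.node 1 (.leaf 999) (.leaf 450)) (.node 1 (.leaf 789) (.leaf 787)))) (.node 4 (.node 2 (.node 1 (.leaf 619) (.leaf 608)) (.node 1 (.leaf 518) (.leaf 951))) (.node 2 (.node 1 (.leaf 834) (.leaf 753)) (.node 1 (.leaf 1016) (.leaf 864))))))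
def pre1_25 : T := (.node 16 (.node 8 (.node 4 (.node 2 (.node 1 (.leaf 1023) (.leaf 1021)) (.node 1 (.leaf 843) (.leaf 924))) (.node 2 (.node 1 (.leaf 892) (.leaf 776)) (.node 1 (.leaf 458) (.leaf 806)))) (.node 4 (.node 2 (.node 1 (.leaf 933) (.leaf 568)) (.node 1 (.leaf 887) (.leaf 1037))) (.node 2 (.node 1 (.leaf 656) (.leaf 670)) (.node 1 (.leaf 855) (.leaf 464))))) (.node 8 (.node 4 (.node 2 (.node 1 (.leaf 815) (.leaf 833)) (.node 1 (.leaf 1026) (.leaf 810))) (.node 2 (.node 1 (.leaf 896) (.leaf 465)) (.node 1 (.leaf 821) (.leaf 1011)))) (.node 4 (.node 2 (.node 1 (.leaf 737) (.leaf 875)) (.node 1 (.leaf 468) (.leaf 826))) (.node 2 (.node 1 (.leaf 552) (.leaf 941)) (.node 1 (.leaf 994) (.leaf 1033))))))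
def pre1_26 : T := (.node 16 (.node 8 (.node 4 (.node 2 (.node 1 (.leaf 923) (.leaf 976)) (.node 1 (.leaf 612) (.leaf 865))) (.node 2 (.node 1 (.leaf 837) (.leaf 645)) (.node 1 (.leaf 480) (.leaf 723)))) (.node 4 (.node 2 (.node 1 (.leaf 838) (.leaf 842)) (.node 1 (.leaf 968) (.leaf 557))) (.node 2 (.node 1 (.leaf 626) (.leaf 629)) (.node 1 (.leaf 505) (.leaf 784))))) (.node 8 (.node 4 (.node 2 (.node 1 (.leaf 515) (.leaf 880)) (.node 1 (.leaf 872) (.leaf 512))) (.node 2 (.node 1 (.leaf 903) (.leaf 495)) (.node 1 (.leaf 853) (.leaf 974)))) (.node 4 (.node 2 (.node 1 (.leaf 654) (.leaf 996)) (.node 1 (.leaf 579) (.leaf 666))) (.node 2 (.node 1 (.leaf 498) (.leaf 860)) (.node 1 (.leaf 823) (.leaf 502))))))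
def pre1_27 : T := (.node 16 (.node 8 (.node 4 (.node 2 (.node 1 (.leaf 1034) (.leaf 574)) (.node 1 (.leaf 766) (.leaf 954))) (.node 2 (.node 1 (.leaf 971) (.leaf 910)) (.node 1 (.leaf 898) (.leaf 507)))) (.node 4 (.node 2 (.node 1 (.leaf 503) (.leaf 690)) (.node 1 (.leaf 589) (.leaf 703))) (.node 2 (.node 1 (.leaf 888) (.leaf 925)) (.node 1 (.leaf 592) (.leaf 848))))) (.node 8 (.node 4 (.node 2 (.node 1 (.leaf 1032) (.leaf 639)) (.node 1 (.leaf 952) (.leaf 517))) (.node 2 (.node 1 (.leaf 883) (.leaf 778)) (.node 1 (.leaf 907) (.leaf 819)))) (.node 4 (.node 2 (.node 1 (.leaf 1019) (.leaf 554)) (.node 1 (.leaf 991) (.leaf 537))) (.node 2 (.node 1 (.leaf 564) (.leaf 531)) (.node 1 (.leaf 857) (.leaf 886))))))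
def pre1_28 : T := (.node 16 (.node 8 (.node 4 (.node 2 (.node 1 (.leaf 648) (.leaf 832)) (.node 1 (.leaf 763) (.leaf 668))) (.node 2 (.node 1 (.leaf 691) (.leaf 845)) (.node 1 (.leaf 563) (.leaf 548)))) (.node 4 (.node 2 (.node 1 (.leaf 984) (.leaf 1031)) (.node 1 (.leaf 858) (.leaf 895))) (.node 2 (.node 1 (.leaf 606) (.leaf 750)) (.node 1 (.leaf 969) (.leaf 1005))))) (.node 8 (.node 4 (.node 2 (.node 1 (.leaf 900) (.leaf 727)) (.node 1 (.leaf 1028) (.leaf 560))) (.node 2 (.node 1 (.leaf 782) (.leaf 902)) (.node 1 (.leaf 1018) (.leaf 628)))) (.node 4 (.node 2 (.node 1 (.leaf 1040) (.leaf 979)) (.node 1 (.leaf 706) (.leaf 897))) (.node 2 (.node 1 (.leaf 572) (.leaf 926)) (.node 1 (.leaf 877) (.leaf 1004))))))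
def pre1_29 : T := (.node 16 (.node 8 (.node 4 (.node 2 (.node 1 (.leaf 1006) (.leaf 931)) (.node 1 (.leaf 867) (.leaf 982))) (.node 2 (.node 1 (.leaf 665) (.leaf 975)) (.node 1 (.leaf 655) (.leaf 775)))) (.node 4 (.node 2 (.node 1 (.leaf 643) (.leaf 932)) (.node 1 (.leaf 813) (.leaf 797))) (.node 2 (.node 1 (.leaf 801) (.leaf 594)) (.node 1 (.leaf 730) (.leaf 760))))) (.node 8 (.node 4 (.node 2 (.node 1 (.leaf 599) (.leaf 944)) (.node 1 (.leaf 899) (.leaf 687))) (.node 2 (.node 1 (.leaf 793) (.leaf 611)) (.node 1 (.leaf 949) (.leaf 622)))) (.node 4 (.node 2 (.node 1 (.leaf 614) (.leaf 792)) (.node 1 (.leaf 930) (.leaf 636))) (.node 2 (.node 1 (.leaf 1020) (.leaf 844)) (.node 1 (.leaf 904) (.leaf 919))))))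
def pre1_30 : T := (.node 16 (.node 8 (.node 4 (.node 2 (.node 1 (.leaf 830) (.leaf 967)) (.node 1 (.leaf 966) (.leaf 995))) (.node 2 (.node 1 (.leaf 798) (.leaf 725)) (.node 1 (.leaf 635) (.leaf 675)))) (.node 4 (.node 2 (.node 1 (.leaf 841) (.leaf 869)) (.node 1 (.leaf 881) (.leaf 1041))) (.node 2 (.node 1 (.leaf 640) (.leaf 973)) (.node 1 (.leaf 814) (.leaf 808))))) (.node 8 (.node 4 (.node 2 (.node 1 (.leaf 817) (.leaf 922)) (.node 1 (.leaf 652) (.leaf 1043))) (.node 2 (.node 1 (.leaf 839) (.leaf 720)) (.node 1 (.leaf 929) (.leaf 1000)))) (.node 4 (.node 2 (.node 1 (.leaf 958) (.leaf 1008)) (.node 1 (.leaf 859) (.leaf 981))) (.node 2 (.node 1 (.leaf 913) (.leaf 989)) (.node 1 (.leaf 717) (.leaf 674))))))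
def pre1_31 : T := (.node 16 (.node 8 (.node 4 (.node 2 (.node 1 (.leaf 768) (.leaf 1014)) (.node 1 (.leaf 960) (.leaf 769))) (.node 2 (.node 1 (.leaf 894) (.leaf 718)) (.node 1 (.leaf 998) (.leaf 739)))) (.node 4 (.node 2 (.node 1 (.leaf 700) (.leaf 1001)) (.node 1 (.leaf 914) (.leaf 993))) (.node 2 (.node 1 (.leaf 712) (.leaf 1042)) (.node 1 (.leaf 713) (.leaf 800))))) (.node 8 (.node 4 (.node 2 (.node 1 (.leaf 724) (.leaf 811)) (.node 1 (.leaf 935) (.leaf 862))) (.node 2 (.node 1 (.leaf 764) (.leaf 747)) (.node 1 (.leaf 1003) (.leaf 1013)))) (.node 4 (.node 2 (.node 1 (.leaf 964) (.leaf 770)) (.node 1 (.leaf 754) (.leaf 876))) (.node 2 (.node 1 (.leaf 1039) (.leaf 940)) (.node 1 (.leaf 905) (.leaf 1007))))))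
def pre1_32 : T := (.node 10 (.node 5 (.node 2 (.node 1 (.leaf 992) (.leaf 1017)) (.node 1 (.leaf 1036) (.node 1 (.leaf 1027) (.leaf 1002)))) (.node 2 (.node 1 (.leaf 805) (.leaf 885)) (.node 1 (.leaf 1022) (.node 1 (.leaf 849) (.leaf 1038))))) (.node 5 (.node 2 (.node 1 (.leaf 799) (.leaf 920)) (.node 1 (.leaf 818) (.node 1 (.leaf 1009) (.leaf 831)))) (.node 3 (.node 1 (.leaf 956) (.node 1 (.leaf 1035) (.leaf 868))) (.node 1 (.leaf 911) (.node 1 (.leaf 921) (.leaf 1044))))))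
/-- Packed data. -/
def pre1 : T := (.node 512 (.node 256 (.node 128 (.node 64 (.node 32 pre1_0 pre1_1) (.node 32 pre1_2 pre1_3)) (.node 64 (.node 32 pre1_4 pre1_5) (.node 32 pre1_6 pre1_7))) (.node 128 (.node 64 (.node 32 pre1_8 pre1_9) (.node 32 pre1_10 pre1_11)) (.node 64 (.node 32 pre1_12 pre1_13) (.node 32 pre1_14 pre1_15)))) (.node 256 (.node 128 (.node 64 (.node 32 pre1_16 pre1_17) (.node 32 pre1_18 pre1_19)) (.node 64 (.node 32 pre1_20 pre1_21) (.node 32 pre1_22 pre1_23))) (.node 128 (.node 64 (.node 32 pre1_24 pre1_25) (.node 32 pre1_26 pre1_27)) (.node 64 (.node 32 pre1_28 pre1_29) (.node 32 pre1_30 (.node 32 pre1_31 pre1_32))))))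
def ref1_0 : T := (.node 16 (.node 8 (.node 4 (.node 2 (.node 1 (.leaf 2) (.leaf 15)) (.node 1 (.leaf 43) (.leaf 70))) (.node 2 (.node 1 (.leaf 87) (.leaf 34)) (.node 1 (.leaf 147) (.leaf 49)))) (.node 4 (.node 2 (.node 1 (.leaf 169) (.leaf 199)) (.node 1 (.leaf 215) (.leaf 74))) (.node 2 (.node 1 (.leaf 72) (.leaf 245)) (.node 1 (.leaf 80) (.leaf 89))))) (.node 8 (.node 4 (.node 2 (.node 1 (.leaf 278) (.leaf 130)) (.node 1 (.leaf 182) (.leaf 355))) (.node 2 (.node 1 (.leaf 306) (.leaf 132)) (.node 1 (.leaf 153) (.leaf 391)))) (.node 4 (.node 2 (.node 1 (.leaf 160) (.leaf 173)) (.node 1 (.leaf 328) (.leaf 423))) (.node 2 (.node 1 (.leaf 441) (.leaf 192)) (.node 1 (.leaf 203) (.leaf 473))))))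
def ref1_1 : T := (.node 16 (.node 8 (.node 4 (.node 2 (.node 1 (.leaf 503) (.leaf 212)) (.node 1 (.leaf 225) (.leaf 531))) (.node 2 (.node 1 (.leaf 557) (.leaf 238)) (.node 1 (.leaf 249) (.leaf 617)))) (.node 4 (.node 2 (.node 1 (.leaf 594) (.leaf 265)) (.node 1 (.leaf 277) (.leaf 647))) (.node 2 (.node 1 (.leaf 296) (.leaf 675)) (.node 1 (.leaf 318) (.leaf 719))))) (.node 8 (.node 4 (.node 2 (.node 1 (.leaf 1452) (.leaf 344)) (.node 1 (.leaf 363) (.leaf 1482))) (.node 2 (.node 1 (.leaf 376) (.leaf 825)) (.node 1 (.leaf 847) (.leaf 384)))) (.node 4 (.node 2 (.node 1 (.leaf 395) (.leaf 879)) (.node 1 (.leaf 406) (.leaf 641))) (.node 2 (.node 1 (.leaf 957) (.leaf 420)) (.node 1 (.leaf 425) (.leaf 1013))))))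
def ref1_2 : T := (.node 16 (.node 8 (.node 4 (.node 2 (.node 1 (.leaf 1043) (.leaf 1065)) (.node 1 (.leaf 1087) (.leaf 438))) (.node 2 (.node 1 (.leaf 443) (.leaf 1070)) (.node 1 (.leaf 451) (.leaf 480)))) (.node 4 (.node 2 (.node 1 (.leaf 969) (.leaf 1172)) (.node 1 (.leaf 1104) (.leaf 2434))) (.node 2 (.node 1 (.leaf 468) (.leaf 475)) (.node 1 (.leaf 1125) (.leaf 1278))))) (.node 8 (.node 4 (.node 2 (.node 1 (.leaf 1333) (.leaf 1359)) (.node 1 (.leaf 492) (.leaf 507))) (.node 2 (.node 1 (.leaf 1405) (.leaf 516)) (.node 1 (.leaf 1627) (.leaf 524)))) (.node 4 (.node 2 (.node 1 (.leaf 533) (.leaf 1645)) (.node 1 (.leaf 1550) (.leaf 1683))) (.node 2 (.node 1 (.leaf 1498) (.leaf 1485)) (.node 1 (.leaf 554) (.leaf 559))))))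
def ref1_3 : T := (.node 16 (.node 8 (.node 4 (.node 2 (.node 1 (.leaf 1706) (.leaf 622)) (.node 1 (.leaf 573) (.leaf 1726))) (.node 2 (.node 1 (.leaf 593) (.leaf 1500)) (.node 1 (.leaf 1861) (.leaf 1465)))) (.node 4 (.node 2 (.node 1 (.leaf 1738) (.leaf 1510)) (.node 1 (.leaf 1552) (.leaf 918))) (.node 2 (.node 1 (.leaf 1983) (.leaf 655)) (.node 1 (.leaf 2013) (.leaf 2037))))) (.node 8 (.node 4 (.node 2 (.node 1 (.leaf 2069) (.leaf 683)) (.node 1 (.leaf 2099) (.leaf 698))) (.node 2 (.node 1 (.leaf 1503) (.leaf 708)) (.node 1 (.leaf 725) (.leaf 1273)))) (.node 4 (.node 2 (.node 1 (.leaf 1842) (.leaf 1505)) (.node 1 (.leaf 1312) (.leaf 2169))) (.node 2 (.node 1 (.leaf 1496) (.leaf 2525)) (.node 1 (.leaf 788) (.leaf 1698))))))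
def ref1_4 : T := (.node 16 (.node 8 (.node 4 (.node 2 (.node 1 (.leaf 2579) (.leaf 2364)) (.node 1 (.leaf 2020) (.leaf 2437))) (.node 2 (.node 1 (.leaf 829) (.leaf 2610)) (.node 1 (.leaf 2413) (.leaf 2353)))) (.node 4 (.node 2 (.node 1 (.leaf 2731) (.leaf 844)) (.node 1 (.leaf 849) (.leaf 2698))) (.node 2 (.node 1 (.leaf 857) (.leaf 886)) (.node 1 (.leaf 1425) (.leaf 2277))))) (.node 8 (.node 4 (.node 2 (.node 1 (.leaf 2752) (.leaf 2835)) (.node 1 (.leaf 874) (.leaf 881))) (.node 2 (.node 1 (.leaf 2770) (.leaf 2866)) (.node 1 (.leaf 2878) (.leaf 2064)))) (.node 4 (.node 2 (.node 1 (.leaf 2502) (.leaf 2240)) (.node 1 (.leaf 2383) (.leaf 914))) (.node 2 (.node 1 (.leaf 3013) (.leaf 3045)) (.node 1 (.leaf 1509) (.leaf 1662))))))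
def ref1_5 : T := (.node 16 (.node 8 (.node 4 (.node 2 (.node 1 (.leaf 942) (.leaf 963)) (.node 1 (.leaf 1196) (.leaf 973))) (.node 2 (.node 1 (.leaf 1024) (.leaf 979)) (.node 1 (.leaf 3096) (.leaf 1822)))) (.node 4 (.node 2 (.node 1 (.leaf 3205) (.leaf 1004)) (.node 1 (.leaf 1015) (.leaf 1581))) (.node 2 (.node 1 (.leaf 3228) (.leaf 3249)) (.node 1 (.leaf 10535) (.leaf 1036))))) (.node 8 (.node 4 (.node 2 (.node 1 (.leaf 1047) (.leaf 3299)) (.node 1 (.leaf 3329) (.leaf 1558))) (.node 2 (.node 1 (.leaf 1062) (.leaf 1067)) (.node 1 (.leaf 1072) (.leaf 1927)))) (.node 4 (.node 2 (.node 1 (.leaf 1108) (.leaf 1089)) (.node 1 (.leaf 1097) (.leaf 1107))) (.node 2 (.node 1 (.leaf 3371) (.leaf 1123)) (.node 1 (.leaf 1132) (.leaf 1151))))))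
def ref1_6 : T := (.node 16 (.node 8 (.node 4 (.node 2 (.node 1 (.leaf 1575) (.leaf 1952)) (.node 1 (.leaf 1210) (.leaf 1302))) (.node 2 (.node 1 (.leaf 1387) (.leaf 3530)) (.node 1 (.leaf 1192) (.leaf 1817)))) (.node 4 (.node 2 (.node 1 (.leaf 3613) (.leaf 1208)) (.node 1 (.leaf 3396) (.leaf 3430))) (.node 2 (.node 1 (.leaf 2479) (.leaf 2471)) (.node 1 (.leaf 1236) (.leaf 2220))))) (.node 8 (.node 4 (.node 2 (.node 1 (.leaf 2410) (.leaf 3476)) (.node 1 (.leaf 1322) (.leaf 3687))) (.node 2 (.node 1 (.leaf 1341) (.leaf 2814)) (.node 1 (.leaf 3743) (.leaf 2936)))) (.node 4 (.node 2 (.node 1 (.leaf 3767) (.leaf 1356)) (.node 1 (.leaf 1361) (.leaf 3559))) (.node 2 (.node 1 (.leaf 1373) (.leaf 1412)) (.node 1 (.leaf 2125) (.leaf 2688))))))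
def ref1_7 : T := (.node 16 (.node 8 (.node 4 (.node 2 (.node 1 (.leaf 2301) (.leaf 3839)) (.node 1 (.leaf 1400) (.leaf 1407))) (.node 2 (.node 1 (.leaf 5925) (.leaf 3890)) (.node 1 (.leaf 2792) (.leaf 2333)))) (.node 4 (.node 2 (.node 1 (.leaf 1603) (.leaf 3961)) (.node 1 (.leaf 1618) (.leaf 1633))) (.node 2 (.node 1 (.leaf 1656) (.leaf 3986)) (.node 1 (.leaf 2234) (.leaf 1647))))) (.node 8 (.node 4 (.node 2 (.node 1 (.leaf 2680) (.leaf 1669)) (.node 1 (.leaf 4081) (.leaf 11494))) (.node 2 (.node 1 (.leaf 1676) (.leaf 1687)) (.node 1 (.leaf 4129) (.leaf 3105)))) (.node 4 (.node 2 (.node 1 (.leaf 2546) (.leaf 1713)) (.node 1 (.leaf 1720) (.leaf 1729))) (.node 2 (.node 1 (.leaf 3345) (.leaf 1741)) (.node 1 (.leaf 3155) (.leaf 1908))))))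
def ref1_8 : T := (.node 16 (.node 8 (.node 4 (.node 2 (.node 1 (.leaf 1769) (.leaf 1896)) (.node 1 (.leaf 1936) (.leaf 2514))) (.node 2 (.node 1 (.leaf 3411) (.leaf 3082)) (.node 1 (.leaf 4269) (.leaf 4295)))) (.node 4 (.node 2 (.node 1 (.leaf 1838) (.leaf 10293)) (.node 1 (.leaf 2142) (.leaf 3064))) (.node 2 (.node 1 (.leaf 1871) (.leaf 4369)) (.node 1 (.leaf 3106) (.leaf 2204))))) (.node 8 (.node 4 (.node 2 (.node 1 (.leaf 4401) (.leaf 2184)) (.node 1 (.leaf 4222) (.leaf 1942))) (.node 2 (.node 1 (.leaf 4439) (.leaf 3879)) (.node 1 (.leaf 3936) (.leaf 4483)))) (.node 4 (.node 2 (.node 1 (.leaf 2330) (.leaf 3646)) (.node 1 (.leaf 2468) (.leaf 2620))) (.node 2 (.node 1 (.leaf 2372) (.leaf 3706)) (.node 1 (.leaf 2045) (.leaf 2861))))))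
def ref1_9 : T := (.node 16 (.node 8 (.node 4 (.node 2 (.node 1 (.leaf 3640) (.leaf 2988)) (.node 1 (.leaf 2926) (.leaf 2476))) (.node 2 (.node 1 (.leaf 3922) (.leaf 2380)) (.node 1 (.leaf 2946) (.leaf 4671)))) (.node 4 (.node 2 (.node 1 (.leaf 2094) (.leaf 2103)) (.node 1 (.leaf 2131) (.leaf 2447))) (.node 2 (.node 1 (.leaf 2729) (.leaf 3414)) (.node 1 (.leaf 2155) (.leaf 2262))))) (.node 8 (.node 4 (.node 2 (.node 1 (.leaf 2191) (.leaf 2203)) (.node 1 (.leaf 4743) (.leaf 2214))) (.node 2 (.node 1 (.leaf 4763) (.leaf 8774)) (.node 1 (.leaf 4805) (.leaf 4026)))) (.node 4 (.node 2 (.node 1 (.leaf 2274) (.leaf 2250)) (.node 1 (.leaf 3459) (.leaf 4162))) (.node 2 (.node 1 (.leaf 4855) (.leaf 4883)) (.node 1 (.leaf 2529) (.leaf 11718))))))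
def ref1_10 : T := (.node 16 (.node 8 (.node 4 (.node 2 (.node 1 (.leaf 4900) (.leaf 2545)) (.node 1 (.leaf 2654) (.leaf 2562))) (.node 2 (.node 1 (.leaf 2585) (.leaf 3915)) (.node 1 (.leaf 5007) (.leaf 2604)))) (.node 4 (.node 2 (.node 1 (.leaf 5930) (.leaf 2618)) (.node 1 (.leaf 5904) (.leaf 3814))) (.node 2 (.node 1 (.leaf 2650) (.leaf 4972)) (.node 1 (.leaf 2665) (.leaf 2679))))) (.node 8 (.node 4 (.node 2 (.node 1 (.leaf 5117) (.leaf 2686)) (.node 1 (.leaf 2701) (.leaf 2776))) (.node 2 (.node 1 (.leaf 4696) (.leaf 2722)) (.node 1 (.leaf 2733) (.leaf 2741)))) (.node 4 (.node 2 (.node 1 (.leaf 2755) (.leaf 4950)) (.node 1 (.leaf 2773) (.leaf 5943))) (.node 2 (.node 1 (.leaf 5188) (.leaf 2787)) (.node 1 (.leaf 2802) (.leaf 5225))))))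
def ref1_11 : T := (.node 16 (.node 8 (.node 4 (.node 2 (.node 1 (.leaf 11363) (.leaf 3724)) (.node 1 (.leaf 10536) (.leaf 10426))) (.node 2 (.node 1 (.leaf 2828) (.leaf 2839)) (.node 1 (.leaf 5363) (.leaf 2966)))) (.node 4 (.node 2 (.node 1 (.leaf 2855) (.leaf 2865)) (.node 1 (.leaf 2874) (.leaf 2902))) (.node 2 (.node 1 (.leaf 2890) (.leaf 2919)) (.node 1 (.leaf 5411) (.leaf 2924))))) (.node 8 (.node 4 (.node 2 (.node 1 (.leaf 5427) (.leaf 2934)) (.node 1 (.leaf 2952) (.leaf 3574))) (.node 2 (.node 1 (.leaf 5330) (.leaf 2977)) (.node 1 (.leaf 2991) (.leaf 5509)))) (.node 4 (.node 2 (.node 1 (.leaf 3000) (.leaf 3021)) (.node 1 (.leaf 5553) (.leaf 5640))) (.node 2 (.node 1 (.leaf 3034) (.leaf 3053)) (.node 1 (.leaf 11152) (.leaf 4354))))))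
def ref1_12 : T := (.node 16 (.node 8 (.node 4 (.node 2 (.node 1 (.leaf 3088) (.leaf 3085)) (.node 1 (.leaf 4040) (.leaf 3178))) (.node 2 (.node 1 (.leaf 3514) (.leaf 3378)) (.node 1 (.leaf 5737) (.leaf 3168)))) (.node 4 (.node 2 (.node 1 (.leaf 5706) (.leaf 5773)) (.node 1 (.leaf 5809) (.leaf 3198))) (.node 2 (.node 1 (.leaf 3209) (.leaf 6024)) (.node 1 (.leaf 5094) (.leaf 3227))))) (.node 8 (.node 4 (.node 2 (.node 1 (.leaf 12258) (.leaf 10157)) (.node 1 (.leaf 3246) (.leaf 3251))) (.node 2 (.node 1 (.leaf 6157) (.leaf 12236)) (.node 1 (.leaf 10068) (.leaf 6225)))) (.node 4 (.node 2 (.node 1 (.leaf 3264) (.leaf 6210)) (.node 1 (.leaf 3277) (.leaf 3306))) (.node 2 (.node 1 (.leaf 5602) (.leaf 6296)) (.node 1 (.leaf 10124) (.leaf 6357))))))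
def ref1_13 : T := (.node 16 (.node 8 (.node 4 (.node 2 (.node 1 (.leaf 3294) (.leaf 3301)) (.node 1 (.leaf 5622) (.leaf 6392))) (.node 2 (.node 1 (.leaf 10434) (.leaf 6312)) (.node 1 (.leaf 3318) (.leaf 3333)))) (.node 4 (.node 2 (.node 1 (.leaf 6573) (.leaf 4067)) (.node 1 (.leaf 3359) (.leaf 3365))) (.node 2 (.node 1 (.leaf 3381) (.leaf 4730)) (.node 1 (.leaf 3393) (.leaf 3442))))) (.node 8 (.node 4 (.node 2 (.node 1 (.leaf 3405) (.leaf 3422)) (.node 1 (.leaf 3439) (.leaf 3446))) (.node 2 (.node 1 (.leaf 11088) (.leaf 4720)) (.node 1 (.leaf 3483) (.leaf 3501)))) (.node 4 (.node 2 (.node 1 (.leaf 3517) (.leaf 3524)) (.node 1 (.leaf 3537) (.leaf 3544))) (.node 2 (.node 1 (.leaf 3555) (.leaf 4507)) (.node 1 (.leaf 3591) (.leaf 4196))))))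
def ref1_14 : T := (.node 16 (.node 8 (.node 4 (.node 2 (.node 1 (.leaf 11091) (.leaf 3607)) (.node 1 (.leaf 6853) (.leaf 3617))) (.node 2 (.node 1 (.leaf 11744) (.leaf 6636)) (.node 1 (.leaf 4600) (.leaf 4520)))) (.node 4 (.node 2 (.node 1 (.leaf 3653) (.leaf 3664)) (.node 1 (.leaf 7007) (.leaf 3674))) (.node 2 (.node 1 (.leaf 3693) (.leaf 3709)) (.node 1 (.leaf 7047) (.leaf 3714))))) (.node 8 (.node 4 (.node 2 (.node 1 (.leaf 7079) (.leaf 7097)) (.node 1 (.leaf 3736) (.leaf 3747))) (.node 2 (.node 1 (.leaf 7129) (.leaf 3756)) (.node 1 (.leaf 3788) (.leaf 3773)))) (.node 4 (.node 2 (.node 1 (.leaf 11198) (.leaf 4580)) (.node 1 (.leaf 5068) (.leaf 3824))) (.node 2 (.node 1 (.leaf 9348) (.leaf 3832)) (.node 1 (.leaf 3843) (.leaf 9336))))))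
def ref1_15 : T := (.node 16 (.node 8 (.node 4 (.node 2 (.node 1 (.leaf 7314) (.leaf 3861)) (.node 1 (.leaf 3871) (.leaf 3889))) (.node 2 (.node 1 (.leaf 4994) (.leaf 4630)) (.node 1 (.leaf 4468) (.leaf 7401)))) (.node 4 (.node 2 (.node 1 (.leaf 11507) (.leaf 3950)) (.node 1 (.leaf 3969) (.leaf 11586))) (.node 2 (.node 1 (.leaf 3993) (.leaf 5104)) (.node 1 (.leaf 4003) (.leaf 7531))))) (.node 8 (.node 4 (.node 2 (.node 1 (.leaf 7549) (.leaf 4022)) (.node 1 (.leaf 7573) (.leaf 4036))) (.node 2 (.node 1 (.leaf 4048) (.leaf 4059)) (.node 1 (.leaf 6830) (.leaf 11692)))) (.node 4 (.node 2 (.node 1 (.leaf 4083) (.leaf 11432)) (.node 1 (.leaf 7745) (.leaf 11918))) (.node 2 (.node 1 (.leaf 11504) (.leaf 4096)) (.node 1 (.leaf 6861) (.leaf 4111))))))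
def ref1_16 : T := (.node 16 (.node 8 (.node 4 (.node 2 (.node 1 (.leaf 12380) (.leaf 4124)) (.node 1 (.leaf 4131) (.leaf 7900))) (.node 2 (.node 1 (.leaf 4148) (.leaf 7973)) (.node 1 (.leaf 4878) (.leaf 4930)))) (.node 4 (.node 2 (.node 1 (.leaf 4166) (.leaf 7620)) (.node 1 (.leaf 6734) (.leaf 6762))) (.node 2 (.node 1 (.leaf 8067) (.leaf 4212)) (.node 1 (.leaf 4239) (.leaf 5593))))) (.node 8 (.node 4 (.node 2 (.node 1 (.leaf 10017) (.leaf 4266)) (.node 1 (.leaf 4271) (.leaf 10552))) (.node 2 (.node 1 (.leaf 10248) (.leaf 10040)) (.node 1 (.leaf 10220) (.leaf 4292)))) (.node 4 (.node 2 (.node 1 (.leaf 4297) (.leaf 10464)) (.node 1 (.leaf 9834) (.leaf 4332))) (.node 2 (.node 1 (.leaf 10692) (.leaf 4320)) (.node 1 (.leaf 9858) (.leaf 10278))))))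
def ref1_17 : T := (.node 16 (.node 8 (.node 4 (.node 2 (.node 1 (.leaf 10188) (.leaf 5632)) (.node 1 (.leaf 4346) (.leaf 5643))) (.node 2 (.node 1 (.leaf 7500) (.leaf 4379)) (.node 1 (.leaf 4397) (.leaf 4409)))) (.node 4 (.node 2 (.node 1 (.leaf 10926) (.leaf 4418)) (.node 1 (.leaf 4426) (.leaf 8794))) (.node 2 (.node 1 (.leaf 4449) (.leaf 6972)) (.node 1 (.leaf 10140) (.leaf 4464))))) (.node 8 (.node 4 (.node 2 (.node 1 (.leaf 5212) (.leaf 4491)) (.node 1 (.leaf 4501) (.leaf 8949))) (.node 2 (.node 1 (.leaf 8979) (.leaf 4516)) (.node 1 (.leaf 11996) (.leaf 5446)))) (.node 4 (.node 2 (.node 1 (.leaf 9610) (.leaf 4565)) (.node 1 (.leaf 4686) (.leaf 5956))) (.node 2 (.node 1 (.leaf 6981) (.leaf 4596)) (.node 1 (.leaf 12326) (.leaf 5472))))))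
def ref1_18 : T := (.node 16 (.node 8 (.node 4 (.node 2 (.node 1 (.leaf 4626) (.leaf 4644)) (.node 1 (.leaf 4654) (.leaf 10674))) (.node 2 (.node 1 (.leaf 9195) (.leaf 4664)) (.node 1 (.leaf 4679) (.leaf 11354)))) (.node 4 (.node 2 (.node 1 (.leaf 5380) (.leaf 9257)) (.node 1 (.leaf 4694) (.leaf 9910))) (.node 2 (.node 1 (.leaf 10451) (.leaf 10371)) (.node 1 (.leaf 6612) (.leaf 4736))))) (.node 8 (.node 4 (.node 2 (.node 1 (.leaf 7218) (.leaf 4747)) (.node 1 (.leaf 12276) (.leaf 5614))) (.node 2 (.node 1 (.leaf 4760) (.leaf 4767)) (.node 1 (.leaf 12597) (.leaf 12641)))) (.node 4 (.node 2 (.node 1 (.leaf 4782) (.leaf 11155)) (.node 1 (.leaf 4798) (.leaf 4807))) (.node 2 (.node 1 (.leaf 12677) (.leaf 10929)) (.node 1 (.leaf 11215) (.leaf 4840))))))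
def ref1_19 : T := (.node 16 (.node 8 (.node 4 (.node 2 (.node 1 (.leaf 12697) (.leaf 4848)) (.node 1 (.leaf 4857) (.leaf 12731))) (.node 2 (.node 1 (.leaf 11906) (.leaf 12197)) (.node 1 (.leaf 9550) (.leaf 11761)))) (.node 4 (.node 2 (.node 1 (.leaf 4880) (.leaf 4885)) (.node 1 (.leaf 4899) (.leaf 12775))) (.node 2 (.node 1 (.leaf 4918) (.leaf 9496)) (.node 1 (.leaf 11967) (.leaf 12803))))) (.node 8 (.node 4 (.node 2 (.node 1 (.leaf 4957) (.leaf 4962)) (.node 1 (.leaf 12837) (.leaf 4984))) (.node 2 (.node 1 (.leaf 12867) (.leaf 9587)) (.node 1 (.leaf 5011) (.leaf 9613)))) (.node 4 (.node 2 (.node 1 (.leaf 9499) (.leaf 5056)) (.node 1 (.leaf 9569) (.leaf 12896))) (.node 2 (.node 1 (.leaf 5085) (.leaf 5822)) (.node 1 (.leaf 5108) (.leaf 13017))))))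
def ref1_20 : T := (.node 16 (.node 8 (.node 4 (.node 2 (.node 1 (.leaf 9534) (.leaf 5125)) (.node 1 (.leaf 13052) (.leaf 5152))) (.node 2 (.node 1 (.leaf 5180) (.leaf 9366)) (.node 1 (.leaf 5192) (.leaf 5959)))) (.node 4 (.node 2 (.node 1 (.leaf 12179) (.leaf 12261)) (.node 1 (.leaf 12445) (.leaf 8910))) (.node 2 (.node 1 (.leaf 6794) (.leaf 5235)) (.node 1 (.leaf 11381) (.leaf 11371))))) (.node 8 (.node 4 (.node 2 (.node 1 (.leaf 5267) (.leaf 10528)) (.node 1 (.leaf 10349) (.leaf 12350))) (.node 2 (.node 1 (.leaf 5310) (.leaf 10555)) (.node 1 (.leaf 10397) (.leaf 5329)))) (.node 4 (.node 2 (.node 1 (.leaf 10647) (.leaf 10642)) (.node 1 (.leaf 13259) (.leaf 10448))) (.node 2 (.node 1 (.leaf 12671) (.leaf 5384)) (.node 1 (.leaf 12038) (.leaf 12239))))))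
def ref1_21 : T := (.node 16 (.node 8 (.node 4 (.node 2 (.node 1 (.leaf 5415) (.leaf 6027)) (.node 1 (.leaf 12464) (.leaf 12882))) (.node 2 (.node 1 (.leaf 5431) (.leaf 8920)) (.node 1 (.leaf 5454) (.leaf 10467)))) (.node 4 (.node 2 (.node 1 (.leaf 10591) (.leaf 5478)) (.node 1 (.leaf 5484) (.leaf 5987))) (.node 2 (.node 1 (.leaf 9335) (.leaf 5984)) (.node 1 (.leaf 6034) (.leaf 5532))))) (.node 8 (.node 4 (.node 2 (.node 1 (.leaf 5542) (.leaf 5559)) (.node 1 (.leaf 12084) (.leaf 12493))) (.node 2 (.node 1 (.leaf 5636) (.leaf 5576)) (.node 1 (.leaf 6426) (.leaf 5635)))) (.node 4 (.node 2 (.node 1 (.leaf 5694) (.leaf 5666)) (.node 1 (.leaf 9861) (.leaf 9901))) (.node 2 (.node 1 (.leaf 13216) (.leaf 12934)) (.node 1 (.leaf 5714) (.leaf 10846))))))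
def ref1_22 : T := (.node 16 (.node 8 (.node 4 (.node 2 (.node 1 (.leaf 11191) (.leaf 5728)) (.node 1 (.leaf 13128) (.leaf 5745))) (.node 2 (.node 1 (.leaf 11581) (.leaf 9353)) (.node 1 (.leaf 5779) (.leaf 6011)))) (.node 4 (.node 2 (.node 1 (.leaf 12495) (.leaf 9138)) (.node 1 (.leaf 13328) (.leaf 5806))) (.node 2 (.node 1 (.leaf 5811) (.leaf 5815)) (.node 1 (.leaf 5864) (.leaf 5821))))) (.node 8 (.node 4 (.node 2 (.node 1 (.leaf 13284) (.leaf 5850)) (.node 1 (.leaf 13452) (.leaf 13162))) (.node 2 (.node 1 (.leaf 13248) (.leaf 11301)) (.node 1 (.leaf 12442) (.leaf 13304)))) (.node 4 (.node 2 (.node 1 (.leaf 6522) (.leaf 6096)) (.node 1 (.leaf 10173) (.leaf 6168))) (.node 2 (.node 1 (.leaf 12194) (.leaf 6511)) (.node 1 (.leaf 10626) (.leaf 11260))))))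
def ref1_23 : T := (.node 16 (.node 8 (.node 4 (.node 2 (.node 1 (.leaf 11201) (.leaf 10329)) (.node 1 (.leaf 9855) (.leaf 12363))) (.node 2 (.node 1 (.leaf 6234) (.leaf 6227)) (.node 1 (.leaf 12618) (.leaf 6328)))) (.node 4 (.node 2 (.node 1 (.leaf 13706) (.leaf 6308)) (.node 1 (.leaf 6321) (.leaf 13757))) (.node 2 (.node 1 (.leaf 6326) (.leaf 12383)) (.node 1 (.leaf 12571) (.leaf 6350))))) (.node 8 (.node 4 (.node 2 (.node 1 (.leaf 6361) (.leaf 12456)) (.node 1 (.leaf 12403) (.leaf 10588))) (.node 2 (.node 1 (.leaf 6401) (.leaf 6436)) (.node 1 (.leaf 10394) (.leaf 6507)))) (.node 4 (.node 2 (.node 1 (.leaf 6519) (.leaf 10086)) (.node 1 (.leaf 10346) (.leaf 12374))) (.node 2 (.node 1 (.leaf 6567) (.leaf 6577)) (.node 1 (.leaf 6600) (.leaf 6620))))))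
def ref1_24 : T := (.node 16 (.node 8 (.node 4 (.node 2 (.node 1 (.leaf 13917) (.leaf 12918)) (.node 1 (.leaf 13933) (.leaf 6676))) (.node 2 (.node 1 (.leaf 11908) (.leaf 10410)) (.node 1 (.leaf 6684) (.leaf 13660)))) (.node 4 (.node 2 (.node 1 (.leaf 14005) (.leaf 6742)) (.node 1 (.leaf 14026) (.leaf 8654))) (.node 2 (.node 1 (.leaf 6772) (.leaf 11620)) (.node 1 (.leaf 6788) (.leaf 13142))))) (.node 8 (.node 4 (.node 2 (.node 1 (.leaf 6807) (.leaf 7593)) (.node 1 (.leaf 7670) (.leaf 11681))) (.node 2 (.node 1 (.leaf 13484) (.leaf 6850)) (.node 1 (.leaf 6855) (.leaf 11678)))) (.node 4 (.node 2 (.node 1 (.leaf 11964) (.leaf 11968)) (.node 1 (.leaf 11753) (.leaf 12748))) (.node 2 (.node 1 (.leaf 12048) (.leaf 12509)) (.node 1 (.leaf 13782) (.leaf 9112))))))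
def ref1_25 : T := (.node 16 (.node 8 (.node 4 (.node 2 (.node 1 (.leaf 13904) (.leaf 13870)) (.node 1 (.leaf 7354) (.leaf 9084))) (.node 2 (.node 1 (.leaf 10662) (.leaf 10954)) (.node 1 (.leaf 6996) (.leaf 7015)))) (.node 4 (.node 2 (.node 1 (.leaf 10793) (.leaf 7036)) (.node 1 (.leaf 11832) (.leaf 14151))) (.node 2 (.node 1 (.leaf 7055) (.leaf 7064)) (.node 1 (.leaf 11867) (.leaf 7072))))) (.node 8 (.node 4 (.node 2 (.node 1 (.leaf 7081) (.leaf 11985)) (.node 1 (.leaf 13952) (.leaf 11859))) (.node 2 (.node 1 (.leaf 11019) (.leaf 7094)) (.node 1 (.leaf 7099) (.leaf 13690)))) (.node 4 (.node 2 (.node 1 (.leaf 10706) (.leaf 10754)) (.node 1 (.leaf 7124) (.leaf 7131))) (.node 2 (.node 1 (.leaf 10779) (.leaf 12279)) (.node 1 (.leaf 13396) (.leaf 14084))))))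
def ref1_26 : T := (.node 16 (.node 8 (.node 4 (.node 2 (.node 1 (.leaf 11233) (.leaf 13104)) (.node 1 (.leaf 7231) (.leaf 12329))) (.node 2 (.node 1 (.leaf 9369) (.leaf 9292)) (.node 1 (.leaf 7293) (.leaf 9381)))) (.node 4 (.node 2 (.node 1 (.leaf 7313) (.leaf 9397)) (.node 1 (.leaf 12996) (.leaf 7360))) (.node 2 (.node 1 (.leaf 7370) (.leaf 9584)) (.node 1 (.leaf 11569) (.leaf 7407))))) (.node 8 (.node 4 (.node 2 (.node 1 (.leaf 11557) (.leaf 7916)) (.node 1 (.leaf 11695) (.leaf 11789))) (.node 2 (.node 1 (.leaf 8582) (.leaf 7524)) (.node 1 (.leaf 7533) (.leaf 13082)))) (.node 4 (.node 2 (.node 1 (.leaf 11378) (.leaf 13422)) (.node 1 (.leaf 10910) (.leaf 10861))) (.node 2 (.node 1 (.leaf 7568) (.leaf 7575)) (.node 1 (.leaf 10937) (.leaf 7597))))))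
def ref1_27 : T := (.node 16 (.node 8 (.node 4 (.node 2 (.node 1 (.leaf 14104) (.leaf 7605)) (.node 1 (.leaf 7632) (.leaf 12790))) (.node 2 (.node 1 (.leaf 13038) (.leaf 8697)) (.node 1 (.leaf 12070) (.leaf 11923)))) (.node 4 (.node 2 (.node 1 (.leaf 7672) (.leaf 12097)) (.node 1 (.leaf 12353) (.leaf 7814))) (.node 2 (.node 1 (.leaf 12006) (.leaf 12008)) (.node 1 (.leaf 11999) (.leaf 11554))))) (.node 8 (.node 4 (.node 2 (.node 1 (.leaf 14064) (.leaf 7933)) (.node 1 (.leaf 12762) (.leaf 7962))) (.node 2 (.node 1 (.leaf 7983) (.leaf 8043)) (.node 1 (.leaf 10986) (.leaf 12034)))) (.node 4 (.node 2 (.node 1 (.leaf 13845) (.leaf 8075)) (.node 1 (.leaf 13348) (.leaf 8171))) (.node 2 (.node 1 (.leaf 10665) (.leaf 8210)) (.node 1 (.leaf 8316) (.leaf 10670))))))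
def ref1_28 : T := (.node 16 (.node 8 (.node 4 (.node 2 (.node 1 (.leaf 12176) (.leaf 10625)) (.node 1 (.leaf 10585) (.leaf 10612))) (.node 2 (.node 1 (.leaf 8548) (.leaf 8565)) (.node 1 (.leaf 9753) (.leaf 8574)))) (.node 4 (.node 2 (.node 1 (.leaf 13236) (.leaf 14054)) (.node 1 (.leaf 10900) (.leaf 10989))) (.node 2 (.node 1 (.leaf 11006) (.leaf 12568)) (.node 1 (.leaf 13013) (.leaf 13578))))) (.node 8 (.node 4 (.node 2 (.node 1 (.leaf 12561) (.leaf 10315)) (.node 1 (.leaf 14003) (.leaf 8902))) (.node 2 (.node 1 (.leaf 8928) (.leaf 9750)) (.node 1 (.leaf 13818) (.leaf 9509)))) (.node 4 (.node 2 (.node 1 (.leaf 14214) (.leaf 13150)) (.node 1 (.leaf 11217) (.leaf 11230))) (.node 2 (.node 1 (.leaf 9080) (.leaf 9118)) (.node 1 (.leaf 12166) (.leaf 13568))))))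
def ref1_29 : T := (.node 16 (.node 8 (.node 4 (.node 2 (.node 1 (.leaf 13594) (.leaf 12583)) (.node 1 (.leaf 9153) (.leaf 13198))) (.node 2 (.node 1 (.leaf 12431) (.leaf 13101)) (.node 1 (.leaf 11368) (.leaf 11246)))) (.node 4 (.node 2 (.node 1 (.leaf 9261) (.leaf 12529)) (.node 1 (.leaf 11836) (.leaf 9721))) (.node 2 (.node 1 (.leaf 9773) (.leaf 9780)) (.node 1 (.leaf 12603) (.leaf 12617))))) (.node 8 (.node 4 (.node 2 (.node 1 (.leaf 12632) (.leaf 12649)) (.node 1 (.leaf 12661) (.leaf 12689))) (.node 2 (.node 1 (.leaf 12707) (.leaf 12716)) (.node 1 (.leaf 12737) (.leaf 12755)))) (.node 4 (.node 2 (.node 1 (.leaf 12769) (.leaf 12783)) (.node 1 (.leaf 12798) (.leaf 12811))) (.node 2 (.node 1 (.leaf 13854) (.leaf 12845)) (.node 1 (.leaf 12860) (.leaf 12871))))))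
def ref1_30 : T := (.node 16 (.node 8 (.node 4 (.node 2 (.node 1 (.leaf 12879) (.leaf 12980)) (.node 1 (.leaf 12964) (.leaf 13419))) (.node 2 (.node 1 (.leaf 12925) (.leaf 12948)) (.node 1 (.leaf 12952) (.leaf 12982)))) (.node 4 (.node 2 (.node 1 (.leaf 12993) (.leaf 13008)) (.node 1 (.leaf 13029) (.leaf 14238))) (.node 2 (.node 1 (.leaf 13059) (.leaf 13073)) (.node 1 (.leaf 13079) (.leaf 13099))))) (.node 8 (.node 4 (.node 2 (.node 1 (.leaf 13118) (.leaf 13127)) (.node 1 (.leaf 13134) (.leaf 14278))) (.node 2 (.node 1 (.leaf 13176) (.leaf 13185)) (.node 1 (.leaf 13206) (.leaf 13504)))) (.node 4 (.node 2 (.node 1 (.leaf 13233) (.leaf 13632)) (.node 1 (.leaf 13271) (.leaf 13295))) (.node 2 (.node 1 (.leaf 13313) (.leaf 13322)) (.node 1 (.leaf 13335) (.leaf 13340))))))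
def ref1_31 : T := (.node 16 (.node 8 (.node 4 (.node 2 (.node 1 (.leaf 13360) (.leaf 13744)) (.node 1 (.leaf 13399) (.leaf 13407))) (.node 2 (.node 1 (.leaf 13436) (.leaf 13447)) (.node 1 (.leaf 13473) (.leaf 13493)))) (.node 4 (.node 2 (.node 1 (.leaf 13496) (.leaf 13521)) (.node 1 (.leaf 13539) (.leaf 13552))) (.node 2 (.node 1 (.leaf 13560) (.leaf 14258)) (.node 1 (.leaf 13601) (.leaf 13616))))) (.node 8 (.node 4 (.node 2 (.node 1 (.leaf 13620) (.leaf 13655)) (.node 1 (.leaf 13676) (.leaf 13685))) (.node 2 (.node 1 (.leaf 13713) (.leaf 13734)) (.node 1 (.leaf 13741) (.leaf 13767)))) (.node 4 (.node 2 (.node 1 (.leaf 13790) (.leaf 13807)) (.node 1 (.leaf 13817) (.leaf 13839))) (.node 2 (.node 1 (.leaf 14192) (.leaf 13881)) (.node 1 (.leaf 13892) (.leaf 13912))))))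
def ref1_32 : T := (.node 10 (.node 5 (.node 2 (.node 1 (.leaf 13927) (.leaf 13941)) (.node 1 (.leaf 14142) (.node 1 (.leaf 13977) (.leaf 13998)))) (.node 2 (.node 1 (.leaf 14017) (.leaf 14038)) (.node 1 (.leaf 14049) (.node 1 (.leaf 14078) (.leaf 14174))))) (.node 5 (.node 2 (.node 1 (.leaf 14096) (.leaf 14117)) (.node 1 (.leaf 14137) (.node 1 (.leaf 14161) (.leaf 14187)))) (.node 3 (.node 1 (.leaf 14208) (.node 1 (.leaf 14225) (.leaf 14230))) (.node 1 (.leaf 14253) (.node 1 (.leaf 14266) (.leaf 14295))))))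
/-- Packed data. -/
def ref1 : T := (.node 512 (.node 256 (.node 128 (.node 64 (.node 32 ref1_0 ref1_1) (.node 32 ref1_2 ref1_3)) (.node 64 (.node 32 ref1_4 ref1_5) (.node 32 ref1_6 ref1_7))) (.node 128 (.node 64 (.node 32 ref1_8 ref1_9) (.node 32 ref1_10 ref1_11)) (.node 64 (.node 32 ref1_12 ref1_13) (.node 32 ref1_14 ref1_15)))) (.node 256 (.node 128 (.node 64 (.node 32 ref1_16 ref1_17) (.node 32 ref1_18 ref1_19)) (.node 64 (.node 32 ref1_20 ref1_21) (.node 32 ref1_22 ref1_23))) (.node 128 (.node 64 (.node 32 ref1_24 ref1_25) (.node 32 ref1_26 ref1_27)) (.node 64 (.node 32 ref1_28 ref1_29) (.node 32 ref1_30 (.node 32 ref1_31 ref1_32))))))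
def pre2_0 : T := (.node 16 (.node 8 (.node 4 (.node 2 (.node 1 (.leaf 1) (.leaf 0)) (.node 1 (.leaf 5) (.leaf 9))) (.node 2 (.node 1 (.leaf 13) (.leaf 2)) (.node 1 (.leaf 19) (.leaf 7)))) (.node 4 (.node 2 (.node 1 (.leaf 23) (.leaf 3)) (.node 1 (.leaf 32) (.leaf 29))) (.node 2 (.node 1 (.leaf 30) (.leaf 4)) (.node 1 (.leaf 38) (.leaf 37))))) (.node 8 (.node 4 (.node 2 (.node 1 (.leaf 40) (.leaf 43)) (.node 1 (.leaf 45) (.leaf 6))) (.node 2 (.node 1 (.leaf 52) (.leaf 50)) (.node 1 (.leaf 49) (.leaf 8)))) (.node 4 (.node 2 (.node 1 (.leaf 56) (.leaf 55)) (.node 1 (.leaf 58) (.leaf 59))) (.node 2 (.node 1 (.leaf 64) (.leaf 11)) (.node 1 (.leaf 12) (.leaf 75))))))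
def pre2_1 : T := (.node 16 (.node 8 (.node 4 (.node 2 (.node 1 (.leaf 10) (.leaf 83)) (.node 1 (.leaf 82) (.leaf 85))) (.node 2 (.node 1 (.leaf 91) (.leaf 15)) (.node 1 (.leaf 14) (.leaf 101)))) (.node 4 (.node 2 (.node 1 (.leaf 16) (.leaf 100)) (.node 1 (.leaf 98) (.leaf 17))) (.node 2 (.node 1 (.leaf 109) (.leaf 18)) (.node 1 (.leaf 113) (.leaf 115))))) (.node 8 (.node 4 (.node 2 (.node 1 (.leaf 120) (.leaf 22)) (.node 1 (.leaf 21) (.leaf 125))) (.node 2 (.node 1 (.leaf 20) (.leaf 87)) (.node 1 (.leaf 134) (.leaf 25)))) (.node 4 (.node 2 (.node 1 (.leaf 24) (.leaf 145)) (.node 1 (.leaf 26) (.leaf 27))) (.node 2 (.node 1 (.leaf 157) (.leaf 107)) (.node 1 (.leaf 155) (.leaf 168))))))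
def pre2_2 : T := (.node 16 (.node 8 (.node 4 (.node 2 (.node 1 (.leaf 28) (.leaf 178)) (.node 1 (.leaf 97) (.leaf 176))) (.node 2 (.node 1 (.leaf 175) (.leaf 190)) (.node 1 (.leaf 104) (.leaf 189)))) (.node 4 (.node 2 (.node 1 (.leaf 196) (.leaf 200)) (.node 1 (.leaf 202) (.leaf 31))) (.node 2 (.node 1 (.leaf 131) (.leaf 206)) (.node 1 (.leaf 78) (.leaf 137))))) (.node 8 (.node 4 (.node 2 (.node 1 (.leaf 117) (.leaf 214)) (.node 1 (.leaf 34) (.leaf 33))) (.node 2 (.node 1 (.leaf 225) (.leaf 35)) (.node 1 (.leaf 233) (.leaf 53)))) (.node 4 (.node 2 (.node 1 (.leaf 132) (.leaf 238)) (.node 1 (.leaf 232) (.leaf 36))) (.node 2 (.node 1 (.leaf 247) (.leaf 250)) (.node 1 (.leaf 245) (.leaf 244))))))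
def pre2_3 : T := (.node 16 (.node 8 (.node 4 (.node 2 (.node 1 (.leaf 224) (.leaf 66)) (.node 1 (.leaf 42) (.leaf 259))) (.node 2 (.node 1 (.leaf 41) (.leaf 39)) (.node 1 (.leaf 267) (.leaf 264)))) (.node 4 (.node 2 (.node 1 (.leaf 70) (.leaf 266)) (.node 1 (.leaf 272) (.leaf 61))) (.node 2 (.node 1 (.leaf 278) (.leaf 44)) (.node 1 (.leaf 281) (.leaf 171))))) (.node 8 (.node 4 (.node 2 (.node 1 (.leaf 288) (.leaf 46)) (.node 1 (.leaf 295) (.leaf 47))) (.node 2 (.node 1 (.leaf 301) (.leaf 80)) (.node 1 (.leaf 212) (.leaf 306)))) (.node 4 (.node 2 (.node 1 (.leaf 48) (.leaf 311)) (.node 1 (.leaf 165) (.leaf 312))) (.node 2 (.node 1 (.leaf 315) (.leaf 51)) (.node 1 (.leaf 318) (.leaf 320))))))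
def pre2_4 : T := (.node 16 (.node 8 (.node 4 (.node 2 (.node 1 (.leaf 293) (.leaf 326)) (.node 1 (.leaf 328) (.leaf 76))) (.node 2 (.node 1 (.leaf 88) (.leaf 332)) (.node 1 (.leaf 54) (.leaf 336)))) (.node 4 (.node 2 (.node 1 (.leaf 339) (.leaf 79)) (.node 1 (.leaf 208) (.leaf 192))) (.node 2 (.node 1 (.leaf 347) (.leaf 348)) (.node 1 (.leaf 350) (.leaf 313))))) (.node 8 (.node 4 (.node 2 (.node 1 (.leaf 352) (.leaf 57)) (.node 1 (.leaf 357) (.leaf 356))) (.node 2 (.node 1 (.leaf 362) (.leaf 359)) (.node 1 (.leaf 305) (.leaf 366)))) (.node 4 (.node 2 (.node 1 (.leaf 368) (.leaf 303)) (.node 1 (.leaf 372) (.leaf 62))) (.node 2 (.node 1 (.leaf 375) (.leaf 60)) (.node 1 (.leaf 383) (.leaf 384))))))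
def pre2_5 : T := (.node 16 (.node 8 (.node 4 (.node 2 (.node 1 (.leaf 381) (.leaf 380)) (.node 1 (.leaf 298) (.leaf 386))) (.node 2 (.node 1 (.leaf 286) (.leaf 122)) (.node 1 (.leaf 390) (.leaf 392)))) (.node 4 (.node 2 (.node 1 (.leaf 63) (.leaf 396)) (.node 1 (.leaf 395) (.leaf 111))) (.node 2 (.node 1 (.leaf 398) (.leaf 400)) (.node 1 (.leaf 405) (.leaf 68))))) (.node 8 (.node 4 (.node 2 (.node 1 (.leaf 67) (.leaf 415)) (.node 1 (.leaf 65) (.leaf 257))) (.node 2 (.node 1 (.leaf 423) (.leaf 422)) (.node 1 (.leaf 210) (.leaf 429)))) (.node 4 (.node 2 (.node 1 (.leaf 431) (.leaf 253)) (.node 1 (.leaf 433) (.leaf 435))) (.node 2 (.node 1 (.leaf 437) (.leaf 71)) (.node 1 (.leaf 69) (.leaf 270))))))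
def pre2_6 : T := (.node 16 (.node 8 (.node 4 (.node 2 (.node 1 (.leaf 139) (.leaf 441)) (.node 1 (.leaf 443) (.leaf 438))) (.node 2 (.node 1 (.leaf 72) (.leaf 447)) (.node 1 (.leaf 222) (.leaf 448)))) (.node 4 (.node 2 (.node 1 (.leaf 73) (.leaf 451)) (.node 1 (.leaf 74) (.leaf 453))) (.node 2 (.node 1 (.leaf 454) (.leaf 455)) (.node 1 (.leaf 77) (.leaf 457))))) (.node 8 (.node 4 (.node 2 (.node 1 (.leaf 138) (.leaf 209)) (.node 1 (.leaf 182) (.leaf 458))) (.node 2 (.node 1 (.leaf 118) (.leaf 462)) (.node 1 (.leaf 81) (.leaf 469)))) (.node 4 (.node 2 (.node 1 (.leaf 470) (.leaf 467)) (.node 1 (.leaf 466) (.leaf 323))) (.node 2 (.node 1 (.leaf 472) (.leaf 329)) (.node 1 (.leaf 198) (.leaf 475))))))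
def pre2_7 : T := (.node 16 (.node 8 (.node 4 (.node 2 (.node 1 (.leaf 96) (.leaf 84)) (.node 1 (.leaf 478) (.leaf 477))) (.node 2 (.node 1 (.leaf 283) (.leaf 480)) (.node 1 (.leaf 230) (.leaf 486)))) (.node 4 (.node 2 (.node 1 (.leaf 90) (.leaf 86)) (.node 1 (.leaf 490) (.leaf 489))) (.node 2 (.node 1 (.leaf 493) (.leaf 428)) (.node 1 (.leaf 89) (.leaf 497))))) (.node 8 (.node 4 (.node 2 (.node 1 (.leaf 499) (.leaf 500)) (.node 1 (.leaf 502) (.leaf 506))) (.node 2 (.node 1 (.leaf 95) (.leaf 94)) (.node 1 (.leaf 512) (.leaf 92)))) (.node 4 (.node 2 (.node 1 (.leaf 516) (.leaf 338)) (.node 1 (.leaf 93) (.leaf 520))) (.node 2 (.node 1 (.leaf 521) (.leaf 185)) (.node 1 (.leaf 522) (.leaf 364))))))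
def pre2_8 : T := (.node 16 (.node 8 (.node 4 (.node 2 (.node 1 (.leaf 523) (.leaf 179)) (.node 1 (.leaf 524) (.leaf 99))) (.node 2 (.node 1 (.leaf 436) (.leaf 526)) (.node 1 (.leaf 527) (.leaf 533)))) (.node 4 (.node 2 (.node 1 (.leaf 103) (.leaf 540)) (.node 1 (.leaf 105) (.leaf 102))) (.node 2 (.node 1 (.leaf 546) (.leaf 548)) (.node 1 (.leaf 191) (.leaf 363))))) (.node 8 (.node 4 (.node 2 (.node 1 (.leaf 106) (.leaf 553)) (.node 1 (.leaf 554) (.leaf 551))) (.node 2 (.node 1 (.leaf 555) (.leaf 557)) (.node 1 (.leaf 108) (.leaf 560)))) (.node 4 (.node 2 (.node 1 (.leaf 559) (.leaf 110)) (.node 1 (.leaf 565) (.leaf 228))) (.node 2 (.node 1 (.leaf 567) (.leaf 568)) (.node 1 (.leaf 164) (.leaf 570))))))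
def pre2_9 : T := (.node 16 (.node 8 (.node 4 (.node 2 (.node 1 (.leaf 112) (.leaf 575)) (.node 1 (.leaf 576) (.leaf 573))) (.node 2 (.node 1 (.leaf 577) (.leaf 128)) (.node 1 (.leaf 578) (.leaf 114)))) (.node 4 (.node 2 (.node 1 (.leaf 582) (.leaf 581)) (.node 1 (.leaf 162) (.leaf 584))) (.node 2 (.node 1 (.leaf 585) (.leaf 116)) (.node 1 (.leaf 590) (.leaf 153))))) (.node 8 (.node 4 (.node 2 (.node 1 (.leaf 591) (.leaf 150)) (.node 1 (.leaf 119) (.leaf 593))) (.node 2 (.node 1 (.leaf 595) (.leaf 556)) (.node 1 (.leaf 601) (.leaf 121)))) (.node 4 (.node 2 (.node 1 (.leaf 123) (.leaf 143)) (.node 1 (.leaf 432) (.leaf 124))) (.node 2 (.node 1 (.leaf 607) (.leaf 613)) (.node 1 (.leaf 126) (.leaf 619))))))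
def pre2_10 : T := (.node 16 (.node 8 (.node 4 (.node 2 (.node 1 (.leaf 127) (.leaf 618)) (.node 1 (.leaf 623) (.leaf 219))) (.node 2 (.node 1 (.leaf 444) (.leaf 626)) (.node 1 (.leaf 129) (.leaf 630)))) (.node 4 (.node 2 (.node 1 (.leaf 130) (.leaf 221)) (.node 1 (.leaf 342) (.leaf 632))) (.node 2 (.node 1 (.leaf 133) (.leaf 636)) (.node 1 (.leaf 637) (.leaf 638))))) (.node 8 (.node 4 (.node 2 (.node 1 (.leaf 135) (.leaf 641)) (.node 1 (.leaf 249) (.leaf 136))) (.node 2 (.node 1 (.leaf 643) (.leaf 583)) (.node 1 (.leaf 330) (.leaf 631)))) (.node 4 (.node 2 (.node 1 (.leaf 644) (.leaf 645)) (.node 1 (.leaf 646) (.leaf 140))) (.node 2 (.node 1 (.leaf 141) (.leaf 651)) (.node 1 (.leaf 142) (.leaf 652))))))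
def pre2_11 : T := (.node 16 (.node 8 (.node 4 (.node 2 (.node 1 (.leaf 144) (.leaf 656)) (.node 1 (.leaf 657) (.leaf 587))) (.node 2 (.node 1 (.leaf 147) (.leaf 146)) (.node 1 (.leaf 665) (.leaf 149)))) (.node 4 (.node 2 (.node 1 (.leaf 669) (.leaf 663)) (.node 1 (.leaf 148) (.leaf 271))) (.node 2 (.node 1 (.leaf 255) (.leaf 600)) (.node 1 (.leaf 151) (.leaf 672))))) (.node 8 (.node 4 (.node 2 (.node 1 (.leaf 152) (.leaf 676)) (.node 1 (.leaf 678) (.leaf 677))) (.node 2 (.node 1 (.leaf 154) (.leaf 681)) (.node 1 (.leaf 682) (.leaf 156)))) (.node 4 (.node 2 (.node 1 (.leaf 685) (.leaf 683)) (.node 1 (.leaf 687) (.leaf 691))) (.node 2 (.node 1 (.leaf 161) (.leaf 160)) (.node 1 (.leaf 603) (.leaf 158))))))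
def pre2_12 : T := (.node 16 (.node 8 (.node 4 (.node 2 (.node 1 (.leaf 159) (.leaf 702)) (.node 1 (.leaf 163) (.leaf 705))) (.node 2 (.node 1 (.leaf 550) (.leaf 492)) (.node 1 (.leaf 166) (.leaf 707)))) (.node 4 (.node 2 (.node 1 (.leaf 167) (.leaf 609)) (.node 1 (.leaf 712) (.leaf 170))) (.node 2 (.node 1 (.leaf 169) (.leaf 720)) (.node 1 (.leaf 172) (.leaf 719))))) (.node 8 (.node 4 (.node 2 (.node 1 (.leaf 173) (.leaf 727)) (.node 1 (.leaf 649) (.leaf 704))) (.node 2 (.node 1 (.leaf 616) (.leaf 174)) (.node 1 (.leaf 737) (.leaf 539)))) (.node 4 (.node 2 (.node 1 (.leaf 671) (.leaf 414)) (.node 1 (.leaf 542) (.leaf 596))) (.node 2 (.node 1 (.leaf 528) (.leaf 747)) (.node 1 (.leaf 409) (.leaf 177))))))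
def pre2_13 : T := (.node 16 (.node 8 (.node 4 (.node 2 (.node 1 (.leaf 752) (.leaf 751)) (.node 1 (.leaf 597) (.leaf 754))) (.node 2 (.node 1 (.leaf 699) (.leaf 658)) (.node 1 (.leaf 181) (.leaf 180)))) (.node 4 (.node 2 (.node 1 (.leaf 724) (.leaf 766)) (.node 1 (.leaf 439) (.leaf 767))) (.node 2 (.node 1 (.leaf 237) (.leaf 183)) (.node 1 (.leaf 771) (.leaf 184))))) (.node 8 (.node 4 (.node 2 (.node 1 (.leaf 314) (.leaf 186)) (.node 1 (.leaf 774) (.leaf 187))) (.node 2 (.node 1 (.leaf 260) (.leaf 188)) (.node 1 (.leaf 195) (.leaf 426)))) (.node 4 (.node 2 (.node 1 (.leaf 777) (.leaf 193)) (.node 1 (.leaf 780) (.leaf 194))) (.node 2 (.node 1 (.leaf 324) (.leaf 782)) (.node 1 (.leaf 783) (.leaf 197))))))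
def pre2_14 : T := (.node 16 (.node 8 (.node 4 (.node 2 (.node 1 (.leaf 199) (.leaf 785)) (.node 1 (.leaf 788) (.leaf 201))) (.node 2 (.node 1 (.leaf 792) (.leaf 203)) (.node 1 (.leaf 204) (.leaf 205)))) (.node 4 (.node 2 (.node 1 (.leaf 802) (.leaf 207)) (.node 1 (.leaf 211) (.leaf 807))) (.node 2 (.node 1 (.leaf 806) (.leaf 809)) (.node 1 (.leaf 213) (.leaf 812))))) (.node 8 (.node 4 (.node 2 (.node 1 (.leaf 813) (.leaf 818)) (.node 1 (.leaf 218) (.leaf 217))) (.node 2 (.node 1 (.leaf 811) (.leaf 215)) (.node 1 (.leaf 216) (.leaf 736)))) (.node 4 (.node 2 (.node 1 (.leaf 220) (.leaf 833)) (.node 1 (.leaf 621) (.leaf 223))) (.node 2 (.node 1 (.leaf 835) (.leaf 227)) (.node 1 (.leaf 226) (.leaf 612))))))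
def pre2_15 : T := (.node 16 (.node 8 (.node 4 (.node 2 (.node 1 (.leaf 229) (.leaf 840)) (.node 1 (.leaf 843) (.leaf 838))) (.node 2 (.node 1 (.leaf 844) (.leaf 485)) (.node 1 (.leaf 231) (.leaf 845)))) (.node 4 (.node 2 (.node 1 (.leaf 518) (.leaf 235)) (.node 1 (.leaf 234) (.leaf 690))) (.node 2 (.node 1 (.leaf 389) (.leaf 236)) (.node 1 (.leaf 852) (.leaf 756))))) (.node 8 (.node 4 (.node 2 (.node 1 (.leaf 723) (.leaf 239)) (.node 1 (.leaf 859) (.leaf 240))) (.node 2 (.node 1 (.leaf 241) (.leaf 866)) (.node 1 (.leaf 242) (.leaf 870)))) (.node 4 (.node 2 (.node 1 (.leaf 863) (.leaf 614)) (.node 1 (.leaf 243) (.leaf 874))) (.node 2 (.node 1 (.leaf 615) (.leaf 873)) (.node 1 (.leaf 875) (.leaf 794))))))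
def pre2_16 : T := (.node 16 (.node 8 (.node 4 (.node 2 (.node 1 (.leaf 246) (.leaf 749)) (.node 1 (.leaf 851) (.leaf 878))) (.node 2 (.node 1 (.leaf 248) (.leaf 572)) (.node 1 (.leaf 488) (.leaf 633)))) (.node 4 (.node 2 (.node 1 (.leaf 251) (.leaf 252)) (.node 1 (.leaf 254) (.leaf 256))) (.node 2 (.node 1 (.leaf 258) (.leaf 889)) (.node 1 (.leaf 261) (.leaf 262))))) (.node 8 (.node 4 (.node 2 (.node 1 (.leaf 412) (.leaf 694)) (.node 1 (.leaf 757) (.leaf 892))) (.node 2 (.node 1 (.leaf 538) (.leaf 263)) (.node 1 (.leaf 854) (.leaf 758)))) (.node 4 (.node 2 (.node 1 (.leaf 662) (.leaf 894)) (.node 1 (.leaf 532) (.leaf 407))) (.node 2 (.node 1 (.leaf 265) (.leaf 824)) (.node 1 (.leaf 410) (.leaf 897))))))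
def pre2_17 : T := (.node 16 (.node 8 (.node 4 (.node 2 (.node 1 (.leaf 853) (.leaf 622)) (.node 1 (.leaf 268) (.leaf 900))) (.node 2 (.node 1 (.leaf 269) (.leaf 903)) (.node 1 (.leaf 388) (.leaf 275)))) (.node 4 (.node 2 (.node 1 (.leaf 907) (.leaf 273)) (.node 1 (.leaf 274) (.leaf 276))) (.node 2 (.node 1 (.leaf 309) (.leaf 277)) (.node 1 (.leaf 913) (.leaf 280))))) (.node 8 (.node 4 (.node 2 (.node 1 (.leaf 279) (.leaf 915)) (.node 1 (.leaf 916) (.leaf 819))) (.node 2 (.node 1 (.leaf 893) (.leaf 282)) (.node 1 (.leaf 879) (.leaf 284)))) (.node 4 (.node 2 (.node 1 (.leaf 285) (.leaf 836)) (.node 1 (.leaf 287) (.leaf 817))) (.node 2 (.node 1 (.leaf 517) (.leaf 291)) (.node 1 (.leaf 686) (.leaf 289))))))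
def pre2_18 : T := (.node 16 (.node 8 (.node 4 (.node 2 (.node 1 (.leaf 290) (.leaf 292)) (.node 1 (.leaf 294) (.leaf 750))) (.node 2 (.node 1 (.leaf 931) (.leaf 297)) (.node 1 (.leaf 296) (.leaf 341)))) (.node 4 (.node 2 (.node 1 (.leaf 299) (.leaf 300)) (.node 1 (.leaf 936) (.leaf 355))) (.node 2 (.node 1 (.leaf 937) (.leaf 871)) (.node 1 (.leaf 302) (.leaf 304))))) (.node 8 (.node 4 (.node 2 (.node 1 (.leaf 848) (.leaf 307)) (.node 1 (.leaf 744) (.leaf 308))) (.node 2 (.node 1 (.leaf 411) (.leaf 418)) (.node 1 (.leaf 876) (.leaf 862)))) (.node 4 (.node 2 (.node 1 (.leaf 365) (.leaf 310)) (.node 1 (.leaf 697) (.leaf 382))) (.node 2 (.node 1 (.leaf 688) (.leaf 886)) (.node 1 (.leaf 925) (.leaf 316))))))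
def pre2_19 : T := (.node 16 (.node 8 (.node 4 (.node 2 (.node 1 (.leaf 664) (.leaf 393)) (.node 1 (.leaf 710) (.leaf 921))) (.node 2 (.node 1 (.leaf 479) (.leaf 317)) (.node 1 (.leaf 505) (.leaf 508)))) (.node 4 (.node 2 (.node 1 (.leaf 404) (.leaf 732)) (.node 1 (.leaf 321) (.leaf 319))) (.node 2 (.node 1 (.leaf 953) (.leaf 474)) (.node 1 (.leaf 545) (.leaf 322))))) (.node 8 (.node 4 (.node 2 (.node 1 (.leaf 837) (.leaf 955)) (.node 1 (.leaf 325) (.leaf 957))) (.node 2 (.node 1 (.leaf 958) (.leaf 784)) (.node 1 (.leaf 327) (.leaf 343)))) (.node 4 (.node 2 (.node 1 (.leaf 331) (.leaf 519)) (.node 1 (.leaf 858) (.leaf 965))) (.node 2 (.node 1 (.leaf 333) (.leaf 334)) (.node 1 (.leaf 335) (.leaf 969))))))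
def pre2_20 : T := (.node 16 (.node 8 (.node 4 (.node 2 (.node 1 (.leaf 971) (.leaf 337)) (.node 1 (.leaf 868) (.leaf 340))) (.node 2 (.node 1 (.leaf 344) (.leaf 345)) (.node 1 (.leaf 346) (.leaf 976)))) (.node 4 (.node 2 (.node 1 (.leaf 668) (.leaf 402)) (.node 1 (.leaf 890) (.leaf 349))) (.node 2 (.node 1 (.leaf 351) (.leaf 978)) (.node 1 (.leaf 980) (.leaf 982))))) (.node 8 (.node 4 (.node 2 (.node 1 (.leaf 353) (.leaf 354)) (.node 1 (.leaf 421) (.leaf 786))) (.node 2 (.node 1 (.leaf 696) (.leaf 804)) (.node 1 (.leaf 536) (.leaf 361)))) (.node 4 (.node 2 (.node 1 (.leaf 608) (.leaf 358)) (.node 1 (.leaf 860) (.leaf 932))) (.node 2 (.node 1 (.leaf 648) (.leaf 360)) (.node 1 (.leaf 815) (.leaf 408))))))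
def pre2_21 : T := (.node 16 (.node 8 (.node 4 (.node 2 (.node 1 (.leaf 367) (.leaf 981)) (.node 1 (.leaf 735) (.leaf 943))) (.node 2 (.node 1 (.leaf 369) (.leaf 371)) (.node 1 (.leaf 370) (.leaf 996)))) (.node 4 (.node 2 (.node 1 (.leaf 918) (.leaf 373)) (.node 1 (.leaf 374) (.leaf 377))) (.node 2 (.node 1 (.leaf 796) (.leaf 376)) (.node 1 (.leaf 574) (.leaf 378))))) (.node 8 (.node 4 (.node 2 (.node 1 (.leaf 604) (.leaf 947)) (.node 1 (.leaf 491) (.leaf 379))) (.node 2 (.node 1 (.leaf 795) (.leaf 912)) (.node 1 (.leaf 529) (.leaf 951)))) (.node 4 (.node 2 (.node 1 (.leaf 660) (.leaf 602)) (.node 1 (.leaf 741) (.leaf 420))) (.node 2 (.node 1 (.leaf 954) (.leaf 962)) (.node 1 (.leaf 385) (.leaf 787))))))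
def pre2_22 : T := (.node 16 (.node 8 (.node 4 (.node 2 (.node 1 (.leaf 403) (.leaf 387)) (.node 1 (.leaf 1003) (.leaf 391))) (.node 2 (.node 1 (.leaf 952) (.leaf 865)) (.node 1 (.leaf 610) (.leaf 834)))) (.node 4 (.node 2 (.node 1 (.leaf 394) (.leaf 769)) (.node 1 (.leaf 1007) (.leaf 927))) (.node 2 (.node 1 (.leaf 1004) (.leaf 800)) (.node 1 (.leaf 753) (.leaf 399))))) (.node 8 (.node 4 (.node 2 (.node 1 (.leaf 397) (.leaf 987)) (.node 1 (.leaf 797) (.leaf 496))) (.node 2 (.node 1 (.leaf 424) (.leaf 966)) (.node 1 (.leaf 991) (.leaf 401)))) (.node 4 (.node 2 (.node 1 (.leaf 923) (.leaf 988)) (.node 1 (.leaf 888) (.leaf 1010))) (.node 2 (.node 1 (.leaf 617) (.leaf 775)) (.node 1 (.leaf 793) (.leaf 674))))))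
def pre2_23 : T := (.node 16 (.node 8 (.node 4 (.node 2 (.node 1 (.leaf 471) (.leaf 406)) (.node 1 (.leaf 740) (.leaf 790))) (.node 2 (.node 1 (.leaf 738) (.leaf 698)) (.node 1 (.leaf 961) (.leaf 1013)))) (.node 4 (.node 2 (.node 1 (.leaf 594) (.leaf 762)) (.node 1 (.leaf 985) (.leaf 413))) (.node 2 (.node 1 (.leaf 1015) (.leaf 513)) (.node 1 (.leaf 579) (.leaf 417))))) (.node 8 (.node 4 (.node 2 (.node 1 (.leaf 416) (.leaf 718)) (.node 1 (.leaf 419) (.leaf 1018))) (.node 2 (.node 1 (.leaf 495) (.leaf 530)) (.node 1 (.leaf 535) (.leaf 935)))) (.node 4 (.node 2 (.node 1 (.leaf 967) (.leaf 832)) (.node 1 (.leaf 745) (.leaf 850))) (.node 2 (.node 1 (.leaf 829) (.leaf 1008)) (.node 1 (.leaf 425) (.leaf 427))))))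
def pre2_24 : T := (.node 16 (.node 8 (.node 4 (.node 2 (.node 1 (.leaf 1022) (.leaf 713)) (.node 1 (.leaf 974) (.leaf 430))) (.node 2 (.node 1 (.leaf 781) (.leaf 948)) (.node 1 (.leaf 434) (.leaf 733)))) (.node 4 (.node 2 (.node 1 (.leaf 1028) (.leaf 440)) (.node 1 (.leaf 1032) (.leaf 877))) (.node 2 (.node 1 (.leaf 442) (.leaf 772)) (.node 1 (.leaf 445) (.leaf 446))))) (.node 8 (.node 4 (.node 2 (.node 1 (.leaf 629) (.leaf 449)) (.node 1 (.leaf 659) (.leaf 703))) (.node 2 (.node 1 (.leaf 450) (.leaf 999)) (.node 1 (.leaf 739) (.leaf 825)))) (.node 4 (.node 2 (.node 1 (.leaf 452) (.leaf 734)) (.node 1 (.leaf 511) (.leaf 692))) (.node 2 (.node 1 (.leaf 684) (.leaf 722)) (.node 1 (.leaf 1033) (.leaf 801))))))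
def pre2_25 : T := (.node 16 (.node 8 (.node 4 (.node 2 (.node 1 (.leaf 717) (.leaf 799)) (.node 1 (.leaf 456) (.leaf 883))) (.node 2 (.node 1 (.leaf 661) (.leaf 1002)) (.node 1 (.leaf 460) (.leaf 459)))) (.node 4 (.node 2 (.node 1 (.leaf 911) (.leaf 461)) (.node 1 (.leaf 902) (.leaf 468))) (.node 2 (.node 1 (.leaf 463) (.leaf 464)) (.node 1 (.leaf 1017) (.leaf 670))))) (.node 8 (.node 4 (.node 2 (.node 1 (.leaf 938) (.leaf 571)) (.node 1 (.leaf 465) (.leaf 563))) (.node 2 (.node 1 (.leaf 899) (.leaf 1026)) (.node 1 (.leaf 1036) (.leaf 944)))) (.node 4 (.node 2 (.node 1 (.leaf 541) (.leaf 791)) (.node 1 (.leaf 1037) (.leaf 1009))) (.node 2 (.node 1 (.leaf 895) (.leaf 764)) (.node 1 (.leaf 920) (.leaf 1016))))))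
def pre2_26 : T := (.node 16 (.node 8 (.node 4 (.node 2 (.node 1 (.leaf 761) (.leaf 473)) (.node 1 (.leaf 711) (.leaf 476))) (.node 2 (.node 1 (.leaf 569) (.leaf 624)) (.node 1 (.leaf 483) (.leaf 856)))) (.node 4 (.node 2 (.node 1 (.leaf 481) (.leaf 956)) (.node 1 (.leaf 1039) (.leaf 482))) (.node 2 (.node 1 (.leaf 484) (.leaf 487)) (.node 1 (.leaf 882) (.leaf 901))))) (.node 8 (.node 4 (.node 2 (.node 1 (.leaf 592) (.leaf 885)) (.node 1 (.leaf 763) (.leaf 514))) (.node 2 (.node 1 (.leaf 494) (.leaf 544)) (.node 1 (.leaf 534) (.leaf 1025)))) (.node 4 (.node 2 (.node 1 (.leaf 839) (.leaf 891)) (.node 1 (.leaf 634) (.leaf 498))) (.node 2 (.node 1 (.leaf 666) (.leaf 986)) (.node 1 (.leaf 599) (.leaf 504))))))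
def pre2_27 : T := (.node 16 (.node 8 (.node 4 (.node 2 (.node 1 (.leaf 940) (.leaf 709)) (.node 1 (.leaf 501) (.leaf 983))) (.node 2 (.node 1 (.leaf 642) (.leaf 881)) (.node 1 (.leaf 503) (.leaf 589)))) (.node 4 (.node 2 (.node 1 (.leaf 898) (.leaf 509)) (.node 1 (.leaf 507) (.leaf 510))) (.node 2 (.node 1 (.leaf 598) (.leaf 779)) (.node 1 (.leaf 515) (.leaf 566))))) (.node 8 (.node 4 (.node 2 (.node 1 (.leaf 1030) (.leaf 869)) (.node 1 (.leaf 846) (.leaf 803))) (.node 2 (.node 1 (.leaf 924) (.leaf 849)) (.node 1 (.leaf 605) (.leaf 917)))) (.node 4 (.node 2 (.node 1 (.leaf 730) (.leaf 525)) (.node 1 (.leaf 650) (.leaf 857))) (.node 2 (.node 1 (.leaf 531) (.leaf 564)) (.node 1 (.leaf 537) (.leaf 828))))))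
def pre2_28 : T := (.node 16 (.node 8 (.node 4 (.node 2 (.node 1 (.leaf 946) (.leaf 543)) (.node 1 (.leaf 872) (.leaf 820))) (.node 2 (.node 1 (.leaf 547) (.leaf 847)) (.node 1 (.leaf 810) (.leaf 549)))) (.node 4 (.node 2 (.node 1 (.leaf 919) (.leaf 992)) (.node 1 (.leaf 909) (.leaf 552))) (.node 2 (.node 1 (.leaf 926) (.leaf 906)) (.node 1 (.leaf 970) (.leaf 808))))) (.node 8 (.node 4 (.node 2 (.node 1 (.leaf 693) (.leaf 558)) (.node 1 (.leaf 1029) (.leaf 561))) (.node 2 (.node 1 (.leaf 562) (.leaf 887)) (.node 1 (.leaf 680) (.leaf 904)))) (.node 4 (.node 2 (.node 1 (.leaf 830) (.leaf 611)) (.node 1 (.leaf 993) (.leaf 728))) (.node 2 (.node 1 (.leaf 884) (.leaf 606)) (.node 1 (.leaf 908) (.leaf 715))))))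
def pre2_29 : T := (.node 16 (.node 8 (.node 4 (.node 2 (.node 1 (.leaf 995) (.leaf 934)) (.node 1 (.leaf 1000) (.leaf 580))) (.node 2 (.node 1 (.leaf 667) (.leaf 1042)) (.node 1 (.leaf 929) (.leaf 759)))) (.node 4 (.node 2 (.node 1 (.leaf 586) (.leaf 588)) (.node 1 (.leaf 816) (.leaf 997))) (.node 2 (.node 1 (.leaf 864) (.leaf 1012)) (.node 1 (.leaf 1019) (.leaf 675))))) (.node 8 (.node 4 (.node 2 (.node 1 (.leaf 823) (.leaf 1011)) (.node 1 (.leaf 896) (.leaf 689))) (.node 2 (.node 1 (.leaf 773) (.leaf 979)) (.node 1 (.leaf 1043) (.leaf 695)))) (.node 4 (.node 2 (.node 1 (.leaf 708) (.leaf 620)) (.node 1 (.leaf 700) (.leaf 625))) (.node 2 (.node 1 (.leaf 841) (.leaf 627)) (.node 1 (.leaf 628) (.leaf 984))))))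
def pre2_30 : T := (.node 16 (.node 8 (.node 4 (.node 2 (.node 1 (.leaf 1040) (.leaf 742)) (.node 1 (.leaf 701) (.leaf 1006))) (.node 2 (.node 1 (.leaf 1038) (.leaf 635)) (.node 1 (.leaf 725) (.leaf 760)))) (.node 4 (.node 2 (.node 1 (.leaf 1020) (.leaf 639)) (.node 1 (.leaf 910) (.leaf 640))) (.node 2 (.node 1 (.leaf 1041) (.leaf 998)) (.node 1 (.leaf 770) (.leaf 1005))))) (.node 8 (.node 4 (.node 2 (.node 1 (.leaf 647) (.leaf 1014)) (.node 1 (.leaf 653) (.leaf 949))) (.node 2 (.node 1 (.leaf 654) (.leaf 673)) (.node 1 (.leaf 655) (.leaf 867)))) (.node 4 (.node 2 (.node 1 (.leaf 959) (.leaf 746)) (.node 1 (.leaf 861) (.leaf 721))) (.node 2 (.node 1 (.leaf 729) (.leaf 1044)) (.node 1 (.leaf 1023) (.leaf 726))))))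
def pre2_31 : T := (.node 16 (.node 8 (.node 4 (.node 2 (.node 1 (.leaf 905) (.leaf 922)) (.node 1 (.leaf 1035) (.leaf 928))) (.node 2 (.node 1 (.leaf 679) (.leaf 939)) (.node 1 (.leaf 973) (.leaf 789)))) (.node 4 (.node 2 (.node 1 (.leaf 930) (.leaf 1027)) (.node 1 (.leaf 805) (.leaf 706))) (.node 2 (.node 1 (.leaf 716) (.leaf 975)) (.node 1 (.leaf 963) (.leaf 714))))) (.node 8 (.node 4 (.node 2 (.node 1 (.leaf 765) (.leaf 827)) (.node 1 (.leaf 731) (.leaf 945))) (.node 2 (.node 1 (.leaf 941) (.leaf 743)) (.node 1 (.leaf 977) (.leaf 748)))) (.node 4 (.node 2 (.node 1 (.leaf 831) (.leaf 814)) (.node 1 (.leaf 755) (.leaf 942))) (.node 2 (.node 1 (.leaf 968) (.leaf 1034)) (.node 1 (.leaf 768) (.leaf 990))))))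
def pre2_32 : T := (.node 10 (.node 5 (.node 2 (.node 1 (.leaf 1031) (.leaf 855)) (.node 1 (.leaf 821) (.node 1 (.leaf 1001) (.leaf 776)))) (.node 2 (.node 1 (.leaf 914) (.leaf 880)) (.node 1 (.leaf 1024) (.node 1 (.leaf 778) (.leaf 798))))) (.node 5 (.node 2 (.node 1 (.leaf 1021) (.leaf 994)) (.node 1 (.leaf 822) (.node 1 (.leaf 826) (.leaf 964)))) (.node 3 (.node 1 (.leaf 842) (.node 1 (.leaf 960) (.leaf 972))) (.node 1 (.leaf 933) (.node 1 (.leaf 950) (.leaf 989))))))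
/-- Packed data. -/
def pre2 : T := (.node 512 (.node 256 (.node 128 (.node 64 (.node 32 pre2_0 pre2_1) (.node 32 pre2_2 pre2_3)) (.node 64 (.node 32 pre2_4 pre2_5) (.node 32 pre2_6 pre2_7))) (.node 128 (.node 64 (.node 32 pre2_8 pre2_9) (.node 32 pre2_10 pre2_11)) (.node 64 (.node 32 pre2_12 pre2_13) (.node 32 pre2_14 pre2_15)))) (.node 256 (.node 128 (.node 64 (.node 32 pre2_16 pre2_17) (.node 32 pre2_18 pre2_19)) (.node 64 (.node 32 pre2_20 pre2_21) (.node 32 pre2_22 pre2_23))) (.node 128 (.node 64 (.node 32 pre2_24 pre2_25) (.node 32 pre2_26 pre2_27)) (.node 64 (.node 32 pre2_28 pre2_29) (.node 32 pre2_30 (.node 32 pre2_31 pre2_32))))))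
def ref2_0 : T := (.node 16 (.node 8 (.node 4 (.node 2 (.node 1 (.leaf 10) (.leaf 8)) (.node 1 (.leaf 30) (.leaf 60))) (.node 2 (.node 1 (.leaf 78) (.leaf 28)) (.node 1 (.leaf 122) (.leaf 50)))) (.node 4 (.node 2 (.node 1 (.leaf 158) (.leaf 58)) (.node 1 (.leaf 210) (.leaf 194))) (.node 2 (.node 1 (.leaf 205) (.leaf 76)) (.node 1 (.leaf 251) (.leaf 240))))) (.node 8 (.node 4 (.node 2 (.node 1 (.leaf 261) (.leaf 290)) (.node 1 (.leaf 312) (.leaf 120))) (.node 2 (.node 1 (.leaf 374) (.leaf 365)) (.node 1 (.leaf 346) (.leaf 156)))) (.node 4 (.node 2 (.node 1 (.leaf 397) (.leaf 386)) (.node 1 (.leaf 402) (.leaf 412))) (.node 2 (.node 1 (.leaf 430) (.leaf 196)) (.node 1 (.leaf 201) (.leaf 466))))))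
def ref2_1 : T := (.node 16 (.node 8 (.node 4 (.node 2 (.node 1 (.leaf 208) (.leaf 509)) (.node 1 (.leaf 494) (.leaf 514))) (.node 2 (.node 1 (.leaf 546) (.leaf 242)) (.node 1 (.leaf 247) (.leaf 604)))) (.node 4 (.node 2 (.node 1 (.leaf 259) (.leaf 601)) (.node 1 (.leaf 579) (.leaf 288))) (.node 2 (.node 1 (.leaf 657) (.leaf 310)) (.node 1 (.leaf 685) (.leaf 694))))) (.node 8 (.node 4 (.node 2 (.node 1 (.leaf 734) (.leaf 352)) (.node 1 (.leaf 357) (.leaf 786))) (.node 2 (.node 1 (.leaf 372) (.leaf 526)) (.node 1 (.leaf 836) (.leaf 388)))) (.node 4 (.node 2 (.node 1 (.leaf 393) (.leaf 872)) (.node 1 (.leaf 400) (.leaf 410))) (.node 2 (.node 1 (.leaf 926) (.leaf 643)) (.node 1 (.leaf 916) (.leaf 1002))))))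
def ref2_2 : T := (.node 16 (.node 8 (.node 4 (.node 2 (.node 1 (.leaf 428) (.leaf 1054)) (.node 1 (.leaf 3131) (.leaf 1049))) (.node 2 (.node 1 (.leaf 1038) (.leaf 1128)) (.node 1 (.leaf 3134) (.leaf 1534)))) (.node 4 (.node 2 (.node 1 (.leaf 1184) (.leaf 1206)) (.node 1 (.leaf 1218) (.leaf 464))) (.node 2 (.node 1 (.leaf 2438) (.leaf 1238)) (.node 1 (.leaf 1538) (.leaf 2454))))) (.node 8 (.node 4 (.node 2 (.node 1 (.leaf 710) (.leaf 1348)) (.node 1 (.leaf 500) (.leaf 505))) (.node 2 (.node 1 (.leaf 1398) (.leaf 512)) (.node 1 (.leaf 1612) (.leaf 528)))) (.node 4 (.node 2 (.node 1 (.leaf 831) (.leaf 1642)) (.node 1 (.leaf 1609) (.leaf 544))) (.node 2 (.node 1 (.leaf 1694) (.leaf 1718)) (.node 1 (.leaf 1689) (.leaf 1678))))))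
def ref2_3 : T := (.node 16 (.node 8 (.node 4 (.node 2 (.node 1 (.leaf 2302) (.leaf 3128)) (.node 1 (.leaf 577) (.leaf 1804))) (.node 2 (.node 1 (.leaf 599) (.leaf 602)) (.node 1 (.leaf 1858) (.leaf 1840)))) (.node 4 (.node 2 (.node 1 (.leaf 3137) (.leaf 1855)) (.node 1 (.leaf 1916) (.leaf 637))) (.node 2 (.node 1 (.leaf 1970) (.leaf 649)) (.node 1 (.leaf 2006) (.leaf 1582))))) (.node 8 (.node 4 (.node 2 (.node 1 (.leaf 2056) (.leaf 677)) (.node 1 (.leaf 2092) (.leaf 692))) (.node 2 (.node 1 (.leaf 2144) (.leaf 716)) (.node 1 (.leaf 1343) (.leaf 2212)))) (.node 4 (.node 2 (.node 1 (.leaf 732) (.leaf 2236)) (.node 1 (.leaf 983) (.leaf 2242))) (.node 2 (.node 1 (.leaf 2516) (.leaf 784)) (.node 1 (.leaf 2531) (.leaf 2541))))))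
def ref2_4 : T := (.node 16 (.node 8 (.node 4 (.node 2 (.node 1 (.leaf 2350) (.leaf 2602)) (.node 1 (.leaf 2616) (.leaf 2441))) (.node 2 (.node 1 (.leaf 827) (.leaf 2648)) (.node 1 (.leaf 834) (.leaf 2684)))) (.node 4 (.node 2 (.node 1 (.leaf 2708) (.leaf 2457)) (.node 1 (.leaf 2392) (.leaf 1593))) (.node 2 (.node 1 (.leaf 2778) (.leaf 2782)) (.node 1 (.leaf 2796) (.leaf 2281))))) (.node 8 (.node 4 (.node 2 (.node 1 (.leaf 2808) (.leaf 870)) (.node 1 (.leaf 2841) (.leaf 2830))) (.node 2 (.node 1 (.leaf 2872) (.leaf 2851)) (.node 1 (.leaf 2209) (.leaf 2922)))) (.node 4 (.node 2 (.node 1 (.leaf 2932) (.leaf 2175)) (.node 1 (.leaf 2968) (.leaf 920))) (.node 2 (.node 1 (.leaf 2994) (.leaf 924)) (.node 1 (.leaf 3066) (.leaf 3074))))))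
def ref2_5 : T := (.node 16 (.node 8 (.node 4 (.node 2 (.node 1 (.leaf 3055) (.leaf 3036)) (.node 1 (.leaf 2129) (.leaf 3090))) (.node 2 (.node 1 (.leaf 2047) (.leaf 985)) (.node 1 (.leaf 3166) (.leaf 3186)))) (.node 4 (.node 2 (.node 1 (.leaf 1000) (.leaf 3211)) (.node 1 (.leaf 3200) (.leaf 1585))) (.node 2 (.node 1 (.leaf 3221) (.leaf 3238)) (.node 1 (.leaf 3256) (.leaf 1040))))) (.node 8 (.node 4 (.node 2 (.node 1 (.leaf 1045) (.leaf 3292)) (.node 1 (.leaf 1052) (.leaf 3121))) (.node 2 (.node 1 (.leaf 3335) (.leaf 3320)) (.node 1 (.leaf 1324) (.leaf 3384)))) (.node 4 (.node 2 (.node 1 (.leaf 3398) (.leaf 3118)) (.node 1 (.leaf 3416) (.leaf 3444))) (.node 2 (.node 1 (.leaf 3464) (.leaf 1537)) (.node 1 (.leaf 1126) (.leaf 3114))))))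
def ref2_6 : T := (.node 16 (.node 8 (.node 4 (.node 2 (.node 1 (.leaf 1595) (.leaf 3520)) (.node 1 (.leaf 3540) (.leaf 3487))) (.node 2 (.node 1 (.leaf 1182) (.leaf 3594)) (.node 1 (.leaf 1389) (.leaf 3602)))) (.node 4 (.node 2 (.node 1 (.leaf 1204) (.leaf 3619)) (.node 1 (.leaf 1216) (.leaf 3637))) (.node 2 (.node 1 (.leaf 3642) (.leaf 3648)) (.node 1 (.leaf 1240) (.leaf 3662))))) (.node 8 (.node 4 (.node 2 (.node 1 (.leaf 2420) (.leaf 1586)) (.node 1 (.leaf 1318) (.leaf 3668))) (.node 2 (.node 1 (.leaf 1335) (.leaf 3712)) (.node 1 (.leaf 1346) (.leaf 3754)))) (.node 4 (.node 2 (.node 1 (.leaf 3760) (.leaf 3749)) (.node 1 (.leaf 3738) (.leaf 2564))) (.node 2 (.node 1 (.leaf 3790) (.leaf 5934)) (.node 1 (.leaf 1385) (.leaf 3822))))))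
def ref2_7 : T := (.node 16 (.node 8 (.node 4 (.node 2 (.node 1 (.leaf 2305) (.leaf 1396)) (.node 1 (.leaf 3845) (.leaf 3834))) (.node 2 (.node 1 (.leaf 5929) (.leaf 3855)) (.node 1 (.leaf 1422) (.leaf 3938)))) (.node 4 (.node 2 (.node 1 (.leaf 1607) (.leaf 1610)) (.node 1 (.leaf 3971) (.leaf 3952))) (.node 2 (.node 1 (.leaf 3996) (.leaf 11061)) (.node 1 (.leaf 1640) (.leaf 4024))))) (.node 8 (.node 4 (.node 2 (.node 1 (.leaf 4034) (.leaf 4042)) (.node 1 (.leaf 4072) (.leaf 4088))) (.node 2 (.node 1 (.leaf 1680) (.leaf 1685)) (.node 1 (.leaf 4122) (.leaf 1692)))) (.node 4 (.node 2 (.node 1 (.leaf 4144) (.leaf 2705)) (.node 1 (.leaf 1716) (.leaf 4164))) (.node 2 (.node 1 (.leaf 4184) (.leaf 3138)) (.node 1 (.leaf 4192) (.leaf 2892))))))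
def ref2_8 : T := (.node 16 (.node 8 (.node 4 (.node 2 (.node 1 (.leaf 4198) (.leaf 3111)) (.node 1 (.leaf 4206) (.leaf 1802))) (.node 2 (.node 1 (.leaf 11069) (.leaf 4245)) (.node 1 (.leaf 4258) (.leaf 4284)))) (.node 4 (.node 2 (.node 1 (.leaf 1844) (.leaf 4312)) (.node 1 (.leaf 1853) (.leaf 1856))) (.node 2 (.node 1 (.leaf 4348) (.leaf 4362)) (.node 1 (.leaf 3140) (.leaf 2889))))) (.node 8 (.node 4 (.node 2 (.node 1 (.leaf 1914) (.leaf 4416)) (.node 1 (.leaf 4422) (.leaf 4411))) (.node 2 (.node 1 (.leaf 4432) (.leaf 4456)) (.node 1 (.leaf 1968) (.leaf 4476)))) (.node 4 (.node 2 (.node 1 (.leaf 4466) (.leaf 2004)) (.node 1 (.leaf 4518) (.leaf 5926))) (.node 2 (.node 1 (.leaf 4533) (.leaf 4554)) (.node 1 (.leaf 2039) (.leaf 4574))))))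
def ref2_9 : T := (.node 16 (.node 8 (.node 4 (.node 2 (.node 1 (.leaf 2054) (.leaf 4612)) (.node 1 (.leaf 4624) (.leaf 4598))) (.node 2 (.node 1 (.leaf 4634) (.leaf 2306)) (.node 1 (.leaf 4650) (.leaf 2090)))) (.node 4 (.node 2 (.node 1 (.leaf 4681) (.leaf 4666)) (.node 1 (.leaf 2121) (.leaf 4688))) (.node 2 (.node 1 (.leaf 4692) (.leaf 2140)) (.node 1 (.leaf 4722) (.leaf 2165))))) (.node 8 (.node 4 (.node 2 (.node 1 (.leaf 4732) (.leaf 2206)) (.node 1 (.leaf 2210) (.leaf 4749))) (.node 2 (.node 1 (.leaf 4754) (.leaf 8770)) (.node 1 (.leaf 4796) (.leaf 2232)))) (.node 4 (.node 2 (.node 1 (.leaf 2238) (.leaf 2278)) (.node 1 (.leaf 11085) (.leaf 2512))) (.node 2 (.node 1 (.leaf 4838) (.leaf 4870)) (.node 1 (.leaf 2527) (.leaf 4910))))))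
def ref2_10 : T := (.node 16 (.node 8 (.node 4 (.node 2 (.node 1 (.leaf 2539) (.leaf 4907)) (.node 1 (.leaf 4940) (.leaf 2574))) (.node 2 (.node 1 (.leaf 3567) (.leaf 4978)) (.node 1 (.leaf 2600) (.leaf 5013)))) (.node 4 (.node 2 (.node 1 (.leaf 2614) (.leaf 5937)) (.node 1 (.leaf 5901) (.leaf 5048))) (.node 2 (.node 1 (.leaf 2646) (.leaf 5091)) (.node 1 (.leaf 5096) (.leaf 5106))))) (.node 8 (.node 4 (.node 2 (.node 1 (.leaf 2682) (.leaf 5129)) (.node 1 (.leaf 2702) (.leaf 2706))) (.node 2 (.node 1 (.leaf 5150) (.leaf 11353)) (.node 1 (.leaf 5898) (.leaf 9614)))) (.node 4 (.node 2 (.node 1 (.leaf 5178) (.leaf 5184)) (.node 1 (.leaf 5190) (.leaf 2774))) (.node 2 (.node 1 (.leaf 2780) (.leaf 5219)) (.node 1 (.leaf 2790) (.leaf 5222))))))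
def ref2_11 : T := (.node 16 (.node 8 (.node 4 (.node 2 (.node 1 (.leaf 2806) (.leaf 5273)) (.node 1 (.leaf 5276) (.leaf 10564))) (.node 2 (.node 1 (.leaf 2832) (.leaf 2837)) (.node 1 (.leaf 5350) (.leaf 2849)))) (.node 4 (.node 2 (.node 1 (.leaf 5382) (.leaf 5337)) (.node 1 (.leaf 2870) (.leaf 2884))) (.node 2 (.node 1 (.leaf 2906) (.leaf 8796)) (.node 1 (.leaf 2920) (.leaf 5417))))) (.node 8 (.node 4 (.node 2 (.node 1 (.leaf 2930) (.leaf 5433)) (.node 1 (.leaf 5448) (.leaf 5443))) (.node 2 (.node 1 (.leaf 2964) (.leaf 5474)) (.node 1 (.leaf 5480) (.leaf 2992)))) (.node 4 (.node 2 (.node 1 (.leaf 5519) (.leaf 5988)) (.node 1 (.leaf 5528) (.leaf 5568))) (.node 2 (.node 1 (.leaf 3042) (.leaf 3047)) (.node 1 (.leaf 11814) (.leaf 3062))))))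
def ref2_12 : T := (.node 16 (.node 8 (.node 4 (.node 2 (.node 1 (.leaf 3072) (.leaf 5708)) (.node 1 (.leaf 3086) (.leaf 5726))) (.node 2 (.node 1 (.leaf 4395) (.leaf 11077)) (.node 1 (.leaf 3164) (.leaf 5747)))) (.node 4 (.node 2 (.node 1 (.leaf 3184) (.leaf 4850)) (.node 1 (.leaf 5796) (.leaf 3202))) (.node 2 (.node 1 (.leaf 3207) (.leaf 5848)) (.node 1 (.leaf 3219) (.leaf 5829))))) (.node 8 (.node 4 (.node 2 (.node 1 (.leaf 3236) (.leaf 6080)) (.node 1 (.leaf 12262) (.leaf 11192))) (.node 2 (.node 1 (.leaf 12026) (.leaf 3254)) (.node 1 (.leaf 6198) (.leaf 11173)))) (.node 4 (.node 2 (.node 1 (.leaf 12240) (.leaf 10313)) (.node 1 (.leaf 11176) (.leaf 5619))) (.node 2 (.node 1 (.leaf 10035) (.leaf 6324)) (.node 1 (.leaf 10310) (.leaf 3290))))))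
def ref2_13 : T := (.node 16 (.node 8 (.node 4 (.node 2 (.node 1 (.leaf 6363) (.leaf 6352)) (.node 1 (.leaf 5629) (.leaf 6373))) (.node 2 (.node 1 (.leaf 9902) (.leaf 10350)) (.node 1 (.leaf 3326) (.leaf 3331)))) (.node 4 (.node 2 (.node 1 (.leaf 10280) (.leaf 6594)) (.node 1 (.leaf 11108) (.leaf 6614))) (.node 2 (.node 1 (.leaf 11058) (.leaf 3382)) (.node 1 (.leaf 6638) (.leaf 3394))))) (.node 8 (.node 4 (.node 2 (.node 1 (.leaf 11082) (.leaf 3412)) (.node 1 (.leaf 6678) (.leaf 3440))) (.node 2 (.node 1 (.leaf 11066) (.leaf 3462)) (.node 1 (.leaf 3484) (.leaf 11111)))) (.node 4 (.node 2 (.node 1 (.leaf 6736) (.leaf 3518)) (.node 1 (.leaf 6764) (.leaf 3538))) (.node 2 (.node 1 (.leaf 3553) (.leaf 6784)) (.node 1 (.leaf 6796) (.leaf 3592))))))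
def ref2_14 : T := (.node 16 (.node 8 (.node 4 (.node 2 (.node 1 (.leaf 3600) (.leaf 6832)) (.node 1 (.leaf 6844) (.leaf 3615))) (.node 2 (.node 1 (.leaf 6924) (.leaf 3635)) (.node 1 (.leaf 3638) (.leaf 3644)))) (.node 4 (.node 2 (.node 1 (.leaf 6974) (.leaf 3660)) (.node 1 (.leaf 3666) (.leaf 7017))) (.node 2 (.node 1 (.leaf 6998) (.leaf 7028)) (.node 1 (.leaf 3710) (.leaf 7057))))) (.node 8 (.node 4 (.node 2 (.node 1 (.leaf 7062) (.leaf 7086)) (.node 1 (.leaf 3740) (.leaf 3745))) (.node 2 (.node 1 (.leaf 11334) (.leaf 3752)) (.node 1 (.leaf 3758) (.leaf 11202)))) (.node 4 (.node 2 (.node 1 (.leaf 3786) (.leaf 7188)) (.node 1 (.leaf 9454) (.leaf 3820))) (.node 2 (.node 1 (.leaf 7246) (.leaf 3836)) (.node 1 (.leaf 3841) (.leaf 9402))))))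
def ref2_15 : T := (.node 16 (.node 8 (.node 4 (.node 2 (.node 1 (.leaf 3853) (.leaf 7321)) (.node 1 (.leaf 7356) (.leaf 7299))) (.node 2 (.node 1 (.leaf 7368) (.leaf 3929)) (.node 1 (.leaf 3934) (.leaf 7388)))) (.node 4 (.node 2 (.node 1 (.leaf 12131) (.leaf 3958)) (.node 1 (.leaf 3963) (.leaf 12078))) (.node 2 (.node 1 (.leaf 11074) (.leaf 3994)) (.node 1 (.leaf 7511) (.leaf 6407))))) (.node 8 (.node 4 (.node 2 (.node 1 (.leaf 11704) (.leaf 4028)) (.node 1 (.leaf 7566) (.leaf 4032))) (.node 2 (.node 1 (.leaf 4038) (.leaf 7624)) (.node 1 (.leaf 4070) (.leaf 7658)))) (.node 4 (.node 2 (.node 1 (.leaf 7595) (.leaf 12120)) (.node 1 (.leaf 4086) (.leaf 7754))) (.node 2 (.node 1 (.leaf 12132) (.leaf 7749)) (.node 1 (.leaf 7812) (.leaf 12114))))))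
def ref2_16 : T := (.node 16 (.node 8 (.node 4 (.node 2 (.node 1 (.leaf 4120) (.leaf 12384)) (.node 1 (.leaf 11790) (.leaf 7881))) (.node 2 (.node 1 (.leaf 4142) (.leaf 4621)) (.node 1 (.leaf 12128) (.leaf 9444)))) (.node 4 (.node 2 (.node 1 (.leaf 4160) (.leaf 4182)) (.node 1 (.leaf 4190) (.leaf 4194))) (.node 2 (.node 1 (.leaf 4204) (.leaf 8077)) (.node 1 (.leaf 4243) (.leaf 4256))))) (.node 8 (.node 4 (.node 2 (.node 1 (.leaf 10032) (.leaf 5597)) (.node 1 (.leaf 6438) (.leaf 8202))) (.node 2 (.node 1 (.leaf 9831) (.leaf 4282)) (.node 1 (.leaf 10216) (.leaf 10053)))) (.node 4 (.node 2 (.node 1 (.leaf 10398) (.leaf 8312)) (.node 1 (.leaf 9828) (.leaf 11170))) (.node 2 (.node 1 (.leaf 4310) (.leaf 10696)) (.node 1 (.leaf 11179) (.leaf 8373))))))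
def ref2_17 : T := (.node 16 (.node 8 (.node 4 (.node 2 (.node 1 (.leaf 7526) (.leaf 10822)) (.node 1 (.leaf 4356) (.leaf 8546))) (.node 2 (.node 1 (.leaf 4360) (.leaf 8576)) (.node 1 (.leaf 4391) (.leaf 4403)))) (.node 4 (.node 2 (.node 1 (.leaf 8640) (.leaf 4414)) (.node 1 (.leaf 4420) (.leaf 4430))) (.node 2 (.node 1 (.leaf 8773) (.leaf 4454)) (.node 1 (.leaf 8834) (.leaf 4470))))) (.node 8 (.node 4 (.node 2 (.node 1 (.leaf 4474) (.leaf 8904)) (.node 1 (.leaf 8922) (.leaf 11860))) (.node 2 (.node 1 (.leaf 10338) (.leaf 4522)) (.node 1 (.leaf 11950) (.leaf 4531)))) (.node 4 (.node 2 (.node 1 (.leaf 4552) (.leaf 9370)) (.node 1 (.leaf 4572) (.leaf 11986))) (.node 2 (.node 1 (.leaf 4617) (.leaf 4602)) (.node 1 (.leaf 12336) (.leaf 4610))))))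
def ref2_18 : T := (.node 16 (.node 8 (.node 4 (.node 2 (.node 1 (.leaf 4622) (.leaf 4628)) (.node 1 (.leaf 4648) (.leaf 12572))) (.node 2 (.node 1 (.leaf 9184) (.leaf 4668)) (.node 1 (.leaf 4673) (.leaf 11350)))) (.node 4 (.node 2 (.node 1 (.leaf 4684) (.leaf 4690)) (.node 1 (.leaf 9263) (.leaf 10567))) (.node 2 (.node 1 (.leaf 9662) (.leaf 12060)) (.node 1 (.leaf 4718) (.leaf 4728))))) (.node 8 (.node 4 (.node 2 (.node 1 (.leaf 11946) (.leaf 4745)) (.node 1 (.leaf 12460) (.leaf 4752))) (.node 2 (.node 1 (.leaf 5625) (.leaf 5626)) (.node 1 (.leaf 12148) (.leaf 11137)))) (.node 4 (.node 2 (.node 1 (.leaf 8799) (.leaf 4794)) (.node 1 (.leaf 11827) (.leaf 11817))) (.node 2 (.node 1 (.leaf 5544) (.leaf 10785)) (.node 1 (.leaf 12521) (.leaf 4836))))))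
def ref2_19 : T := (.node 16 (.node 8 (.node 4 (.node 2 (.node 1 (.leaf 12146) (.leaf 4852)) (.node 1 (.leaf 5781) (.leaf 9739))) (.node 2 (.node 1 (.leaf 9405) (.leaf 4868)) (.node 1 (.leaf 12123) (.leaf 12135)))) (.node 4 (.node 2 (.node 1 (.leaf 12029) (.leaf 12358)) (.node 1 (.leaf 4905) (.leaf 4908))) (.node 2 (.node 1 (.leaf 12787) (.leaf 9457)) (.node 1 (.leaf 10825) (.leaf 4938))))) (.node 8 (.node 4 (.node 2 (.node 1 (.leaf 9278) (.leaf 12817)) (.node 1 (.leaf 4976) (.leaf 12849))) (.node 2 (.node 1 (.leaf 12854) (.leaf 9591)) (.node 1 (.leaf 5009) (.leaf 9617)))) (.node 4 (.node 2 (.node 1 (.leaf 5046) (.leaf 9447)) (.node 1 (.leaf 10904) (.leaf 12936))) (.node 2 (.node 1 (.leaf 5089) (.leaf 5092)) (.node 1 (.leaf 5102) (.leaf 13004))))))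
def ref2_20 : T := (.node 16 (.node 8 (.node 4 (.node 2 (.node 1 (.leaf 13042) (.leaf 5119)) (.node 1 (.leaf 9759) (.leaf 5148))) (.node 2 (.node 1 (.leaf 5174) (.leaf 5182)) (.node 1 (.leaf 5186) (.leaf 13106)))) (.node 4 (.node 2 (.node 1 (.leaf 10853) (.leaf 12265)) (.node 1 (.leaf 12538) (.leaf 5217))) (.node 2 (.node 1 (.leaf 5220) (.leaf 13136)) (.node 1 (.leaf 13166) (.leaf 13200))))) (.node 8 (.node 4 (.node 2 (.node 1 (.leaf 5271) (.leaf 5274)) (.node 1 (.leaf 10353) (.leaf 11939))) (.node 2 (.node 1 (.leaf 10439) (.leaf 9575)) (.node 1 (.leaf 10401) (.leaf 5335)))) (.node 4 (.node 2 (.node 1 (.leaf 12410) (.leaf 5348)) (.node 1 (.leaf 11133) (.leaf 12535))) (.node 2 (.node 1 (.leaf 11131) (.leaf 5378)) (.node 1 (.leaf 7074) (.leaf 12243))))))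
def ref2_21 : T := (.node 16 (.node 8 (.node 4 (.node 2 (.node 1 (.leaf 5413) (.leaf 13193)) (.node 1 (.leaf 11855) (.leaf 12629))) (.node 2 (.node 1 (.leaf 5429) (.leaf 5441)) (.node 1 (.leaf 5444) (.leaf 13426)))) (.node 4 (.node 2 (.node 1 (.leaf 12452) (.leaf 5470)) (.node 1 (.leaf 5476) (.leaf 5991))) (.node 2 (.node 1 (.leaf 12051) (.leaf 5511)) (.node 1 (.leaf 12339) (.leaf 5526))))) (.node 8 (.node 4 (.node 2 (.node 1 (.leaf 5550) (.leaf 12695)) (.node 1 (.leaf 12081) (.leaf 5566))) (.node 2 (.node 1 (.leaf 12409) (.leaf 12587)) (.node 1 (.leaf 5589) (.leaf 12757)))) (.node 4 (.node 2 (.node 1 (.leaf 10436) (.leaf 11819)) (.node 1 (.leaf 11824) (.leaf 9905))) (.node 2 (.node 1 (.leaf 12801) (.leaf 12909)) (.node 1 (.leaf 5704) (.leaf 11682))))))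
def ref2_22 : T := (.node 16 (.node 8 (.node 4 (.node 2 (.node 1 (.leaf 11195) (.leaf 5724)) (.node 1 (.leaf 13546) (.leaf 5739))) (.node 2 (.node 1 (.leaf 12773) (.leaf 12318)) (.node 1 (.leaf 5775) (.leaf 7237)))) (.node 4 (.node 2 (.node 1 (.leaf 5794) (.leaf 12912)) (.node 1 (.leaf 13612) (.leaf 12496))) (.node 2 (.node 1 (.leaf 13562) (.leaf 9423)) (.node 1 (.leaf 12544) (.leaf 5827))))) (.node 8 (.node 4 (.node 2 (.node 1 (.leaf 5846) (.leaf 13297)) (.node 1 (.leaf 6957) (.leaf 11707))) (.node 2 (.node 1 (.leaf 10283) (.leaf 12954)) (.node 1 (.leaf 13342) (.leaf 6078)))) (.node 4 (.node 2 (.node 1 (.leaf 11237) (.leaf 13315)) (.node 1 (.leaf 11976) (.leaf 13664))) (.node 2 (.node 1 (.leaf 12150) (.leaf 6713)) (.node 1 (.leaf 12022) (.leaf 12041))))))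
def ref2_23 : T := (.node 16 (.node 8 (.node 4 (.node 2 (.node 1 (.leaf 11205) (.leaf 6196)) (.node 1 (.leaf 10250) (.leaf 11954))) (.node 2 (.node 1 (.leaf 10253) (.leaf 11820)) (.node 1 (.leaf 12892) (.leaf 13722)))) (.node 4 (.node 2 (.node 1 (.leaf 12463) (.leaf 6543)) (.node 1 (.leaf 13257) (.leaf 6322))) (.node 2 (.node 1 (.leaf 13771) (.leaf 12387)) (.node 1 (.leaf 12575) (.leaf 6354))))) (.node 8 (.node 4 (.node 2 (.node 1 (.leaf 6359) (.leaf 12565)) (.node 1 (.leaf 6371) (.leaf 13827))) (.node 2 (.node 1 (.leaf 6399) (.leaf 6432)) (.node 1 (.leaf 10047) (.leaf 11782)))) (.node 4 (.node 2 (.node 1 (.leaf 12987) (.leaf 10638)) (.node 1 (.leaf 6541) (.leaf 11958))) (.node 2 (.node 1 (.leaf 10757) (.leaf 13622)) (.node 1 (.leaf 6592) (.leaf 6610))))))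
def ref2_24 : T := (.node 16 (.node 8 (.node 4 (.node 2 (.node 1 (.leaf 13884) (.leaf 12910)) (.node 1 (.leaf 13089) (.leaf 6634))) (.node 2 (.node 1 (.leaf 11773) (.leaf 12713)) (.node 1 (.leaf 6674) (.leaf 6709)))) (.node 4 (.node 2 (.node 1 (.leaf 13988) (.leaf 6732)) (.node 1 (.leaf 14068) (.leaf 12414))) (.node 2 (.node 1 (.leaf 6760) (.leaf 11771)) (.node 1 (.leaf 6782) (.leaf 6792))))) (.node 8 (.node 4 (.node 2 (.node 1 (.leaf 9588) (.leaf 6828)) (.node 1 (.leaf 12065) (.leaf 11685))) (.node 2 (.node 1 (.leaf 6842) (.leaf 13495)) (.node 1 (.leaf 12068) (.leaf 10844)))) (.node 4 (.node 2 (.node 1 (.leaf 6922) (.leaf 11822)) (.node 1 (.leaf 12117) (.leaf 12145))) (.node 2 (.node 1 (.leaf 12056) (.leaf 6953)) (.node 1 (.leaf 14086) (.leaf 12589))))))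
def ref2_25 : T := (.node 16 (.node 8 (.node 4 (.node 2 (.node 1 (.leaf 9383) (.leaf 12563)) (.node 1 (.leaf 6970) (.leaf 7964))) (.node 2 (.node 1 (.leaf 9623) (.leaf 13541)) (.node 1 (.leaf 7004) (.leaf 7009)))) (.node 4 (.node 2 (.node 1 (.leaf 11864) (.leaf 7024)) (.node 1 (.leaf 9754) (.leaf 11337))) (.node 2 (.node 1 (.leaf 7049) (.leaf 7060)) (.node 1 (.leaf 13811) (.leaf 7076))))) (.node 8 (.node 4 (.node 2 (.node 1 (.leaf 12036) (.leaf 11989)) (.node 1 (.leaf 7084) (.leaf 11863))) (.node 2 (.node 1 (.leaf 12170) (.leaf 13965)) (.node 1 (.leaf 14149) (.leaf 12634)))) (.node 4 (.node 2 (.node 1 (.leaf 10699) (.leaf 11128)) (.node 1 (.leaf 14169) (.leaf 13657))) (.node 2 (.node 1 (.leaf 10979) (.leaf 10641)) (.node 1 (.leaf 12522) (.leaf 13793))))))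
def ref2_26 : T := (.node 16 (.node 8 (.node 4 (.node 2 (.node 1 (.leaf 10571) (.leaf 7186)) (.node 1 (.leaf 7229) (.leaf 7244))) (.node 2 (.node 1 (.leaf 9373) (.leaf 9274)) (.node 1 (.leaf 7297) (.leaf 11894)))) (.node 4 (.node 2 (.node 1 (.leaf 7319) (.leaf 12835)) (.node 1 (.leaf 14196) (.leaf 7352))) (.node 2 (.node 1 (.leaf 7364) (.leaf 7386)) (.node 1 (.leaf 12406) (.leaf 8569))))) (.node 8 (.node 4 (.node 2 (.node 1 (.leaf 11949) (.leaf 8049)) (.node 1 (.leaf 12072) (.leaf 11793))) (.node 2 (.node 1 (.leaf 7507) (.leaf 7528)) (.node 1 (.leaf 10219) (.leaf 13947)))) (.node 4 (.node 2 (.node 1 (.leaf 11963) (.leaf 8175)) (.node 1 (.leaf 10907) (.leaf 7564))) (.node 2 (.node 1 (.leaf 11809) (.leaf 13275)) (.node 1 (.leaf 11134) (.leaf 7591))))))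
def ref2_27 : T := (.node 16 (.node 8 (.node 4 (.node 2 (.node 1 (.leaf 12501) (.leaf 12321)) (.node 1 (.leaf 7618) (.leaf 13224))) (.node 2 (.node 1 (.leaf 9747) (.leaf 7939)) (.node 1 (.leaf 7656) (.leaf 12063)))) (.node 4 (.node 2 (.node 1 (.leaf 11961) (.leaf 7747)) (.node 1 (.leaf 7752) (.leaf 7808))) (.node 2 (.node 1 (.leaf 12394) (.leaf 12516)) (.node 1 (.leaf 7879) (.leaf 11953))))) (.node 8 (.node 4 (.node 2 (.node 1 (.leaf 14041) (.leaf 7943)) (.node 1 (.leaf 12206) (.leaf 7970))) (.node 2 (.node 1 (.leaf 9082) (.leaf 8041)) (.node 1 (.leaf 10991) (.leaf 12032)))) (.node 4 (.node 2 (.node 1 (.leaf 11778) (.leaf 8069)) (.node 1 (.leaf 12541) (.leaf 8177))) (.node 2 (.node 1 (.leaf 8200) (.leaf 10341)) (.node 1 (.leaf 8310) (.leaf 11239))))))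
def ref2_28 : T := (.node 16 (.node 8 (.node 4 (.node 2 (.node 1 (.leaf 12675) (.leaf 8371)) (.node 1 (.leaf 12109) (.leaf 12173))) (.node 2 (.node 1 (.leaf 8544) (.leaf 8571)) (.node 1 (.leaf 9757) (.leaf 8584)))) (.node 4 (.node 2 (.node 1 (.leaf 11319) (.leaf 13367)) (.node 1 (.leaf 10681) (.leaf 8638))) (.node 2 (.node 1 (.leaf 12578) (.leaf 10678)) (.node 1 (.leaf 13035) (.leaf 11278))))) (.node 8 (.node 4 (.node 2 (.node 1 (.leaf 12555) (.leaf 8832)) (.node 1 (.leaf 14021) (.leaf 8912))) (.node 2 (.node 1 (.leaf 8918) (.leaf 12045)) (.node 1 (.leaf 12413) (.leaf 11316)))) (.node 4 (.node 2 (.node 1 (.leaf 12418) (.leaf 9745)) (.node 1 (.leaf 13383) (.leaf 11845))) (.node 2 (.node 1 (.leaf 9086) (.leaf 12423)) (.node 1 (.leaf 12581) (.leaf 12499))))))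
def ref2_29 : T := (.node 16 (.node 8 (.node 4 (.node 2 (.node 1 (.leaf 13417) (.leaf 12542)) (.node 1 (.leaf 13498) (.leaf 9182))) (.node 2 (.node 1 (.leaf 12585) (.leaf 14265)) (.node 1 (.leaf 12525) (.leaf 11803)))) (.node 4 (.node 2 (.node 1 (.leaf 9259) (.leaf 9660)) (.node 1 (.leaf 12216) (.leaf 13459))) (.node 2 (.node 1 (.leaf 12485) (.leaf 13717)) (.node 1 (.leaf 13849) (.leaf 12627))))) (.node 8 (.node 4 (.node 2 (.node 1 (.leaf 12638) (.leaf 13697)) (.node 1 (.leaf 12667) (.leaf 12679))) (.node 2 (.node 1 (.leaf 12699) (.leaf 13158)) (.node 1 (.leaf 14268) (.leaf 12758)))) (.node 4 (.node 2 (.node 1 (.leaf 12770) (.leaf 12777)) (.node 1 (.leaf 12793) (.leaf 12805))) (.node 2 (.node 1 (.leaf 12825) (.leaf 12839)) (.node 1 (.leaf 12850) (.leaf 13243))))))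
def ref2_30 : T := (.node 16 (.node 8 (.node 4 (.node 2 (.node 1 (.leaf 14229) (.leaf 12886)) (.node 1 (.leaf 12906) (.leaf 13609))) (.node 2 (.node 1 (.leaf 14189) (.leaf 12932)) (.node 1 (.leaf 12968) (.leaf 12984)))) (.node 4 (.node 2 (.node 1 (.leaf 13863) (.leaf 13002)) (.node 1 (.leaf 13019) (.leaf 13036))) (.node 2 (.node 1 (.leaf 14232) (.leaf 13475)) (.node 1 (.leaf 13091) (.leaf 13588))))) (.node 8 (.node 4 (.node 2 (.node 1 (.leaf 13102) (.leaf 13753)) (.node 1 (.leaf 13144) (.leaf 13152))) (.node 2 (.node 1 (.leaf 13160) (.leaf 13191)) (.node 1 (.leaf 13196) (.leaf 13218)))) (.node 4 (.node 2 (.node 1 (.leaf 13231) (.leaf 13251)) (.node 1 (.leaf 13261) (.leaf 13289))) (.node 2 (.node 1 (.leaf 13309) (.leaf 14301)) (.node 1 (.leaf 13911) (.leaf 13350))))))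
def ref2_31 : T := (.node 16 (.node 8 (.node 4 (.node 2 (.node 1 (.leaf 13369) (.leaf 13381)) (.node 1 (.leaf 14127) (.leaf 13411))) (.node 2 (.node 1 (.leaf 13420) (.leaf 13445)) (.node 1 (.leaf 13467) (.leaf 13489)))) (.node 4 (.node 2 (.node 1 (.leaf 13510) (.leaf 13983)) (.node 1 (.leaf 13533) (.leaf 13542))) (.node 2 (.node 1 (.leaf 13570) (.leaf 13582)) (.node 1 (.leaf 13606) (.leaf 13610))))) (.node 8 (.node 4 (.node 2 (.node 1 (.leaf 13638) (.leaf 13649)) (.node 1 (.leaf 13658) (.leaf 13683))) (.node 2 (.node 1 (.leaf 13714) (.leaf 13718)) (.node 1 (.leaf 13747) (.leaf 13759)))) (.node 4 (.node 2 (.node 1 (.leaf 13787) (.leaf 13801)) (.node 1 (.leaf 13825) (.leaf 13837))) (.node 2 (.node 1 (.leaf 13861) (.leaf 14098)) (.node 1 (.leaf 13882) (.leaf 13914))))))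
def ref2_32 : T := (.node 10 (.node 5 (.node 2 (.node 1 (.leaf 14061) (.leaf 13935)) (.node 1 (.leaf 13961) (.node 1 (.leaf 13971) (.leaf 13984)))) (.node 2 (.node 1 (.leaf 14007) (.leaf 14033)) (.node 1 (.leaf 14047) (.node 1 (.leaf 14062) (.leaf 14082))))) (.node 5 (.node 2 (.node 1 (.leaf 14110) (.leaf 14125)) (.node 1 (.leaf 14135) (.node 1 (.leaf 14153) (.leaf 14181)))) (.node 3 (.node 1 (.leaf 14190) (.node 1 (.leaf 14221) (.leaf 14244))) (.node 1 (.leaf 14251) (.node 1 (.leaf 14284) (.leaf 14291))))))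
/-- Packed data. -/
def ref2 : T := (.node 512 (.node 256 (.node 128 (.node 64 (.node 32 ref2_0 ref2_1) (.node 32 ref2_2 ref2_3)) (.node 64 (.node 32 ref2_4 ref2_5) (.node 32 ref2_6 ref2_7))) (.node 128 (.node 64 (.node 32 ref2_8 ref2_9) (.node 32 ref2_10 ref2_11)) (.node 64 (.node 32 ref2_12 ref2_13) (.node 32 ref2_14 ref2_15)))) (.node 256 (.node 128 (.node 64 (.node 32 ref2_16 ref2_17) (.node 32 ref2_18 ref2_19)) (.node 64 (.node 32 ref2_20 ref2_21) (.node 32 ref2_22 ref2_23))) (.node 128 (.node 64 (.node 32 ref2_24 ref2_25) (.node 32 ref2_26 ref2_27)) (.node 64 (.node 32 ref2_28 ref2_29) (.node 32 ref2_30 (.node 32 ref2_31 ref2_32))))))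
def pre3_0 : T := (.node 16 (.node 8 (.node 4 (.node 2 (.node 1 (.leaf 0) (.leaf 1)) (.node 1 (.leaf 2) (.leaf 6))) (.node 2 (.node 1 (.leaf 16) (.leaf 5)) (.node 1 (.leaf 3) (.leaf 7)))) (.node 4 (.node 2 (.node 1 (.leaf 18) (.leaf 19)) (.node 1 (.leaf 17) (.leaf 22))) (.node 2 (.node 1 (.leaf 21) (.leaf 40)) (.node 1 (.leaf 41) (.leaf 42))))) (.node 8 (.node 4 (.node 2 (.node 1 (.leaf 4) (.leaf 10)) (.node 1 (.leaf 8) (.leaf 9))) (.node 2 (.node 1 (.leaf 34) (.leaf 12)) (.node 1 (.leaf 11) (.leaf 45)))) (.node 4 (.node 2 (.node 1 (.leaf 46) (.leaf 26)) (.node 1 (.leaf 25) (.leaf 47))) (.node 2 (.node 1 (.leaf 60) (.leaf 49)) (.node 1 (.leaf 50) (.leaf 79))))))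
def pre3_1 : T := (.node 16 (.node 8 (.node 4 (.node 2 (.node 1 (.leaf 43) (.leaf 44)) (.node 1 (.leaf 20) (.leaf 90))) (.node 2 (.node 1 (.leaf 86) (.leaf 98)) (.node 1 (.leaf 100) (.leaf 105)))) (.node 4 (.node 2 (.node 1 (.leaf 13) (.leaf 14)) (.node 1 (.leaf 15) (.leaf 32))) (.node 2 (.node 1 (.leaf 33) (.leaf 23)) (.node 1 (.leaf 24) (.leaf 27))))) (.node 8 (.node 4 (.node 2 (.node 1 (.leaf 116) (.leaf 29)) (.node 1 (.leaf 30) (.leaf 127))) (.node 2 (.node 1 (.leaf 82) (.leaf 111)) (.node 1 (.leaf 131) (.leaf 58)))) (.node 4 (.node 2 (.node 1 (.leaf 113) (.leaf 149)) (.node 1 (.leaf 55) (.leaf 115))) (.node 2 (.node 1 (.leaf 28) (.leaf 117)) (.node 1 (.leaf 118) (.leaf 172))))))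
def pre3_2 : T := (.node 16 (.node 8 (.node 4 (.node 2 (.node 1 (.leaf 157) (.leaf 158)) (.node 1 (.leaf 179) (.leaf 160))) (.node 2 (.node 1 (.leaf 161) (.leaf 122)) (.node 1 (.leaf 191) (.leaf 195)))) (.node 4 (.node 2 (.node 1 (.leaf 123) (.leaf 197)) (.node 1 (.leaf 203) (.leaf 137))) (.node 2 (.node 1 (.leaf 134) (.leaf 208)) (.node 1 (.leaf 209) (.leaf 31))))) (.node 8 (.node 4 (.node 2 (.node 1 (.leaf 107) (.leaf 211)) (.node 1 (.leaf 52) (.leaf 109))) (.node 2 (.node 1 (.leaf 229) (.leaf 232)) (.node 1 (.leaf 36) (.leaf 171)))) (.node 4 (.node 2 (.node 1 (.leaf 164) (.leaf 188)) (.node 1 (.leaf 35) (.leaf 233))) (.node 2 (.node 1 (.leaf 185) (.leaf 248)) (.node 1 (.leaf 234) (.leaf 235))))))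
def pre3_3 : T := (.node 16 (.node 8 (.node 4 (.node 2 (.node 1 (.leaf 255) (.leaf 257)) (.node 1 (.leaf 37) (.leaf 261))) (.node 2 (.node 1 (.leaf 38) (.leaf 266)) (.node 1 (.leaf 181) (.leaf 186)))) (.node 4 (.node 2 (.node 1 (.leaf 270) (.leaf 39)) (.node 1 (.leaf 241) (.leaf 80))) (.node 2 (.node 1 (.leaf 276) (.leaf 83)) (.node 1 (.leaf 284) (.leaf 53))))) (.node 8 (.node 4 (.node 2 (.node 1 (.leaf 285) (.leaf 56)) (.node 1 (.leaf 216) (.leaf 59))) (.node 2 (.node 1 (.leaf 48) (.leaf 61)) (.node 1 (.leaf 62) (.leaf 258)))) (.node 4 (.node 2 (.node 1 (.leaf 301) (.leaf 302)) (.node 1 (.leaf 69) (.leaf 72))) (.node 2 (.node 1 (.leaf 167) (.leaf 320)) (.node 1 (.leaf 321) (.leaf 51))))))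
def pre3_4 : T := (.node 16 (.node 8 (.node 4 (.node 2 (.node 1 (.leaf 219) (.leaf 322)) (.node 1 (.leaf 330) (.leaf 54))) (.node 2 (.node 1 (.leaf 286) (.leaf 333)) (.node 1 (.leaf 76) (.leaf 331)))) (.node 4 (.node 2 (.node 1 (.leaf 228) (.leaf 75)) (.node 1 (.leaf 206) (.leaf 150))) (.node 2 (.node 1 (.leaf 221) (.leaf 349)) (.node 1 (.leaf 292) (.leaf 222))))) (.node 8 (.node 4 (.node 2 (.node 1 (.leaf 353) (.leaf 359)) (.node 1 (.leaf 154) (.leaf 361))) (.node 2 (.node 1 (.leaf 279) (.leaf 57)) (.node 1 (.leaf 139) (.leaf 156)))) (.node 4 (.node 2 (.node 1 (.leaf 371) (.leaf 298)) (.node 1 (.leaf 146) (.leaf 212))) (.node 2 (.node 1 (.leaf 151) (.leaf 64)) (.node 1 (.leaf 65) (.leaf 275))))))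
def pre3_5 : T := (.node 16 (.node 8 (.node 4 (.node 2 (.node 1 (.leaf 67) (.leaf 68)) (.node 1 (.leaf 303) (.leaf 193))) (.node 2 (.node 1 (.leaf 88) (.leaf 190)) (.node 1 (.leaf 388) (.leaf 124)))) (.node 4 (.node 2 (.node 1 (.leaf 398) (.leaf 334)) (.node 1 (.leaf 399) (.leaf 87))) (.node 2 (.node 1 (.leaf 63) (.leaf 378)) (.node 1 (.leaf 401) (.leaf 380))))) (.node 8 (.node 4 (.node 2 (.node 1 (.leaf 381) (.leaf 419)) (.node 1 (.leaf 383) (.leaf 66))) (.node 2 (.node 1 (.leaf 268) (.leaf 102)) (.node 1 (.leaf 210) (.leaf 425)))) (.node 4 (.node 2 (.node 1 (.leaf 430) (.leaf 92)) (.node 1 (.leaf 103) (.leaf 434))) (.node 2 (.node 1 (.leaf 89) (.leaf 438)) (.node 1 (.leaf 165) (.leaf 70))))))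
def pre3_6 : T := (.node 16 (.node 8 (.node 4 (.node 2 (.node 1 (.leaf 305) (.leaf 163)) (.node 1 (.leaf 442) (.leaf 71))) (.node 2 (.node 1 (.leaf 312) (.leaf 73)) (.node 1 (.leaf 313) (.leaf 439)))) (.node 4 (.node 2 (.node 1 (.leaf 447) (.leaf 256)) (.node 1 (.leaf 453) (.leaf 74))) (.node 2 (.node 1 (.leaf 343) (.leaf 370)) (.node 1 (.leaf 138) (.leaf 274))))) (.node 8 (.node 4 (.node 2 (.node 1 (.leaf 77) (.leaf 78)) (.node 1 (.leaf 182) (.leaf 81))) (.node 2 (.node 1 (.leaf 155) (.leaf 341)) (.node 1 (.leaf 458) (.leaf 445)))) (.node 4 (.node 2 (.node 1 (.leaf 114) (.leaf 459)) (.node 1 (.leaf 460) (.leaf 128))) (.node 2 (.node 1 (.leaf 296) (.leaf 140)) (.node 1 (.leaf 143) (.leaf 474))))))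
def pre3_7 : T := (.node 16 (.node 8 (.node 4 (.node 2 (.node 1 (.leaf 364) (.leaf 480)) (.node 1 (.leaf 481) (.leaf 483))) (.node 2 (.node 1 (.leaf 136) (.leaf 84)) (.node 1 (.leaf 485) (.leaf 365)))) (.node 4 (.node 2 (.node 1 (.leaf 85) (.leaf 91)) (.node 1 (.leaf 94) (.leaf 95))) (.node 2 (.node 1 (.leaf 494) (.leaf 260)) (.node 1 (.leaf 437) (.leaf 427))))) (.node 8 (.node 4 (.node 2 (.node 1 (.leaf 269) (.leaf 106)) (.node 1 (.leaf 487) (.leaf 503))) (.node 2 (.node 1 (.leaf 489) (.leaf 490)) (.node 1 (.leaf 515) (.leaf 253)))) (.node 4 (.node 2 (.node 1 (.leaf 93) (.leaf 271)) (.node 1 (.leaf 516) (.leaf 385))) (.node 2 (.node 1 (.leaf 304) (.leaf 247)) (.node 1 (.leaf 391) (.leaf 96))))))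
def pre3_8 : T := (.node 16 (.node 8 (.node 4 (.node 2 (.node 1 (.leaf 201) (.leaf 97)) (.node 1 (.leaf 119) (.leaf 526))) (.node 2 (.node 1 (.leaf 237) (.leaf 99)) (.node 1 (.leaf 532) (.leaf 528)))) (.node 4 (.node 2 (.node 1 (.leaf 433) (.leaf 543)) (.node 1 (.leaf 101) (.leaf 422))) (.node 2 (.node 1 (.leaf 180) (.leaf 240)) (.node 1 (.leaf 104) (.leaf 249))))) (.node 8 (.node 4 (.node 2 (.node 1 (.leaf 500) (.leaf 501)) (.node 1 (.leaf 207) (.leaf 159))) (.node 2 (.node 1 (.leaf 108) (.leaf 446)) (.node 1 (.leaf 555) (.leaf 148)))) (.node 4 (.node 2 (.node 1 (.leaf 556) (.leaf 567)) (.node 1 (.leaf 294) (.leaf 339))) (.node 2 (.node 1 (.leaf 110) (.leaf 112)) (.node 1 (.leaf 132) (.leaf 571))))))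
def pre3_9 : T := (.node 16 (.node 8 (.node 4 (.node 2 (.node 1 (.leaf 568) (.leaf 569)) (.node 1 (.leaf 377) (.leaf 461))) (.node 2 (.node 1 (.leaf 142) (.leaf 323)) (.node 1 (.leaf 282) (.leaf 470)))) (.node 4 (.node 2 (.node 1 (.leaf 220) (.leaf 471)) (.node 1 (.leaf 153) (.leaf 473))) (.node 2 (.node 1 (.leaf 325) (.leaf 120)) (.node 1 (.leaf 121) (.leaf 162))))) (.node 8 (.node 4 (.node 2 (.node 1 (.leaf 252) (.leaf 192)) (.node 1 (.leaf 524) (.leaf 525))) (.node 2 (.node 1 (.leaf 587) (.leaf 559)) (.node 1 (.leaf 407) (.leaf 590)))) (.node 4 (.node 2 (.node 1 (.leaf 196) (.leaf 198)) (.node 1 (.leaf 389) (.leaf 392))) (.node 2 (.node 1 (.leaf 612) (.leaf 608)) (.node 1 (.leaf 618) (.leaf 622))))))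
def pre3_10 : T := (.node 16 (.node 8 (.node 4 (.node 2 (.node 1 (.leaf 125) (.leaf 126)) (.node 1 (.leaf 129) (.leaf 293))) (.node 2 (.node 1 (.leaf 444) (.leaf 300)) (.node 1 (.leaf 623) (.leaf 625)))) (.node 4 (.node 2 (.node 1 (.leaf 342) (.leaf 347)) (.node 1 (.leaf 130) (.leaf 135))) (.node 2 (.node 1 (.leaf 636) (.leaf 133)) (.node 1 (.leaf 169) (.leaf 549))))) (.node 8 (.node 4 (.node 2 (.node 1 (.leaf 632) (.leaf 633)) (.node 1 (.leaf 363) (.leaf 283))) (.node 2 (.node 1 (.leaf 484) (.leaf 213)) (.node 1 (.leaf 328) (.leaf 204)))) (.node 4 (.node 2 (.node 1 (.leaf 463) (.leaf 374)) (.node 1 (.leaf 561) (.leaf 329))) (.node 2 (.node 1 (.leaf 651) (.leaf 141)) (.node 1 (.leaf 577) (.leaf 482))))))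
def pre3_11 : T := (.node 16 (.node 8 (.node 4 (.node 2 (.node 1 (.leaf 656) (.leaf 144)) (.node 1 (.leaf 558) (.leaf 595))) (.node 2 (.node 1 (.leaf 663) (.leaf 372)) (.node 1 (.leaf 668) (.leaf 145)))) (.node 4 (.node 2 (.node 1 (.leaf 647) (.leaf 147)) (.node 1 (.leaf 560) (.leaf 338))) (.node 2 (.node 1 (.leaf 224) (.leaf 231)) (.node 1 (.leaf 375) (.leaf 376))))) (.node 8 (.node 4 (.node 2 (.node 1 (.leaf 677) (.leaf 562)) (.node 1 (.leaf 205) (.leaf 152))) (.node 2 (.node 1 (.leaf 357) (.leaf 624)) (.node 1 (.leaf 345) (.leaf 366)))) (.node 4 (.node 2 (.node 1 (.leaf 367) (.leaf 290)) (.node 1 (.leaf 173) (.leaf 661))) (.node 2 (.node 1 (.leaf 175) (.leaf 176)) (.node 1 (.leaf 698) (.leaf 178))))))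
def pre3_12 : T := (.node 16 (.node 8 (.node 4 (.node 2 (.node 1 (.leaf 551) (.leaf 251)) (.node 1 (.leaf 441) (.leaf 440))) (.node 2 (.node 1 (.leaf 166) (.leaf 314)) (.node 1 (.leaf 550) (.leaf 254)))) (.node 4 (.node 2 (.node 1 (.leaf 315) (.leaf 711)) (.node 1 (.leaf 709) (.leaf 719))) (.node 2 (.node 1 (.leaf 637) (.leaf 723)) (.node 1 (.leaf 168) (.leaf 170))))) (.node 8 (.node 4 (.node 2 (.node 1 (.leaf 687) (.leaf 174)) (.node 1 (.leaf 688) (.leaf 689))) (.node 2 (.node 1 (.leaf 734) (.leaf 727)) (.node 1 (.leaf 728) (.leaf 310)))) (.node 4 (.node 2 (.node 1 (.leaf 729) (.leaf 694)) (.node 1 (.leaf 602) (.leaf 420))) (.node 2 (.node 1 (.leaf 533) (.leaf 744)) (.node 1 (.leaf 529) (.leaf 754))))))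
def pre3_13 : T := (.node 16 (.node 8 (.node 4 (.node 2 (.node 1 (.leaf 680) (.leaf 755)) (.node 1 (.leaf 660) (.leaf 177))) (.node 2 (.node 1 (.leaf 411) (.leaf 758)) (.node 1 (.leaf 267) (.leaf 546)))) (.node 4 (.node 2 (.node 1 (.leaf 679) (.leaf 183)) (.node 1 (.leaf 448) (.leaf 239))) (.node 2 (.node 1 (.leaf 436) (.leaf 766)) (.node 1 (.leaf 184) (.leaf 771))))) (.node 8 (.node 4 (.node 2 (.node 1 (.leaf 492) (.leaf 264)) (.node 1 (.leaf 187) (.leaf 774))) (.node 2 (.node 1 (.leaf 428) (.leaf 238)) (.node 1 (.leaf 189) (.leaf 199)))) (.node 4 (.node 2 (.node 1 (.leaf 387) (.leaf 386)) (.node 1 (.leaf 194) (.leaf 780))) (.node 2 (.node 1 (.leaf 324) (.leaf 215)) (.node 1 (.leaf 277) (.leaf 200))))))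
def pre3_14 : T := (.node 16 (.node 8 (.node 4 (.node 2 (.node 1 (.leaf 426) (.leaf 784)) (.node 1 (.leaf 786) (.leaf 523))) (.node 2 (.node 1 (.leaf 795) (.leaf 202)) (.node 1 (.leaf 631) (.leaf 678)))) (.node 4 (.node 2 (.node 1 (.leaf 653) (.leaf 554)) (.node 1 (.leaf 214) (.leaf 217))) (.node 2 (.node 1 (.leaf 218) (.leaf 291)) (.node 1 (.leaf 583) (.leaf 344))))) (.node 8 (.node 4 (.node 2 (.node 1 (.leaf 805) (.leaf 814)) (.node 1 (.leaf 806) (.leaf 807))) (.node 2 (.node 1 (.leaf 828) (.leaf 782)) (.node 1 (.leaf 295) (.leaf 297)))) (.node 4 (.node 2 (.node 1 (.leaf 582) (.leaf 299)) (.node 1 (.leaf 223) (.leaf 621))) (.node 2 (.node 1 (.leaf 716) (.leaf 838)) (.node 1 (.leaf 840) (.leaf 607))))))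
def pre3_15 : T := (.node 16 (.node 8 (.node 4 (.node 2 (.node 1 (.leaf 225) (.leaf 226)) (.node 1 (.leaf 351) (.leaf 227))) (.node 2 (.node 1 (.leaf 340) (.leaf 230)) (.node 1 (.leaf 600) (.leaf 242)))) (.node 4 (.node 2 (.node 1 (.leaf 846) (.leaf 244)) (.node 1 (.leaf 245) (.leaf 850))) (.node 2 (.node 1 (.leaf 432) (.leaf 852)) (.node 1 (.leaf 236) (.leaf 775))))) (.node 8 (.node 4 (.node 2 (.node 1 (.leaf 720) (.leaf 767)) (.node 1 (.leaf 862) (.leaf 548))) (.node 2 (.node 1 (.leaf 272) (.leaf 273)) (.node 1 (.leaf 845) (.leaf 243)))) (.node 4 (.node 2 (.node 1 (.leaf 847) (.leaf 511)) (.node 1 (.leaf 870) (.leaf 789))) (.node 2 (.node 1 (.leaf 708) (.leaf 872)) (.node 1 (.leaf 849) (.leaf 505))))))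
def pre3_16 : T := (.node 16 (.node 8 (.node 4 (.node 2 (.node 1 (.leaf 878) (.leaf 848)) (.node 1 (.leaf 879) (.leaf 246))) (.node 2 (.node 1 (.leaf 250) (.leaf 881)) (.node 1 (.leaf 882) (.leaf 641)))) (.node 4 (.node 2 (.node 1 (.leaf 702) (.leaf 591)) (.node 1 (.leaf 707) (.leaf 451))) (.node 2 (.node 1 (.leaf 306) (.leaf 307)) (.node 1 (.leaf 259) (.leaf 538))))) (.node 8 (.node 4 (.node 2 (.node 1 (.leaf 263) (.leaf 414)) (.node 1 (.leaf 740) (.leaf 693))) (.node 2 (.node 1 (.leaf 262) (.leaf 412)) (.node 1 (.leaf 731) (.leaf 658)))) (.node 4 (.node 2 (.node 1 (.leaf 762) (.leaf 746)) (.node 1 (.leaf 527) (.leaf 601))) (.node 2 (.node 1 (.leaf 897) (.leaf 761)) (.node 1 (.leaf 697) (.leaf 265))))))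
def pre3_17 : T := (.node 16 (.node 8 (.node 4 (.node 2 (.node 1 (.leaf 759) (.leaf 619)) (.node 1 (.leaf 423) (.leaf 893))) (.node 2 (.node 1 (.leaf 499) (.leaf 335)) (.node 1 (.leaf 390) (.leaf 384)))) (.node 4 (.node 2 (.node 1 (.leaf 827) (.leaf 866)) (.node 1 (.leaf 457) (.leaf 278))) (.node 2 (.node 1 (.leaf 280) (.leaf 783)) (.node 1 (.leaf 354) (.leaf 309))))) (.node 8 (.node 4 (.node 2 (.node 1 (.leaf 362) (.leaf 346)) (.node 1 (.leaf 369) (.leaf 635))) (.node 2 (.node 1 (.leaf 900) (.leaf 578)) (.node 1 (.leaf 851) (.leaf 281)))) (.node 4 (.node 2 (.node 1 (.leaf 288) (.leaf 289)) (.node 1 (.leaf 817) (.leaf 287))) (.node 2 (.node 1 (.leaf 869) (.leaf 809)) (.node 1 (.leaf 927) (.leaf 836))))))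
def pre3_18 : T := (.node 16 (.node 8 (.node 4 (.node 2 (.node 1 (.leaf 683) (.leaf 350)) (.node 1 (.leaf 565) (.leaf 831))) (.node 2 (.node 1 (.leaf 908) (.leaf 736)) (.node 1 (.leaf 472) (.leaf 462)))) (.node 4 (.node 2 (.node 1 (.leaf 833) (.leaf 626)) (.node 1 (.leaf 627) (.leaf 308))) (.node 2 (.node 1 (.leaf 899) (.leaf 739)) (.node 1 (.leaf 311) (.leaf 521))))) (.node 8 (.node 4 (.node 2 (.node 1 (.leaf 749) (.leaf 889)) (.node 1 (.leaf 747) (.leaf 355))) (.node 2 (.node 1 (.leaf 699) (.leaf 696)) (.node 1 (.leaf 943) (.leaf 859)))) (.node 4 (.node 2 (.node 1 (.leaf 486) (.leaf 539)) (.node 1 (.leaf 410) (.leaf 741))) (.node 2 (.node 1 (.leaf 649) (.leaf 826)) (.node 1 (.leaf 934) (.leaf 479))))))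
def pre3_19 : T := (.node 16 (.node 8 (.node 4 (.node 2 (.node 1 (.leaf 317) (.leaf 834)) (.node 1 (.leaf 796) (.leaf 642))) (.node 2 (.node 1 (.leaf 316) (.leaf 664)) (.node 1 (.leaf 794) (.leaf 952)))) (.node 4 (.node 2 (.node 1 (.leaf 793) (.leaf 948)) (.node 1 (.leaf 318) (.leaf 545))) (.node 2 (.node 1 (.leaf 951) (.leaf 475)) (.node 1 (.leaf 319) (.leaf 326))))) (.node 8 (.node 4 (.node 2 (.node 1 (.leaf 373) (.leaf 327)) (.node 1 (.leaf 585) (.leaf 586))) (.node 2 (.node 1 (.leaf 911) (.leaf 785)) (.node 1 (.leaf 955) (.leaf 454)))) (.node 4 (.node 2 (.node 1 (.leaf 336) (.leaf 337)) (.node 1 (.leaf 964) (.leaf 563))) (.node 2 (.node 1 (.leaf 332) (.leaf 396)) (.node 1 (.leaf 903) (.leaf 884))))))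
def pre3_20 : T := (.node 16 (.node 8 (.node 4 (.node 2 (.node 1 (.leaf 949) (.leaf 519)) (.node 1 (.leaf 611) (.leaf 844))) (.node 2 (.node 1 (.leaf 812) (.leaf 682)) (.node 1 (.leaf 915) (.leaf 360)))) (.node 4 (.node 2 (.node 1 (.leaf 665) (.leaf 604)) (.node 1 (.leaf 977) (.leaf 348))) (.node 2 (.node 1 (.leaf 843) (.leaf 456)) (.node 1 (.leaf 981) (.leaf 779))))) (.node 8 (.node 4 (.node 2 (.node 1 (.leaf 352) (.leaf 913)) (.node 1 (.leaf 535) (.leaf 788))) (.node 2 (.node 1 (.leaf 418) (.leaf 379)) (.node 1 (.leaf 745) (.leaf 356)))) (.node 4 (.node 2 (.node 1 (.leaf 613) (.leaf 648)) (.node 1 (.leaf 945) (.leaf 946))) (.node 2 (.node 1 (.leaf 358) (.leaf 976)) (.node 1 (.leaf 914) (.leaf 988))))))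
def pre3_21 : T := (.node 16 (.node 8 (.node 4 (.node 2 (.node 1 (.leaf 685) (.leaf 980)) (.node 1 (.leaf 993) (.leaf 876))) (.node 2 (.node 1 (.leaf 916) (.leaf 368)) (.node 1 (.leaf 455) (.leaf 424)))) (.node 4 (.node 2 (.node 1 (.leaf 416) (.leaf 837)) (.node 1 (.leaf 645) (.leaf 576))) (.node 2 (.node 1 (.leaf 710) (.leaf 672)) (.node 1 (.leaf 715) (.leaf 400))))) (.node 8 (.node 4 (.node 2 (.node 1 (.leaf 402) (.leaf 403)) (.node 1 (.leaf 763) (.leaf 804))) (.node 2 (.node 1 (.leaf 792) (.leaf 531)) (.node 1 (.leaf 409) (.leaf 953)))) (.node 4 (.node 2 (.node 1 (.leaf 597) (.leaf 542)) (.node 1 (.leaf 382) (.leaf 596))) (.node 2 (.node 1 (.leaf 905) (.leaf 887)) (.node 1 (.leaf 520) (.leaf 778))))))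
def pre3_22 : T := (.node 16 (.node 8 (.node 4 (.node 2 (.node 1 (.leaf 947) (.leaf 777)) (.node 1 (.leaf 726) (.leaf 522))) (.node 2 (.node 1 (.leaf 508) (.leaf 394)) (.node 1 (.leaf 684) (.leaf 393)))) (.node 4 (.node 2 (.node 1 (.leaf 865) (.leaf 990)) (.node 1 (.leaf 1006) (.leaf 686))) (.node 2 (.node 1 (.leaf 476) (.leaf 928)) (.node 1 (.leaf 968) (.leaf 395))))) (.node 8 (.node 4 (.node 2 (.node 1 (.leaf 496) (.leaf 839)) (.node 1 (.leaf 841) (.leaf 397))) (.node 2 (.node 1 (.leaf 996) (.leaf 810)) (.node 1 (.leaf 706) (.leaf 405)))) (.node 4 (.node 2 (.node 1 (.leaf 406) (.leaf 408)) (.node 1 (.leaf 742) (.leaf 534))) (.node 2 (.node 1 (.leaf 773) (.leaf 756)) (.node 1 (.leaf 404) (.leaf 922))))))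
def pre3_23 : T := (.node 16 (.node 8 (.node 4 (.node 2 (.node 1 (.leaf 581) (.leaf 923)) (.node 1 (.leaf 757) (.leaf 589))) (.node 2 (.node 1 (.leaf 530) (.leaf 603)) (.node 1 (.leaf 730) (.leaf 1012)))) (.node 4 (.node 2 (.node 1 (.leaf 413) (.leaf 662)) (.node 1 (.leaf 537) (.leaf 594))) (.node 2 (.node 1 (.leaf 764) (.leaf 592)) (.node 1 (.leaf 1016) (.leaf 1018))))) (.node 8 (.node 4 (.node 2 (.node 1 (.leaf 918) (.leaf 1020)) (.node 1 (.leaf 415) (.leaf 417))) (.node 2 (.node 1 (.leaf 733) (.leaf 738)) (.node 1 (.leaf 421) (.leaf 544)))) (.node 4 (.node 2 (.node 1 (.leaf 942) (.leaf 541)) (.node 1 (.leaf 536) (.leaf 690))) (.node 2 (.node 1 (.leaf 748) (.leaf 891)) (.node 1 (.leaf 429) (.leaf 497))))))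
def pre3_24 : T := (.node 16 (.node 8 (.node 4 (.node 2 (.node 1 (.leaf 930) (.leaf 1023)) (.node 1 (.leaf 1026) (.leaf 431))) (.node 2 (.node 1 (.leaf 1027) (.leaf 732)) (.node 1 (.leaf 435) (.leaf 495)))) (.node 4 (.node 2 (.node 1 (.leaf 816) (.leaf 705)) (.node 1 (.leaf 703) (.leaf 655))) (.node 2 (.node 1 (.leaf 443) (.leaf 1001)) (.node 1 (.leaf 469) (.leaf 557))))) (.node 8 (.node 4 (.node 2 (.node 1 (.leaf 449) (.leaf 629)) (.node 1 (.leaf 450) (.leaf 1032))) (.node 2 (.node 1 (.leaf 659) (.leaf 507)) (.node 1 (.leaf 871) (.leaf 880)))) (.node 4 (.node 2 (.node 1 (.leaf 692) (.leaf 616)) (.node 1 (.leaf 614) (.leaf 452))) (.node 2 (.node 1 (.leaf 610) (.leaf 956)) (.node 1 (.leaf 909) (.leaf 1035))))))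
def pre3_25 : T := (.node 16 (.node 8 (.node 4 (.node 2 (.node 1 (.leaf 995) (.leaf 994)) (.node 1 (.leaf 978) (.leaf 910))) (.node 2 (.node 1 (.leaf 691) (.leaf 464)) (.node 1 (.leaf 466) (.leaf 467)))) (.node 4 (.node 2 (.node 1 (.leaf 958) (.leaf 573)) (.node 1 (.leaf 725) (.leaf 895))) (.node 2 (.node 1 (.leaf 644) (.leaf 1002)) (.node 1 (.leaf 465) (.leaf 1029))))) (.node 8 (.node 4 (.node 2 (.node 1 (.leaf 776) (.leaf 570)) (.node 1 (.leaf 1017) (.leaf 965))) (.node 2 (.node 1 (.leaf 937) (.leaf 974)) (.node 1 (.leaf 855) (.leaf 861)))) (.node 4 (.node 2 (.node 1 (.leaf 832) (.leaf 1030)) (.node 1 (.leaf 605) (.leaf 552))) (.node 2 (.node 1 (.leaf 468) (.leaf 1015)) (.node 1 (.leaf 940) (.leaf 579))))))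
def pre3_26 : T := (.node 16 (.node 8 (.node 4 (.node 2 (.node 1 (.leaf 824) (.leaf 584)) (.node 1 (.leaf 609) (.leaf 1004))) (.node 2 (.node 1 (.leaf 575) (.leaf 681)) (.node 1 (.leaf 477) (.leaf 721)))) (.node 4 (.node 2 (.node 1 (.leaf 478) (.leaf 722)) (.node 1 (.leaf 997) (.leaf 652))) (.node 2 (.node 1 (.leaf 643) (.leaf 502)) (.node 1 (.leaf 488) (.leaf 504))))) (.node 8 (.node 4 (.node 2 (.node 1 (.leaf 513) (.leaf 510)) (.node 1 (.leaf 491) (.leaf 566))) (.node 2 (.node 1 (.leaf 493) (.leaf 935)) (.node 1 (.leaf 1010) (.leaf 822)))) (.node 4 (.node 2 (.node 1 (.leaf 987) (.leaf 1008)) (.node 1 (.leaf 1038) (.leaf 599))) (.node 2 (.node 1 (.leaf 1011) (.leaf 823)) (.node 1 (.leaf 498) (.leaf 901))))))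
def pre3_27 : T := (.node 16 (.node 8 (.node 4 (.node 2 (.node 1 (.leaf 920) (.leaf 712)) (.node 1 (.leaf 553) (.leaf 1024))) (.node 2 (.node 1 (.leaf 921) (.leaf 572)) (.node 1 (.leaf 506) (.leaf 790)))) (.node 4 (.node 2 (.node 1 (.leaf 509) (.leaf 898)) (.node 1 (.leaf 999) (.leaf 885))) (.node 2 (.node 1 (.leaf 675) (.leaf 982)) (.node 1 (.leaf 512) (.leaf 514))))) (.node 8 (.node 4 (.node 2 (.node 1 (.leaf 791) (.leaf 517)) (.node 1 (.leaf 518) (.leaf 970))) (.node 2 (.node 1 (.leaf 639) (.leaf 875)) (.node 1 (.leaf 1037) (.leaf 701)))) (.node 4 (.node 2 (.node 1 (.leaf 961) (.leaf 593)) (.node 1 (.leaf 1014) (.leaf 765))) (.node 2 (.node 1 (.leaf 912) (.leaf 547)) (.node 1 (.leaf 985) (.leaf 811))))))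
def pre3_28 : T := (.node 16 (.node 8 (.node 4 (.node 2 (.node 1 (.leaf 932) (.leaf 540)) (.node 1 (.leaf 873) (.leaf 588))) (.node 2 (.node 1 (.leaf 564) (.leaf 863)) (.node 1 (.leaf 966) (.leaf 638)))) (.node 4 (.node 2 (.node 1 (.leaf 933) (.leaf 700)) (.node 1 (.leaf 1033) (.leaf 1009))) (.node 2 (.node 1 (.leaf 580) (.leaf 798)) (.node 1 (.leaf 803) (.leaf 628))))) (.node 8 (.node 4 (.node 2 (.node 1 (.leaf 892) (.leaf 657)) (.node 1 (.leaf 670) (.leaf 646))) (.node 2 (.node 1 (.leaf 676) (.leaf 962)) (.node 1 (.leaf 752) (.leaf 1042)))) (.node 4 (.node 2 (.node 1 (.leaf 864) (.leaf 868)) (.node 1 (.leaf 735) (.leaf 737))) (.node 2 (.node 1 (.leaf 969) (.leaf 929)) (.node 1 (.leaf 931) (.leaf 574))))))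
def pre3_29 : T := (.node 16 (.node 8 (.node 4 (.node 2 (.node 1 (.leaf 717) (.leaf 925)) (.node 1 (.leaf 768) (.leaf 926))) (.node 2 (.node 1 (.leaf 896) (.leaf 904)) (.node 1 (.leaf 606) (.leaf 853)))) (.node 4 (.node 2 (.node 1 (.leaf 957) (.leaf 820)) (.node 1 (.leaf 1028) (.leaf 1039))) (.node 2 (.node 1 (.leaf 830) (.leaf 1013)) (.node 1 (.leaf 760) (.leaf 598))))) (.node 8 (.node 4 (.node 2 (.node 1 (.leaf 986) (.leaf 666)) (.node 1 (.leaf 667) (.leaf 704))) (.node 2 (.node 1 (.leaf 617) (.leaf 640)) (.node 1 (.leaf 972) (.leaf 620)))) (.node 4 (.node 2 (.node 1 (.leaf 615) (.leaf 695)) (.node 1 (.leaf 992) (.leaf 630))) (.node 2 (.node 1 (.leaf 797) (.leaf 936)) (.node 1 (.leaf 808) (.leaf 1005))))))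
def pre3_30 : T := (.node 16 (.node 8 (.node 4 (.node 2 (.node 1 (.leaf 1021) (.leaf 888)) (.node 1 (.leaf 917) (.leaf 1007))) (.node 2 (.node 1 (.leaf 634) (.leaf 819)) (.node 1 (.leaf 902) (.leaf 1019)))) (.node 4 (.node 2 (.node 1 (.leaf 718) (.leaf 924)) (.node 1 (.leaf 883) (.leaf 979))) (.node 2 (.node 1 (.leaf 950) (.leaf 1044)) (.node 1 (.leaf 821) (.leaf 984))))) (.node 8 (.node 4 (.node 2 (.node 1 (.leaf 669) (.leaf 650)) (.node 1 (.leaf 802) (.leaf 971))) (.node 2 (.node 1 (.leaf 673) (.leaf 654)) (.node 1 (.leaf 877) (.leaf 1031)))) (.node 4 (.node 2 (.node 1 (.leaf 975) (.leaf 894)) (.node 1 (.leaf 944) (.leaf 856))) (.node 2 (.node 1 (.leaf 671) (.leaf 998)) (.node 1 (.leaf 713) (.leaf 1003))))))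
def pre3_31 : T := (.node 16 (.node 8 (.node 4 (.node 2 (.node 1 (.leaf 954) (.leaf 674)) (.node 1 (.leaf 801) (.leaf 800))) (.node 2 (.node 1 (.leaf 724) (.leaf 842)) (.node 1 (.leaf 989) (.leaf 874)))) (.node 4 (.node 2 (.node 1 (.leaf 1022) (.leaf 781)) (.node 1 (.leaf 813) (.leaf 991))) (.node 2 (.node 1 (.leaf 835) (.leaf 959)) (.node 1 (.leaf 714) (.leaf 963))))) (.node 8 (.node 4 (.node 2 (.node 1 (.leaf 857) (.leaf 907)) (.node 1 (.leaf 854) (.leaf 860))) (.node 2 (.node 1 (.leaf 743) (.leaf 941)) (.node 1 (.leaf 890) (.leaf 829)))) (.node 4 (.node 2 (.node 1 (.leaf 750) (.leaf 818)) (.node 1 (.leaf 751) (.leaf 967))) (.node 2 (.node 1 (.leaf 753) (.leaf 960)) (.node 1 (.leaf 1000) (.leaf 769))))))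
def pre3_32 : T := (.node 10 (.node 5 (.node 2 (.node 1 (.leaf 867) (.leaf 1036)) (.node 1 (.leaf 770) (.node 1 (.leaf 772) (.leaf 938)))) (.node 2 (.node 1 (.leaf 815) (.leaf 825)) (.node 1 (.leaf 983) (.node 1 (.leaf 787) (.leaf 906))))) (.node 5 (.node 2 (.node 1 (.leaf 1040) (.leaf 799)) (.node 1 (.leaf 1025) (.node 1 (.leaf 886) (.leaf 858)))) (.node 3 (.node 1 (.leaf 939) (.node 1 (.leaf 1034) (.leaf 1043))) (.node 1 (.leaf 919) (.node 1 (.leaf 1041) (.leaf 973))))))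
/-- Packed data. -/
def pre3 : T := (.node 512 (.node 256 (.node 128 (.node 64 (.node 32 pre3_0 pre3_1) (.node 32 pre3_2 pre3_3)) (.node 64 (.node 32 pre3_4 pre3_5) (.node 32 pre3_6 pre3_7))) (.node 128 (.node 64 (.node 32 pre3_8 pre3_9) (.node 32 pre3_10 pre3_11)) (.node 64 (.node 32 pre3_12 pre3_13) (.node 32 pre3_14 pre3_15)))) (.node 256 (.node 128 (.node 64 (.node 32 pre3_16 pre3_17) (.node 32 pre3_18 pre3_19)) (.node 64 (.node 32 pre3_20 pre3_21) (.node 32 pre3_22 pre3_23))) (.node 128 (.node 64 (.node 32 pre3_24 pre3_25) (.node 32 pre3_26 pre3_27)) (.node 64 (.node 32 pre3_28 pre3_29) (.node 32 pre3_30 (.node 32 pre3_31 pre3_32))))))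
def ref3_0 : T := (.node 16 (.node 8 (.node 4 (.node 2 (.node 1 (.leaf 4) (.leaf 12)) (.node 1 (.leaf 20) (.leaf 40))) (.node 2 (.node 1 (.leaf 95) (.leaf 32)) (.node 1 (.leaf 39) (.leaf 44)))) (.node 4 (.node 2 (.node 1 (.leaf 114) (.leaf 124)) (.node 1 (.leaf 110) (.leaf 148))) (.node 2 (.node 1 (.leaf 136) (.leaf 255)) (.node 1 (.leaf 263) (.leaf 273))))) (.node 8 (.node 4 (.node 2 (.node 1 (.leaf 97) (.leaf 109)) (.node 1 (.leaf 117) (.leaf 126))) (.node 2 (.node 1 (.leaf 216) (.leaf 135)) (.node 1 (.leaf 151) (.leaf 314)))) (.node 4 (.node 2 (.node 1 (.leaf 322) (.leaf 185)) (.node 1 (.leaf 181) (.leaf 341))) (.node 2 (.node 1 (.leaf 418) (.leaf 350)) (.node 1 (.leaf 358) (.leaf 483))))))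
def ref3_1 : T := (.node 16 (.node 8 (.node 4 (.node 2 (.node 1 (.leaf 292) (.leaf 300)) (.node 1 (.leaf 219) (.leaf 537))) (.node 2 (.node 1 (.leaf 522) (.leaf 571)) (.node 1 (.leaf 591) (.leaf 625)))) (.node 4 (.node 2 (.node 1 (.leaf 257) (.leaf 267)) (.node 1 (.leaf 281) (.leaf 294))) (.node 2 (.node 1 (.leaf 299) (.leaf 316)) (.node 1 (.leaf 321) (.leaf 337))))) (.node 8 (.node 4 (.node 2 (.node 1 (.leaf 706) (.leaf 349)) (.node 1 (.leaf 361) (.leaf 803))) (.node 2 (.node 1 (.leaf 498) (.leaf 671)) (.node 1 (.leaf 822) (.leaf 404)))) (.node 4 (.node 2 (.node 1 (.leaf 678) (.leaf 889)) (.node 1 (.leaf 408) (.leaf 696))) (.node 2 (.node 1 (.leaf 417) (.leaf 714)) (.node 1 (.leaf 720) (.leaf 1027))))))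
def ref3_2 : T := (.node 16 (.node 8 (.node 4 (.node 2 (.node 1 (.leaf 928) (.leaf 939)) (.node 1 (.leaf 1060) (.leaf 946))) (.node 2 (.node 1 (.leaf 958) (.leaf 755)) (.node 1 (.leaf 1148) (.leaf 1179)))) (.node 4 (.node 2 (.node 1 (.leaf 773) (.leaf 1190)) (.node 1 (.leaf 1221) (.leaf 2458))) (.node 2 (.node 1 (.leaf 2414) (.leaf 1275)) (.node 1 (.leaf 1299) (.leaf 485))))) (.node 8 (.node 4 (.node 2 (.node 1 (.leaf 639) (.leaf 1330)) (.node 1 (.leaf 497) (.leaf 650))) (.node 2 (.node 1 (.leaf 1415) (.leaf 1601)) (.node 1 (.leaf 521) (.leaf 1527)))) (.node 4 (.node 2 (.node 1 (.leaf 1542) (.leaf 1588)) (.node 1 (.leaf 541) (.leaf 1614))) (.node 2 (.node 1 (.leaf 1555) (.leaf 1700)) (.node 1 (.leaf 1622) (.leaf 1628))))))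
def ref3_3 : T := (.node 16 (.node 8 (.node 4 (.node 2 (.node 1 (.leaf 1755) (.leaf 1779)) (.node 1 (.leaf 575) (.leaf 1819))) (.node 2 (.node 1 (.leaf 597) (.leaf 1849)) (.node 1 (.leaf 1569) (.leaf 1469)))) (.node 4 (.node 2 (.node 1 (.leaf 1893) (.leaf 627)) (.node 1 (.leaf 1666) (.leaf 633))) (.node 2 (.node 1 (.leaf 1960) (.leaf 653)) (.node 1 (.leaf 2023) (.leaf 667))))) (.node 8 (.node 4 (.node 2 (.node 1 (.leaf 2034) (.leaf 681)) (.node 1 (.leaf 2492) (.leaf 700))) (.node 2 (.node 1 (.leaf 705) (.leaf 713)) (.node 1 (.leaf 723) (.leaf 1797)))) (.node 4 (.node 2 (.node 1 (.leaf 2146) (.leaf 2159)) (.node 1 (.leaf 751) (.leaf 769))) (.node 2 (.node 1 (.leaf 996) (.leaf 2535)) (.node 1 (.leaf 2543) (.leaf 807))))))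
def ref3_4 : T := (.node 16 (.node 8 (.node 4 (.node 2 (.node 1 (.leaf 1369) (.leaf 2556)) (.node 1 (.leaf 2627) (.leaf 821))) (.node 2 (.node 1 (.leaf 2040) (.leaf 2653)) (.node 1 (.leaf 2417) (.leaf 2645)))) (.node 4 (.node 2 (.node 1 (.leaf 2371) (.leaf 2461)) (.node 1 (.leaf 2426) (.leaf 899))) (.node 2 (.node 1 (.leaf 2320) (.leaf 2785)) (.node 1 (.leaf 2079) (.leaf 2285))))) (.node 8 (.node 4 (.node 2 (.node 1 (.leaf 2811) (.leaf 2845)) (.node 1 (.leaf 2355) (.leaf 2863))) (.node 2 (.node 1 (.leaf 2405) (.leaf 891)) (.node 1 (.leaf 895) (.leaf 2403)))) (.node 4 (.node 2 (.node 1 (.leaf 2955) (.leaf 2127)) (.node 1 (.leaf 2356) (.leaf 1336))) (.node 2 (.node 1 (.leaf 2449) (.leaf 930)) (.node 1 (.leaf 935) (.leaf 1946))))))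
def ref3_5 : T := (.node 16 (.node 8 (.node 4 (.node 2 (.node 1 (.leaf 945) (.leaf 961)) (.node 1 (.leaf 2171) (.leaf 1167))) (.node 2 (.node 1 (.leaf 1545) (.leaf 1130)) (.node 1 (.leaf 3150) (.leaf 999)))) (.node 4 (.node 2 (.node 1 (.leaf 3215) (.leaf 2669)) (.node 1 (.leaf 3223) (.leaf 1524))) (.node 2 (.node 1 (.leaf 1029) (.leaf 3031)) (.node 1 (.leaf 3244) (.leaf 3040))))) (.node 8 (.node 4 (.node 2 (.node 1 (.leaf 3048) (.leaf 3309)) (.node 1 (.leaf 3068) (.leaf 1059))) (.node 2 (.node 1 (.leaf 1862) (.leaf 1566)) (.node 1 (.leaf 1314) (.leaf 3347)))) (.node 4 (.node 2 (.node 1 (.leaf 3390) (.leaf 1556)) (.node 1 (.leaf 1466) (.leaf 3432))) (.node 2 (.node 1 (.leaf 1560) (.leaf 3478)) (.node 1 (.leaf 1134) (.leaf 1147))))))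
def ref3_6 : T := (.node 16 (.node 8 (.node 4 (.node 2 (.node 1 (.leaf 2194) (.leaf 1161)) (.node 1 (.leaf 3532) (.leaf 1181))) (.node 2 (.node 1 (.leaf 2244) (.leaf 1189)) (.node 1 (.leaf 2256) (.leaf 3492)))) (.node 4 (.node 2 (.node 1 (.leaf 3596) (.leaf 1775)) (.node 1 (.leaf 3631) (.leaf 1225))) (.node 2 (.node 1 (.leaf 2745) (.leaf 2949)) (.node 1 (.leaf 2429) (.leaf 1932))))) (.node 8 (.node 4 (.node 2 (.node 1 (.leaf 1281) (.leaf 1305)) (.node 1 (.leaf 1317) (.leaf 1329))) (.node 2 (.node 1 (.leaf 1339) (.leaf 2721)) (.node 1 (.leaf 3670) (.leaf 3576)))) (.node 4 (.node 2 (.node 1 (.leaf 2495) (.leaf 3678)) (.node 1 (.leaf 3688) (.leaf 1365))) (.node 2 (.node 1 (.leaf 2443) (.leaf 2360)) (.node 1 (.leaf 2282) (.leaf 3816))))))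
def ref3_7 : T := (.node 16 (.node 8 (.node 4 (.node 2 (.node 1 (.leaf 2896) (.leaf 3849)) (.node 1 (.leaf 3857) (.leaf 3885))) (.node 2 (.node 1 (.leaf 2389) (.leaf 1417)) (.node 1 (.leaf 3919) (.leaf 2910)))) (.node 4 (.node 2 (.node 1 (.leaf 1605) (.leaf 1616)) (.node 1 (.leaf 1621) (.leaf 1631))) (.node 2 (.node 1 (.leaf 3999) (.leaf 1815)) (.node 1 (.leaf 3466) (.leaf 3373))))) (.node 8 (.node 4 (.node 2 (.node 1 (.leaf 1889) (.leaf 1665)) (.node 1 (.leaf 3947) (.leaf 4078))) (.node 2 (.node 1 (.leaf 3956) (.leaf 3964)) (.node 1 (.leaf 4139) (.leaf 3112)))) (.node 4 (.node 2 (.node 1 (.leaf 1703) (.leaf 1910)) (.node 1 (.leaf 4146) (.leaf 3080))) (.node 2 (.node 1 (.leaf 2188) (.leaf 3108)) (.node 1 (.leaf 3172) (.leaf 1759))))))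
def ref3_8 : T := (.node 16 (.node 8 (.node 4 (.node 2 (.node 1 (.leaf 1776) (.leaf 1783)) (.node 1 (.leaf 1798) (.leaf 4237))) (.node 2 (.node 1 (.leaf 1812) (.leaf 1825)) (.node 1 (.leaf 4275) (.leaf 4264)))) (.node 4 (.node 2 (.node 1 (.leaf 3418) (.leaf 4335)) (.node 1 (.leaf 1851) (.leaf 3324))) (.node 2 (.node 1 (.leaf 1865) (.leaf 1890)) (.node 1 (.leaf 1899) (.leaf 1913))))) (.node 8 (.node 4 (.node 2 (.node 1 (.leaf 4044) (.leaf 4069)) (.node 1 (.leaf 1935) (.leaf 1945))) (.node 2 (.node 1 (.leaf 1959) (.leaf 3582)) (.node 1 (.leaf 4434) (.leaf 2406)))) (.node 4 (.node 2 (.node 1 (.leaf 4440) (.leaf 4527)) (.node 1 (.leaf 2327) (.leaf 5921))) (.node 2 (.node 1 (.leaf 2027) (.leaf 2033)) (.node 1 (.leaf 2043) (.leaf 4577))))))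
def ref3_9 : T := (.node 16 (.node 8 (.node 4 (.node 2 (.node 1 (.leaf 4556) (.leaf 4571)) (.node 1 (.leaf 3014) (.leaf 3700))) (.node 2 (.node 1 (.leaf 2075) (.leaf 2568)) (.node 1 (.leaf 2324) (.leaf 3762)))) (.node 4 (.node 2 (.node 1 (.leaf 2444) (.leaf 3768)) (.node 1 (.leaf 2119) (.leaf 3801))) (.node 2 (.node 1 (.leaf 2592) (.leaf 2148)) (.node 1 (.leaf 2153) (.leaf 2163))))) (.node 8 (.node 4 (.node 2 (.node 1 (.leaf 2187) (.leaf 2197)) (.node 1 (.leaf 4208) (.leaf 4216))) (.node 2 (.node 1 (.leaf 4709) (.leaf 8769)) (.node 1 (.leaf 10242) (.leaf 4724)))) (.node 4 (.node 2 (.node 1 (.leaf 2246) (.leaf 2255)) (.node 1 (.leaf 3160) (.leaf 3188))) (.node 2 (.node 1 (.leaf 4861) (.leaf 4846)) (.node 1 (.leaf 4897) (.leaf 4933))))))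
def ref3_10 : T := (.node 16 (.node 8 (.node 4 (.node 2 (.node 1 (.leaf 2537) (.leaf 2549)) (.node 1 (.leaf 2555) (.leaf 2567))) (.node 2 (.node 1 (.leaf 3561) (.leaf 2595)) (.node 1 (.leaf 4942) (.leaf 4966)))) (.node 4 (.node 2 (.node 1 (.leaf 5892) (.leaf 5944)) (.node 1 (.leaf 2631) (.leaf 2641))) (.node 2 (.node 1 (.leaf 5083) (.leaf 2657)) (.node 1 (.leaf 2663) (.leaf 4370))))) (.node 8 (.node 4 (.node 2 (.node 1 (.leaf 5050) (.leaf 5062)) (.node 1 (.leaf 2880) (.leaf 5918))) (.node 2 (.node 1 (.leaf 3917) (.leaf 2718)) (.node 1 (.leaf 5895) (.leaf 2739)))) (.node 4 (.node 2 (.node 1 (.leaf 3718) (.leaf 2986)) (.node 1 (.leaf 4484) (.leaf 5947))) (.node 2 (.node 1 (.leaf 5211) (.leaf 2789)) (.node 1 (.leaf 4636) (.leaf 3881))))))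
def ref3_11 : T := (.node 16 (.node 8 (.node 4 (.node 2 (.node 1 (.leaf 5265) (.leaf 2817)) (.node 1 (.leaf 10503) (.leaf 10508))) (.node 2 (.node 1 (.leaf 5327) (.leaf 2970)) (.node 1 (.leaf 5373) (.leaf 2847)))) (.node 4 (.node 2 (.node 1 (.leaf 5960) (.leaf 2869)) (.node 1 (.leaf 4478) (.leaf 2883))) (.node 2 (.node 1 (.leaf 2895) (.leaf 2913)) (.node 1 (.leaf 2996) (.leaf 3004))))) (.node 8 (.node 4 (.node 2 (.node 1 (.leaf 5437) (.leaf 4509)) (.node 1 (.leaf 2950) (.leaf 2959))) (.node 2 (.node 1 (.leaf 2972) (.leaf 4952)) (.node 1 (.leaf 2985) (.leaf 2998)))) (.node 4 (.node 2 (.node 1 (.leaf 3003) (.leaf 3017)) (.node 1 (.leaf 3027) (.leaf 10556))) (.node 2 (.node 1 (.leaf 3039) (.leaf 3051)) (.node 1 (.leaf 5679) (.leaf 3070))))))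
def ref3_12 : T := (.node 16 (.node 8 (.node 4 (.node 2 (.node 1 (.leaf 4404) (.leaf 3079)) (.node 1 (.leaf 3522) (.leaf 3510))) (.node 2 (.node 1 (.leaf 3149) (.leaf 3163)) (.node 1 (.leaf 4393) (.leaf 3171)))) (.node 4 (.node 2 (.node 1 (.leaf 3190) (.leaf 5787)) (.node 1 (.leaf 5770) (.leaf 5819))) (.node 2 (.node 1 (.leaf 5098) (.leaf 6043)) (.node 1 (.leaf 3217) (.leaf 3231))))) (.node 8 (.node 4 (.node 2 (.node 1 (.leaf 5530) (.leaf 3243)) (.node 1 (.leaf 5548) (.leaf 5554))) (.node 2 (.node 1 (.leaf 6171) (.leaf 6082)) (.node 1 (.leaf 6093) (.leaf 10245)))) (.node 4 (.node 2 (.node 1 (.leaf 6100) (.leaf 5591)) (.node 1 (.leaf 9840) (.leaf 5617))) (.node 2 (.node 1 (.leaf 10039) (.leaf 6306)) (.node 1 (.leaf 10000) (.leaf 6367))))))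
def ref3_13 : T := (.node 16 (.node 8 (.node 4 (.node 2 (.node 1 (.leaf 10592) (.leaf 6389)) (.node 1 (.leaf 10440) (.leaf 3311))) (.node 2 (.node 1 (.leaf 5612) (.leaf 6454)) (.node 1 (.leaf 3323) (.leaf 4352)))) (.node 4 (.node 2 (.node 1 (.leaf 10468) (.leaf 3341)) (.node 1 (.leaf 11107) (.leaf 3363))) (.node 2 (.node 1 (.leaf 3461) (.leaf 6598)) (.node 1 (.leaf 3389) (.leaf 6640))))) (.node 8 (.node 4 (.node 2 (.node 1 (.leaf 3988) (.leaf 3420)) (.node 1 (.leaf 3435) (.leaf 6680))) (.node 2 (.node 1 (.leaf 3451) (.leaf 3468)) (.node 1 (.leaf 3481) (.leaf 3495)))) (.node 4 (.node 2 (.node 1 (.leaf 3513) (.leaf 3526)) (.node 1 (.leaf 3535) (.leaf 6768))) (.node 2 (.node 1 (.leaf 3551) (.leaf 3579)) (.node 1 (.leaf 3585) (.leaf 3598))))))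
def ref3_14 : T := (.node 16 (.node 8 (.node 4 (.node 2 (.node 1 (.leaf 11104) (.leaf 6811)) (.node 1 (.leaf 6838) (.leaf 4200))) (.node 2 (.node 1 (.leaf 6945) (.leaf 3633)) (.node 1 (.leaf 9618) (.leaf 5450)))) (.node 4 (.node 2 (.node 1 (.leaf 5226) (.leaf 4424)) (.node 1 (.leaf 3672) (.leaf 3677))) (.node 2 (.node 1 (.leaf 3691) (.leaf 3703)) (.node 1 (.leaf 11346) (.leaf 3717))))) (.node 8 (.node 4 (.node 2 (.node 1 (.leaf 6993) (.leaf 7070)) (.node 1 (.leaf 7002) (.leaf 7010))) (.node 2 (.node 1 (.leaf 7139) (.leaf 6786)) (.node 1 (.leaf 3764) (.leaf 3771)))) (.node 4 (.node 2 (.node 1 (.leaf 4674) (.leaf 3795)) (.node 1 (.leaf 3819) (.leaf 9458))) (.node 2 (.node 1 (.leaf 9392) (.leaf 7291)) (.node 1 (.leaf 7311) (.leaf 9342))))))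
def ref3_15 : T := (.node 16 (.node 8 (.node 4 (.node 2 (.node 1 (.leaf 3851) (.leaf 3863)) (.node 1 (.leaf 3883) (.leaf 3893))) (.node 2 (.node 1 (.leaf 3909) (.leaf 3925)) (.node 1 (.leaf 8800) (.leaf 3943)))) (.node 4 (.node 2 (.node 1 (.leaf 7398) (.leaf 3955)) (.node 1 (.leaf 3967) (.leaf 7473))) (.node 2 (.node 1 (.leaf 3991) (.leaf 7497)) (.node 1 (.leaf 4005) (.leaf 6711))))) (.node 8 (.node 4 (.node 2 (.node 1 (.leaf 11876) (.leaf 6616)) (.node 1 (.leaf 7583) (.leaf 4364))) (.node 2 (.node 1 (.leaf 4046) (.leaf 4057)) (.node 1 (.leaf 7390) (.leaf 4077)))) (.node 4 (.node 2 (.node 1 (.leaf 7402) (.leaf 11663)) (.node 1 (.leaf 7660) (.leaf 11598))) (.node 2 (.node 1 (.leaf 11686) (.leaf 7676)) (.node 1 (.leaf 7439) (.leaf 11660))))))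
def ref3_16 : T := (.node 16 (.node 8 (.node 4 (.node 2 (.node 1 (.leaf 7875) (.leaf 11558)) (.node 1 (.leaf 7897) (.leaf 4141))) (.node 2 (.node 1 (.leaf 4150) (.leaf 7937)) (.node 1 (.leaf 7960) (.leaf 9443)))) (.node 4 (.node 2 (.node 1 (.leaf 5710) (.leaf 4734)) (.node 1 (.leaf 5740) (.leaf 4202))) (.node 2 (.node 1 (.leaf 4210) (.leaf 4215)) (.node 1 (.leaf 4241) (.leaf 9822))))) (.node 8 (.node 4 (.node 2 (.node 1 (.leaf 4263) (.leaf 10003)) (.node 1 (.leaf 10254) (.leaf 9892))) (.node 2 (.node 1 (.leaf 4279) (.leaf 10036)) (.node 1 (.leaf 10197) (.leaf 10354)))) (.node 4 (.node 2 (.node 1 (.leaf 9872) (.leaf 10288)) (.node 1 (.leaf 9825) (.leaf 11167))) (.node 2 (.node 1 (.leaf 8367) (.leaf 10076)) (.node 1 (.leaf 9930) (.leaf 4337))))))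
def ref3_17 : T := (.node 16 (.node 8 (.node 4 (.node 2 (.node 1 (.leaf 6513) (.leaf 10726)) (.node 1 (.leaf 4351) (.leaf 9884))) (.node 2 (.node 1 (.leaf 4366) (.leaf 4373)) (.node 1 (.leaf 4387) (.leaf 4407)))) (.node 4 (.node 2 (.node 1 (.leaf 10972) (.leaf 7626)) (.node 1 (.leaf 4428) (.leaf 4436))) (.node 2 (.node 1 (.leaf 4443) (.leaf 6798)) (.node 1 (.leaf 10500) (.leaf 8766))))) (.node 8 (.node 4 (.node 2 (.node 1 (.leaf 4480) (.leaf 4487)) (.node 1 (.leaf 4499) (.leaf 9520))) (.node 2 (.node 1 (.leaf 10604) (.leaf 4652)) (.node 1 (.leaf 7494) (.leaf 4529)))) (.node 4 (.node 2 (.node 1 (.leaf 4558) (.leaf 4563)) (.node 1 (.leaf 11990) (.leaf 4583))) (.node 2 (.node 1 (.leaf 7655) (.leaf 7032)) (.node 1 (.leaf 9121) (.leaf 9374))))))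
def ref3_18 : T := (.node 16 (.node 8 (.node 4 (.node 2 (.node 1 (.leaf 5992) (.leaf 4638)) (.node 1 (.leaf 4656) (.leaf 7157))) (.node 2 (.node 1 (.leaf 10832) (.leaf 11206)) (.node 1 (.leaf 4677) (.leaf 11349)))) (.node 4 (.node 2 (.node 1 (.leaf 7190) (.leaf 4980)) (.node 1 (.leaf 4988) (.leaf 4705))) (.node 2 (.node 1 (.leaf 10576) (.leaf 10264)) (.node 1 (.leaf 4726) (.leaf 4738))))) (.node 8 (.node 4 (.node 2 (.node 1 (.leaf 12388) (.leaf 8070)) (.node 1 (.leaf 12478) (.leaf 10511))) (.node 2 (.node 1 (.leaf 9906) (.leaf 9937)) (.node 1 (.leaf 12613) (.leaf 10862)))) (.node 4 (.node 2 (.node 1 (.leaf 8803) (.leaf 11164)) (.node 1 (.leaf 9843) (.leaf 10067))) (.node 2 (.node 1 (.leaf 12266) (.leaf 10961)) (.node 1 (.leaf 10957) (.leaf 9345))))))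
def ref3_19 : T := (.node 16 (.node 8 (.node 4 (.node 2 (.node 1 (.leaf 4845) (.leaf 7235)) (.node 1 (.leaf 11904) (.leaf 7213))) (.node 2 (.node 1 (.leaf 4865) (.leaf 12201)) (.node 1 (.leaf 11754) (.leaf 12764)))) (.node 4 (.node 2 (.node 1 (.leaf 11910) (.leaf 12700)) (.node 1 (.leaf 4903) (.leaf 10729))) (.node 2 (.node 1 (.leaf 12750) (.leaf 9461)) (.node 1 (.leaf 4935) (.leaf 4944))))) (.node 8 (.node 4 (.node 2 (.node 1 (.leaf 4955) (.leaf 4965)) (.node 1 (.leaf 4982) (.leaf 4987))) (.node 2 (.node 1 (.leaf 9563) (.leaf 9595)) (.node 1 (.leaf 12806) (.leaf 9621)))) (.node 4 (.node 2 (.node 1 (.leaf 5054) (.leaf 5061)) (.node 1 (.leaf 12921) (.leaf 9523))) (.node 2 (.node 1 (.leaf 5087) (.leaf 5100)) (.node 1 (.leaf 8580) (.leaf 7974))))))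
def ref3_20 : T := (.node 16 (.node 8 (.node 4 (.node 2 (.node 1 (.leaf 12720) (.leaf 9440)) (.node 1 (.leaf 7221) (.leaf 7372))) (.node 2 (.node 1 (.leaf 7050) (.leaf 5482)) (.node 1 (.leaf 8908) (.leaf 5963)))) (.node 4 (.node 2 (.node 1 (.leaf 10851) (.leaf 12269)) (.node 1 (.leaf 13125) (.leaf 5215))) (.node 2 (.node 1 (.leaf 7358) (.leaf 5229)) (.node 1 (.leaf 13181) (.leaf 11375))))) (.node 8 (.node 4 (.node 2 (.node 1 (.leaf 5269) (.leaf 10523)) (.node 1 (.leaf 10357) (.leaf 12361))) (.node 2 (.node 1 (.leaf 10443) (.leaf 10559)) (.node 1 (.leaf 10601) (.leaf 5333)))) (.node 4 (.node 2 (.node 1 (.leaf 12198) (.leaf 10759)) (.node 1 (.leaf 12642) (.leaf 12673))) (.node 2 (.node 1 (.leaf 5375) (.leaf 13110)) (.node 1 (.leaf 8899) (.leaf 13306))))))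
def ref3_21 : T := (.node 16 (.node 8 (.node 4 (.node 2 (.node 1 (.leaf 5512) (.leaf 13173)) (.node 1 (.leaf 13373) (.leaf 12549))) (.node 2 (.node 1 (.leaf 8924) (.leaf 5439)) (.node 1 (.leaf 5452) (.leaf 10471)))) (.node 4 (.node 2 (.node 1 (.leaf 10595) (.leaf 9280)) (.node 1 (.leaf 5486) (.leaf 5995))) (.node 2 (.node 1 (.leaf 6007) (.leaf 5515)) (.node 1 (.leaf 6039) (.leaf 5534))))) (.node 8 (.node 4 (.node 2 (.node 1 (.leaf 5547) (.leaf 5557)) (.node 1 (.leaf 6556) (.leaf 10737))) (.node 2 (.node 1 (.leaf 12138) (.leaf 9895)) (.node 1 (.leaf 5585) (.leaf 12778)))) (.node 4 (.node 2 (.node 1 (.leaf 9934) (.leaf 9933)) (.node 1 (.leaf 5683) (.leaf 9909))) (.node 2 (.node 1 (.leaf 8623) (.leaf 8054)) (.node 1 (.leaf 5712) (.leaf 6751))))))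
def ref3_22 : T := (.node 16 (.node 8 (.node 4 (.node 2 (.node 1 (.leaf 12680) (.leaf 6738)) (.node 1 (.leaf 11264) (.leaf 5743))) (.node 2 (.node 1 (.leaf 11689) (.leaf 5769)) (.node 1 (.leaf 6008) (.leaf 5791)))) (.node 4 (.node 2 (.node 1 (.leaf 12322) (.leaf 13339)) (.node 1 (.leaf 13596) (.leaf 6040))) (.node 2 (.node 1 (.leaf 9395) (.leaf 9134)) (.node 1 (.leaf 13001) (.leaf 5825))))) (.node 8 (.node 4 (.node 2 (.node 1 (.leaf 11879) (.leaf 9406)) (.node 1 (.leaf 9358) (.leaf 6045))) (.node 2 (.node 1 (.leaf 13430) (.leaf 11843)) (.node 1 (.leaf 11267) (.leaf 6084)))) (.node 4 (.node 2 (.node 1 (.leaf 6089) (.leaf 6099)) (.node 1 (.leaf 6291) (.leaf 10194))) (.node 2 (.node 1 (.leaf 10620) (.leaf 6409)) (.node 1 (.leaf 6173) (.leaf 10717))))))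
def ref3_23 : T := (.node 16 (.node 8 (.node 4 (.node 2 (.node 1 (.leaf 11209) (.leaf 11235)) (.node 1 (.leaf 6428) (.leaf 10267))) (.node 2 (.node 1 (.leaf 10257) (.leaf 10064)) (.node 1 (.leaf 6285) (.leaf 13708)))) (.node 4 (.node 2 (.node 1 (.leaf 6305) (.leaf 10598)) (.node 1 (.leaf 10291) (.leaf 12481))) (.node 2 (.node 1 (.leaf 6562) (.leaf 12391)) (.node 1 (.leaf 13784) (.leaf 13813))))) (.node 8 (.node 4 (.node 2 (.node 1 (.leaf 12213) (.leaf 13851)) (.node 1 (.leaf 6369) (.leaf 6395))) (.node 2 (.node 1 (.leaf 6411) (.leaf 6431)) (.node 1 (.leaf 6457) (.leaf 6505)))) (.node 4 (.node 2 (.node 1 (.leaf 12609) (.leaf 10079)) (.node 1 (.leaf 9875) (.leaf 6555))) (.node 2 (.node 1 (.leaf 6565) (.leaf 10648)) (.node 1 (.leaf 6602) (.leaf 6618))))))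
def ref3_24 : T := (.node 16 (.node 8 (.node 4 (.node 2 (.node 1 (.leaf 9157) (.leaf 13906)) (.node 1 (.leaf 13949) (.leaf 6642))) (.node 2 (.node 1 (.leaf 13981) (.leaf 10619)) (.node 1 (.leaf 6682) (.leaf 6705)))) (.node 4 (.node 2 (.node 1 (.leaf 11140) (.leaf 6740)) (.node 1 (.leaf 6747) (.leaf 11372))) (.node 2 (.node 1 (.leaf 6770) (.leaf 13523)) (.node 1 (.leaf 6790) (.leaf 6800))))) (.node 8 (.node 4 (.node 2 (.node 1 (.leaf 6805) (.leaf 9592)) (.node 1 (.leaf 6837) (.leaf 14072))) (.node 2 (.node 1 (.leaf 12067) (.leaf 11601)) (.node 1 (.leaf 7666) (.leaf 7918)))) (.node 4 (.node 2 (.node 1 (.leaf 12137) (.leaf 11900)) (.node 1 (.leaf 11757) (.leaf 6947))) (.node 2 (.node 1 (.leaf 11899) (.leaf 12822)) (.node 1 (.leaf 8680) (.leaf 14113))))))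
def ref3_25 : T := (.node 16 (.node 8 (.node 4 (.node 2 (.node 1 (.leaf 13415) (.leaf 13394)) (.node 1 (.leaf 13140) (.leaf 8699))) (.node 2 (.node 1 (.leaf 10734) (.leaf 6989)) (.node 1 (.leaf 7001) (.leaf 7013)))) (.node 4 (.node 2 (.node 1 (.leaf 12856) (.leaf 7034)) (.node 1 (.leaf 11840) (.leaf 11847))) (.node 2 (.node 1 (.leaf 7053) (.leaf 13528)) (.node 1 (.leaf 7069) (.leaf 14008))))) (.node 8 (.node 4 (.node 2 (.node 1 (.leaf 11143) (.leaf 11993)) (.node 1 (.leaf 13804) (.leaf 12942))) (.node 2 (.node 1 (.leaf 12429) (.leaf 13087)) (.node 1 (.leaf 11280) (.leaf 10946)))) (.node 4 (.node 2 (.node 1 (.leaf 10703) (.leaf 14028)) (.node 1 (.leaf 10962) (.leaf 10975))) (.node 2 (.node 1 (.leaf 7141) (.leaf 13760)) (.node 1 (.leaf 12295) (.leaf 7153))))))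
def ref3_26 : T := (.node 16 (.node 8 (.node 4 (.node 2 (.node 1 (.leaf 10700) (.leaf 7192)) (.node 1 (.leaf 7227) (.leaf 13566))) (.node 2 (.node 1 (.leaf 9377) (.leaf 9282)) (.node 1 (.leaf 7295) (.leaf 9409)))) (.node 4 (.node 2 (.node 1 (.leaf 7317) (.leaf 9411)) (.node 1 (.leaf 13457) (.leaf 7362))) (.node 2 (.node 1 (.leaf 7374) (.leaf 7392)) (.node 1 (.leaf 7397) (.leaf 7405))))) (.node 8 (.node 4 (.node 2 (.node 1 (.leaf 11561) (.leaf 7435)) (.node 1 (.leaf 7477) (.leaf 7493))) (.node 2 (.node 1 (.leaf 7503) (.leaf 11286)) (.node 1 (.leaf 13668) (.leaf 11868)))) (.node 4 (.node 2 (.node 1 (.leaf 13286) (.leaf 13626)) (.node 1 (.leaf 14176) (.leaf 10865))) (.node 2 (.node 1 (.leaf 13695) (.leaf 10949)) (.node 1 (.leaf 7585) (.leaf 8567))))))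
def ref3_27 : T := (.node 16 (.node 8 (.node 4 (.node 2 (.node 1 (.leaf 9003) (.leaf 12325)) (.node 1 (.leaf 7628) (.leaf 13918))) (.node 2 (.node 1 (.leaf 9023) (.leaf 7649)) (.node 1 (.leaf 7662) (.leaf 7669)))) (.node 4 (.node 2 (.node 1 (.leaf 7675) (.leaf 12101)) (.node 1 (.leaf 13486) (.leaf 8047))) (.node 2 (.node 1 (.leaf 12550) (.leaf 13202)) (.node 1 (.leaf 7877) (.leaf 7903))))) (.node 8 (.node 4 (.node 2 (.node 1 (.leaf 7921) (.leaf 7931)) (.node 1 (.leaf 7959) (.leaf 13020))) (.node 2 (.node 1 (.leaf 7977) (.leaf 8039)) (.node 1 (.leaf 14154) (.leaf 8057)))) (.node 4 (.node 2 (.node 1 (.leaf 12891) (.leaf 8073)) (.node 1 (.leaf 13751) (.leaf 10651))) (.node 2 (.node 1 (.leaf 12556) (.leaf 9887)) (.node 1 (.leaf 13254) (.leaf 11338))))))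
def ref3_28 : T := (.node 16 (.node 8 (.node 4 (.node 2 (.node 1 (.leaf 10788) (.leaf 8369)) (.node 1 (.leaf 12098) (.leaf 10579))) (.node 2 (.node 1 (.leaf 10607) (.leaf 8561)) (.node 1 (.leaf 12958) (.leaf 8579)))) (.node 4 (.node 2 (.node 1 (.leaf 11323) (.leaf 8619)) (.node 1 (.leaf 14090) (.leaf 13644))) (.node 2 (.node 1 (.leaf 10835) (.leaf 8683)) (.node 1 (.leaf 8693) (.leaf 9601))))) (.node 8 (.node 4 (.node 2 (.node 1 (.leaf 12559) (.leaf 10520)) (.node 1 (.leaf 8895) (.leaf 8907))) (.node 2 (.node 1 (.leaf 8926) (.leaf 12898)) (.node 1 (.leaf 12210) (.leaf 14263)))) (.node 4 (.node 2 (.node 1 (.leaf 9004) (.leaf 9017)) (.node 1 (.leaf 10718) (.leaf 10969))) (.node 2 (.node 1 (.leaf 13006) (.leaf 9144)) (.node 1 (.leaf 12590) (.leaf 9123))))))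
def ref3_29 : T := (.node 16 (.node 8 (.node 4 (.node 2 (.node 1 (.leaf 9133) (.leaf 9143)) (.node 1 (.leaf 9154) (.leaf 12593))) (.node 2 (.node 1 (.leaf 10787) (.leaf 11320)) (.node 1 (.leaf 10994) (.leaf 11289)))) (.node 4 (.node 2 (.node 1 (.leaf 12840) (.leaf 12426)) (.node 1 (.leaf 13994) (.leaf 14202))) (.node 2 (.node 1 (.leaf 12292) (.leaf 13728)) (.node 1 (.leaf 12605) (.leaf 12621))))) (.node 8 (.node 4 (.node 2 (.node 1 (.leaf 13262) (.leaf 12645)) (.node 1 (.leaf 12659) (.leaf 12683))) (.node 2 (.node 1 (.leaf 12703) (.leaf 12719)) (.node 1 (.leaf 13054) (.leaf 12753)))) (.node 4 (.node 2 (.node 1 (.leaf 12767) (.leaf 12781)) (.node 1 (.leaf 13363) (.leaf 12809))) (.node 2 (.node 1 (.leaf 12832) (.leaf 12843)) (.node 1 (.leaf 12858) (.leaf 13587))))))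
def ref3_30 : T := (.node 16 (.node 8 (.node 4 (.node 2 (.node 1 (.leaf 13872) (.leaf 12888)) (.node 1 (.leaf 12901) (.leaf 13614))) (.node 2 (.node 1 (.leaf 12927) (.leaf 12944)) (.node 1 (.leaf 12957) (.leaf 13847)))) (.node 4 (.node 2 (.node 1 (.leaf 12991) (.leaf 13010)) (.node 1 (.leaf 13023) (.leaf 13157))) (.node 2 (.node 1 (.leaf 13057) (.leaf 14298)) (.node 1 (.leaf 13077) (.leaf 13241))))) (.node 8 (.node 4 (.node 2 (.node 1 (.leaf 13112) (.leaf 13131)) (.node 1 (.leaf 13139) (.leaf 13154))) (.node 2 (.node 1 (.leaf 13170) (.leaf 13187)) (.node 1 (.leaf 13204) (.leaf 14059)))) (.node 4 (.node 2 (.node 1 (.leaf 13229) (.leaf 13253)) (.node 1 (.leaf 13265) (.leaf 13291))) (.node 2 (.node 1 (.leaf 13311) (.leaf 13462)) (.node 1 (.leaf 13336) (.leaf 13548))))))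
def ref3_31 : T := (.node 16 (.node 8 (.node 4 (.node 2 (.node 1 (.leaf 13357) (.leaf 13377)) (.node 1 (.leaf 13393) (.leaf 13405))) (.node 2 (.node 1 (.leaf 13438) (.leaf 13443)) (.node 1 (.leaf 13465) (.leaf 13491)))) (.node 4 (.node 2 (.node 1 (.leaf 13890) (.leaf 13515)) (.node 1 (.leaf 13531) (.leaf 13550))) (.node 2 (.node 1 (.leaf 13565) (.leaf 13584)) (.node 1 (.leaf 13599) (.leaf 13618))))) (.node 8 (.node 4 (.node 2 (.node 1 (.leaf 13625) (.leaf 13647)) (.node 1 (.leaf 13670) (.leaf 13681))) (.node 2 (.node 1 (.leaf 13711) (.leaf 13730)) (.node 1 (.leaf 13739) (.leaf 13763)))) (.node 4 (.node 2 (.node 1 (.leaf 13789) (.leaf 13803)) (.node 1 (.leaf 13821) (.leaf 13835))) (.node 2 (.node 1 (.leaf 13857) (.leaf 13875)) (.node 1 (.leaf 13894) (.leaf 13909))))))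
def ref3_32 : T := (.node 10 (.node 5 (.node 2 (.node 1 (.leaf 13921) (.leaf 14147)) (.node 1 (.leaf 13955) (.node 1 (.leaf 13969) (.leaf 13996)))) (.node 2 (.node 1 (.leaf 14011) (.leaf 14031)) (.node 1 (.leaf 14045) (.node 1 (.leaf 14074) (.leaf 14092))))) (.node 5 (.node 2 (.node 1 (.leaf 14216) (.leaf 14119)) (.node 1 (.leaf 14133) (.node 1 (.leaf 14157) (.leaf 14179)))) (.node 3 (.node 1 (.leaf 14204) (.node 1 (.leaf 14223) (.leaf 14272))) (.node 1 (.leaf 14249) (.node 1 (.leaf 14271) (.leaf 14289))))))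
/-- Packed data. -/
def ref3 : T := (.node 512 (.node 256 (.node 128 (.node 64 (.node 32 ref3_0 ref3_1) (.node 32 ref3_2 ref3_3)) (.node 64 (.node 32 ref3_4 ref3_5) (.node 32 ref3_6 ref3_7))) (.node 128 (.node 64 (.node 32 ref3_8 ref3_9) (.node 32 ref3_10 ref3_11)) (.node 64 (.node 32 ref3_12 ref3_13) (.node 32 ref3_14 ref3_15)))) (.node 256 (.node 128 (.node 64 (.node 32 ref3_16 ref3_17) (.node 32 ref3_18 ref3_19)) (.node 64 (.node 32 ref3_20 ref3_21) (.node 32 ref3_22 ref3_23))) (.node 128 (.node 64 (.node 32 ref3_24 ref3_25) (.node 32 ref3_26 ref3_27)) (.node 64 (.node 32 ref3_28 ref3_29) (.node 32 ref3_30 (.node 32 ref3_31 ref3_32))))))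
def pre4_0 : T := (.node 16 (.node 8 (.node 4 (.node 2 (.node 1 (.leaf 0) (.leaf 3)) (.node 1 (.leaf 6) (.leaf 11))) (.node 2 (.node 1 (.leaf 1) (.leaf 17)) (.node 1 (.leaf 20) (.leaf 10)))) (.node 4 (.node 2 (.node 1 (.leaf 2) (.leaf 28)) (.node 1 (.leaf 22) (.leaf 14))) (.node 2 (.node 1 (.leaf 15) (.leaf 36)) (.node 1 (.leaf 12) (.leaf 4))))) (.node 8 (.node 4 (.node 2 (.node 1 (.leaf 7) (.leaf 34)) (.node 1 (.leaf 5) (.leaf 48))) (.node 2 (.node 1 (.leaf 41) (.leaf 42)) (.node 1 (.leaf 46) (.leaf 54)))) (.node 4 (.node 2 (.node 1 (.leaf 21) (.leaf 16)) (.node 1 (.leaf 8) (.leaf 60))) (.node 2 (.node 1 (.leaf 66) (.leaf 70)) (.node 1 (.leaf 73) (.leaf 9))))))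
def pre4_1 : T := (.node 16 (.node 8 (.node 4 (.node 2 (.node 1 (.leaf 81) (.leaf 26)) (.node 1 (.leaf 24) (.leaf 86))) (.node 2 (.node 1 (.leaf 93) (.leaf 51)) (.node 1 (.leaf 49) (.leaf 13)))) (.node 4 (.node 2 (.node 1 (.leaf 106) (.leaf 33)) (.node 1 (.leaf 18) (.leaf 108))) (.node 2 (.node 1 (.leaf 25) (.leaf 112)) (.node 1 (.leaf 44) (.leaf 116))))) (.node 8 (.node 4 (.node 2 (.node 1 (.leaf 94) (.leaf 95)) (.node 1 (.leaf 104) (.leaf 19))) (.node 2 (.node 1 (.leaf 129) (.leaf 131)) (.node 1 (.leaf 136) (.leaf 140)))) (.node 4 (.node 2 (.node 1 (.leaf 143) (.leaf 23)) (.node 1 (.leaf 151) (.leaf 154))) (.node 2 (.node 1 (.leaf 159) (.leaf 163)) (.node 1 (.leaf 166) (.leaf 27))))))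
def pre4_2 : T := (.node 16 (.node 8 (.node 4 (.node 2 (.node 1 (.leaf 174) (.leaf 179)) (.node 1 (.leaf 184) (.leaf 187))) (.node 2 (.node 1 (.leaf 189) (.leaf 191)) (.node 1 (.leaf 194) (.leaf 29)))) (.node 4 (.node 2 (.node 1 (.leaf 197) (.leaf 68)) (.node 1 (.leaf 30) (.leaf 205))) (.node 2 (.node 1 (.leaf 67) (.leaf 74)) (.node 1 (.leaf 31) (.leaf 210))))) (.node 8 (.node 4 (.node 2 (.node 1 (.leaf 211) (.leaf 216)) (.node 1 (.leaf 220) (.leaf 223))) (.node 2 (.node 1 (.leaf 32) (.leaf 130)) (.node 1 (.leaf 208) (.leaf 79)))) (.node 4 (.node 2 (.node 1 (.leaf 122) (.leaf 35)) (.node 1 (.leaf 241) (.leaf 243))) (.node 2 (.node 1 (.leaf 248) (.leaf 124)) (.node 1 (.leaf 251) (.leaf 253))))))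
def pre4_3 : T := (.node 16 (.node 8 (.node 4 (.node 2 (.node 1 (.leaf 127) (.leaf 37)) (.node 1 (.leaf 258) (.leaf 38))) (.node 2 (.node 1 (.leaf 162) (.leaf 263)) (.node 1 (.leaf 40) (.leaf 99)))) (.node 4 (.node 2 (.node 1 (.leaf 39) (.leaf 271)) (.node 1 (.leaf 274) (.leaf 276))) (.node 2 (.node 1 (.leaf 133) (.leaf 206)) (.node 1 (.leaf 43) (.leaf 285))))) (.node 8 (.node 4 (.node 2 (.node 1 (.leaf 290) (.leaf 293)) (.node 1 (.leaf 45) (.leaf 299))) (.node 2 (.node 1 (.leaf 183) (.leaf 304)) (.node 1 (.leaf 269) (.leaf 47)))) (.node 4 (.node 2 (.node 1 (.leaf 309) (.leaf 234)) (.node 1 (.leaf 235) (.leaf 270))) (.node 2 (.node 1 (.leaf 50) (.leaf 317)) (.node 1 (.leaf 103) (.leaf 182))))))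
def pre4_4 : T := (.node 16 (.node 8 (.node 4 (.node 2 (.node 1 (.leaf 322) (.leaf 75)) (.node 1 (.leaf 52) (.leaf 283))) (.node 2 (.node 1 (.leaf 109) (.leaf 53)) (.node 1 (.leaf 239) (.leaf 228)))) (.node 4 (.node 2 (.node 1 (.leaf 341) (.leaf 344)) (.node 1 (.leaf 346) (.leaf 221))) (.node 2 (.node 1 (.leaf 153) (.leaf 55)) (.node 1 (.leaf 222) (.leaf 138))))) (.node 8 (.node 4 (.node 2 (.node 1 (.leaf 56) (.leaf 355)) (.node 1 (.leaf 137) (.leaf 144))) (.node 2 (.node 1 (.leaf 57) (.leaf 363)) (.node 1 (.leaf 156) (.leaf 219)))) (.node 4 (.node 2 (.node 1 (.leaf 58) (.leaf 146)) (.node 1 (.leaf 373) (.leaf 374))) (.node 2 (.node 1 (.leaf 59) (.leaf 379)) (.node 1 (.leaf 275) (.leaf 385))))))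
def pre4_5 : T := (.node 16 (.node 8 (.node 4 (.node 2 (.node 1 (.leaf 261) (.leaf 90)) (.node 1 (.leaf 193) (.leaf 387))) (.node 2 (.node 1 (.leaf 61) (.leaf 388)) (.node 1 (.leaf 161) (.leaf 62)))) (.node 4 (.node 2 (.node 1 (.leaf 394) (.leaf 160)) (.node 1 (.leaf 167) (.leaf 63))) (.node 2 (.node 1 (.leaf 313) (.leaf 401)) (.node 1 (.leaf 407) (.leaf 410))))) (.node 8 (.node 4 (.node 2 (.node 1 (.leaf 413) (.leaf 64)) (.node 1 (.leaf 421) (.leaf 426))) (.node 2 (.node 1 (.leaf 428) (.leaf 249)) (.node 1 (.leaf 65) (.leaf 430)))) (.node 4 (.node 2 (.node 1 (.leaf 201) (.leaf 77)) (.node 1 (.leaf 434) (.leaf 71))) (.node 2 (.node 1 (.leaf 438) (.leaf 185)) (.node 1 (.leaf 240) (.leaf 440))))))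
def pre4_6 : T := (.node 16 (.node 8 (.node 4 (.node 2 (.node 1 (.leaf 69) (.leaf 442)) (.node 1 (.leaf 76) (.leaf 303))) (.node 2 (.node 1 (.leaf 445) (.leaf 102)) (.node 1 (.leaf 158) (.leaf 72)))) (.node 4 (.node 2 (.node 1 (.leaf 450) (.leaf 78)) (.node 1 (.leaf 318) (.leaf 118))) (.node 2 (.node 1 (.leaf 370) (.leaf 231)) (.node 1 (.leaf 280) (.leaf 203))))) (.node 8 (.node 4 (.node 2 (.node 1 (.leaf 439) (.leaf 172)) (.node 1 (.leaf 121) (.leaf 287))) (.node 2 (.node 1 (.leaf 461) (.leaf 80)) (.node 1 (.leaf 465) (.leaf 114)))) (.node 4 (.node 2 (.node 1 (.leaf 338) (.leaf 139)) (.node 1 (.leaf 328) (.leaf 296))) (.node 2 (.node 1 (.leaf 337) (.leaf 82)) (.node 1 (.leaf 474) (.leaf 218))))))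
def pre4_7 : T := (.node 16 (.node 8 (.node 4 (.node 2 (.node 1 (.leaf 83) (.leaf 393)) (.node 1 (.leaf 217) (.leaf 224))) (.node 2 (.node 1 (.leaf 84) (.leaf 324)) (.node 1 (.leaf 330) (.leaf 85)))) (.node 4 (.node 2 (.node 1 (.leaf 300) (.leaf 488)) (.node 1 (.leaf 492) (.leaf 335))) (.node 2 (.node 1 (.leaf 87) (.leaf 88)) (.node 1 (.leaf 496) (.leaf 237))))) (.node 8 (.node 4 (.node 2 (.node 1 (.leaf 89) (.leaf 170)) (.node 1 (.leaf 503) (.leaf 508))) (.node 2 (.node 1 (.leaf 511) (.leaf 447)) (.node 1 (.leaf 91) (.leaf 334)))) (.node 4 (.node 2 (.node 1 (.leaf 389) (.leaf 92)) (.node 1 (.leaf 518) (.leaf 97))) (.node 2 (.node 1 (.leaf 247) (.leaf 126)) (.node 1 (.leaf 96) (.leaf 119))))))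
def pre4_8 : T := (.node 16 (.node 8 (.node 4 (.node 2 (.node 1 (.leaf 98) (.leaf 209)) (.node 1 (.leaf 198) (.leaf 245))) (.node 2 (.node 1 (.leaf 100) (.leaf 164)) (.node 1 (.leaf 528) (.leaf 409)))) (.node 4 (.node 2 (.node 1 (.leaf 538) (.leaf 101)) (.node 1 (.leaf 420) (.leaf 545))) (.node 2 (.node 1 (.leaf 260) (.leaf 105)) (.node 1 (.leaf 188) (.leaf 273))))) (.node 8 (.node 4 (.node 2 (.node 1 (.leaf 498) (.leaf 207)) (.node 1 (.leaf 199) (.leaf 432))) (.node 2 (.node 1 (.leaf 149) (.leaf 107)) (.node 1 (.leaf 558) (.leaf 333)))) (.node 4 (.node 2 (.node 1 (.leaf 329) (.leaf 564)) (.node 1 (.leaf 132) (.leaf 110))) (.node 2 (.node 1 (.leaf 444) (.leaf 340)) (.node 1 (.leaf 212) (.leaf 111))))))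
def pre4_9 : T := (.node 16 (.node 8 (.node 4 (.node 2 (.node 1 (.leaf 493) (.leaf 377)) (.node 1 (.leaf 284) (.leaf 369))) (.node 2 (.node 1 (.leaf 323) (.leaf 291)) (.node 1 (.leaf 113) (.leaf 580)))) (.node 4 (.node 2 (.node 1 (.leaf 204) (.leaf 294)) (.node 1 (.leaf 473) (.leaf 343))) (.node 2 (.node 1 (.leaf 115) (.leaf 588)) (.node 1 (.leaf 425) (.leaf 252))))) (.node 8 (.node 4 (.node 2 (.node 1 (.leaf 549) (.leaf 117)) (.node 1 (.leaf 592) (.leaf 186))) (.node 2 (.node 1 (.leaf 559) (.leaf 536)) (.node 1 (.leaf 120) (.leaf 605)))) (.node 4 (.node 2 (.node 1 (.leaf 148) (.leaf 302)) (.node 1 (.leaf 123) (.leaf 490))) (.node 2 (.node 1 (.leaf 608) (.leaf 615)) (.node 1 (.leaf 516) (.leaf 125))))))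
def pre4_10 : T := (.node 16 (.node 8 (.node 4 (.node 2 (.node 1 (.leaf 620) (.leaf 180)) (.node 1 (.leaf 624) (.leaf 345))) (.node 2 (.node 1 (.leaf 279) (.leaf 128)) (.node 1 (.leaf 629) (.leaf 282)))) (.node 4 (.node 2 (.node 1 (.leaf 471) (.leaf 327)) (.node 1 (.leaf 298) (.leaf 339))) (.node 2 (.node 1 (.leaf 469) (.leaf 577)) (.node 1 (.leaf 427) (.leaf 134))))) (.node 8 (.node 4 (.node 2 (.node 1 (.leaf 640) (.leaf 226)) (.node 1 (.leaf 135) (.leaf 446))) (.node 2 (.node 1 (.leaf 213) (.leaf 312)) (.node 1 (.leaf 147) (.leaf 463)))) (.node 4 (.node 2 (.node 1 (.leaf 141) (.leaf 561)) (.node 1 (.leaf 342) (.leaf 647))) (.node 2 (.node 1 (.leaf 649) (.leaf 485)) (.node 1 (.leaf 331) (.leaf 142))))))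
def pre4_11 : T := (.node 16 (.node 8 (.node 4 (.node 2 (.node 1 (.leaf 655) (.leaf 286)) (.node 1 (.leaf 595) (.leaf 659))) (.node 2 (.node 1 (.leaf 589) (.leaf 266)) (.node 1 (.leaf 145) (.leaf 544)))) (.node 4 (.node 2 (.node 1 (.leaf 353) (.leaf 482)) (.node 1 (.leaf 671) (.leaf 289))) (.node 2 (.node 1 (.leaf 155) (.leaf 150)) (.node 1 (.leaf 396) (.leaf 297))))) (.node 8 (.node 4 (.node 2 (.node 1 (.leaf 675) (.leaf 367)) (.node 1 (.leaf 152) (.leaf 230))) (.node 2 (.node 1 (.leaf 679) (.leaf 456)) (.node 1 (.leaf 556) (.leaf 684)))) (.node 4 (.node 2 (.node 1 (.leaf 361) (.leaf 277)) (.node 1 (.leaf 661) (.leaf 692))) (.node 2 (.node 1 (.leaf 695) (.leaf 668)) (.node 1 (.leaf 157) (.leaf 380))))))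
def pre4_12 : T := (.node 16 (.node 8 (.node 4 (.node 2 (.node 1 (.leaf 472) (.leaf 391)) (.node 1 (.leaf 704) (.leaf 169))) (.node 2 (.node 1 (.leaf 181) (.leaf 165)) (.node 1 (.leaf 706) (.leaf 171)))) (.node 4 (.node 2 (.node 1 (.leaf 504) (.leaf 709)) (.node 1 (.leaf 714) (.leaf 717))) (.node 2 (.node 1 (.leaf 719) (.leaf 168)) (.node 1 (.leaf 721) (.leaf 314))))) (.node 8 (.node 4 (.node 2 (.node 1 (.leaf 725) (.leaf 598)) (.node 1 (.leaf 730) (.leaf 278))) (.node 2 (.node 1 (.leaf 173) (.leaf 735)) (.node 1 (.leaf 310) (.leaf 740)))) (.node 4 (.node 2 (.node 1 (.leaf 532) (.leaf 602)) (.node 1 (.leaf 743) (.leaf 175))) (.node 2 (.node 1 (.leaf 744) (.leaf 354)) (.node 1 (.leaf 176) (.leaf 750))))))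
def pre4_13 : T := (.node 16 (.node 8 (.node 4 (.node 2 (.node 1 (.leaf 408) (.leaf 414)) (.node 1 (.leaf 177) (.leaf 757))) (.node 2 (.node 1 (.leaf 758) (.leaf 742)) (.node 1 (.leaf 760) (.leaf 763)))) (.node 4 (.node 2 (.node 1 (.leaf 178) (.leaf 448)) (.node 1 (.leaf 254) (.leaf 436))) (.node 2 (.node 1 (.leaf 192) (.leaf 769)) (.node 1 (.leaf 494) (.leaf 519))))) (.node 8 (.node 4 (.node 2 (.node 1 (.leaf 256) (.leaf 533)) (.node 1 (.leaf 305) (.leaf 618))) (.node 2 (.node 1 (.leaf 195) (.leaf 462)) (.node 1 (.leaf 501) (.leaf 190)))) (.node 4 (.node 2 (.node 1 (.leaf 321) (.leaf 497)) (.node 1 (.leaf 525) (.leaf 200))) (.node 2 (.node 1 (.leaf 215) (.leaf 571)) (.node 1 (.leaf 196) (.leaf 491))))))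
def pre4_14 : T := (.node 16 (.node 8 (.node 4 (.node 2 (.node 1 (.leaf 257) (.leaf 786)) (.node 1 (.leaf 451) (.leaf 789))) (.node 2 (.node 1 (.leaf 202) (.leaf 796)) (.node 1 (.leaf 798) (.leaf 457)))) (.node 4 (.node 2 (.node 1 (.leaf 365) (.leaf 804)) (.node 1 (.leaf 352) (.leaf 232))) (.node 2 (.node 1 (.leaf 586) (.leaf 460)) (.node 1 (.leaf 811) (.leaf 459))))) (.node 8 (.node 4 (.node 2 (.node 1 (.leaf 814) (.leaf 820)) (.node 1 (.leaf 648) (.leaf 687))) (.node 2 (.node 1 (.leaf 214) (.leaf 830)) (.node 1 (.leaf 362) (.leaf 227)))) (.node 4 (.node 2 (.node 1 (.leaf 650) (.leaf 633)) (.node 1 (.leaf 562) (.leaf 642))) (.node 2 (.node 1 (.leaf 711) (.leaf 686)) (.node 1 (.leaf 683) (.leaf 225))))))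
def pre4_15 : T := (.node 16 (.node 8 (.node 4 (.node 2 (.node 1 (.leaf 842) (.leaf 349)) (.node 1 (.leaf 364) (.leaf 292))) (.node 2 (.node 1 (.leaf 229) (.leaf 325)) (.node 1 (.leaf 613) (.leaf 846)))) (.node 4 (.node 2 (.node 1 (.leaf 514) (.leaf 246)) (.node 1 (.leaf 244) (.leaf 233))) (.node 2 (.node 1 (.leaf 236) (.leaf 851)) (.node 1 (.leaf 255) (.leaf 720))))) (.node 8 (.node 4 (.node 2 (.node 1 (.leaf 579) (.leaf 858)) (.node 1 (.leaf 238) (.leaf 864))) (.node 2 (.node 1 (.leaf 726) (.leaf 399)) (.node 1 (.leaf 868) (.leaf 871)))) (.node 4 (.node 2 (.node 1 (.leaf 784) (.leaf 242)) (.node 1 (.leaf 529) (.leaf 708))) (.node 2 (.node 1 (.leaf 520) (.leaf 315)) (.node 1 (.leaf 505) (.leaf 523))))))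
def pre4_16 : T := (.node 16 (.node 8 (.node 4 (.node 2 (.node 1 (.leaf 835) (.leaf 509)) (.node 1 (.leaf 259) (.leaf 880))) (.node 2 (.node 1 (.leaf 617) (.leaf 882)) (.node 1 (.leaf 320) (.leaf 250)))) (.node 4 (.node 2 (.node 1 (.leaf 780) (.leaf 566)) (.node 1 (.leaf 886) (.leaf 513))) (.node 2 (.node 1 (.leaf 888) (.leaf 268)) (.node 1 (.leaf 847) (.leaf 666))))) (.node 8 (.node 4 (.node 2 (.node 1 (.leaf 688) (.leaf 689)) (.node 1 (.leaf 599) (.leaf 262))) (.node 2 (.node 1 (.leaf 411) (.leaf 358)) (.node 1 (.leaf 694) (.leaf 603)))) (.node 4 (.node 2 (.node 1 (.leaf 698) (.leaf 527)) (.node 1 (.leaf 555) (.leaf 264))) (.node 2 (.node 1 (.leaf 896) (.leaf 535)) (.node 1 (.leaf 265) (.leaf 424))))))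
def pre4_17 : T := (.node 16 (.node 8 (.node 4 (.node 2 (.node 1 (.leaf 619) (.leaf 601)) (.node 1 (.leaf 382) (.leaf 267))) (.node 2 (.node 1 (.leaf 902) (.leaf 307)) (.node 1 (.leaf 862) (.leaf 906)))) (.node 4 (.node 2 (.node 1 (.leaf 272) (.leaf 677)) (.node 1 (.leaf 911) (.leaf 541))) (.node 2 (.node 1 (.leaf 376) (.leaf 548)) (.node 1 (.leaf 759) (.leaf 733))))) (.node 8 (.node 4 (.node 2 (.node 1 (.leaf 833) (.leaf 627)) (.node 1 (.leaf 347) (.leaf 900))) (.node 2 (.node 1 (.leaf 829) (.leaf 594)) (.node 1 (.leaf 281) (.leaf 636)))) (.node 4 (.node 2 (.node 1 (.leaf 845) (.leaf 484)) (.node 1 (.leaf 922) (.leaf 350))) (.node 2 (.node 1 (.leaf 852) (.leaf 749)) (.node 1 (.leaf 288) (.leaf 928))))))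
def pre4_18 : T := (.node 16 (.node 8 (.node 4 (.node 2 (.node 1 (.leaf 637) (.leaf 569)) (.node 1 (.leaf 929) (.leaf 908))) (.node 2 (.node 1 (.leaf 933) (.leaf 808)) (.node 1 (.leaf 806) (.leaf 295)))) (.node 4 (.node 2 (.node 1 (.leaf 390) (.leaf 626)) (.node 1 (.leaf 360) (.leaf 899))) (.node 2 (.node 1 (.leaf 660) (.leaf 301)) (.node 1 (.leaf 913) (.leaf 752))))) (.node 8 (.node 4 (.node 2 (.node 1 (.leaf 892) (.leaf 521)) (.node 1 (.leaf 306) (.leaf 741))) (.node 2 (.node 1 (.leaf 731) (.leaf 403)) (.node 1 (.leaf 308) (.leaf 762)))) (.node 4 (.node 2 (.node 1 (.leaf 542) (.leaf 696)) (.node 1 (.leaf 600) (.leaf 539))) (.node 2 (.node 1 (.leaf 826) (.leaf 856)) (.node 1 (.leaf 311) (.leaf 723))))))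
def pre4_19 : T := (.node 16 (.node 8 (.node 4 (.node 2 (.node 1 (.leaf 795) (.leaf 622)) (.node 1 (.leaf 881) (.leaf 316))) (.node 2 (.node 1 (.leaf 951) (.leaf 729)) (.node 1 (.leaf 952) (.leaf 435)))) (.node 4 (.node 2 (.node 1 (.leaf 431) (.leaf 632)) (.node 1 (.leaf 621) (.leaf 755))) (.node 2 (.node 1 (.leaf 616) (.leaf 319)) (.node 1 (.leaf 639) (.leaf 954))))) (.node 8 (.node 4 (.node 2 (.node 1 (.leaf 481) (.leaf 483)) (.node 1 (.leaf 936) (.leaf 625))) (.node 2 (.node 1 (.leaf 785) (.leaf 368)) (.node 1 (.leaf 960) (.leaf 326)))) (.node 4 (.node 2 (.node 1 (.leaf 794) (.leaf 653)) (.node 1 (.leaf 782) (.leaf 332))) (.node 2 (.node 1 (.leaf 931) (.leaf 722)) (.node 1 (.leaf 877) (.leaf 949))))))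
def pre4_20 : T := (.node 16 (.node 8 (.node 4 (.node 2 (.node 1 (.leaf 972) (.leaf 475)) (.node 1 (.leaf 336) (.leaf 585))) (.node 2 (.node 1 (.leaf 700) (.leaf 479)) (.node 1 (.leaf 386) (.leaf 351)))) (.node 4 (.node 2 (.node 1 (.leaf 604) (.leaf 657)) (.node 1 (.leaf 348) (.leaf 894))) (.node 2 (.node 1 (.leaf 678) (.leaf 371)) (.node 1 (.leaf 779) (.leaf 983))))) (.node 8 (.node 4 (.node 2 (.node 1 (.leaf 813) (.leaf 701)) (.node 1 (.leaf 788) (.leaf 773))) (.node 2 (.node 1 (.leaf 734) (.leaf 739)) (.node 1 (.leaf 356) (.leaf 792)))) (.node 4 (.node 2 (.node 1 (.leaf 357) (.leaf 985)) (.node 1 (.leaf 359) (.leaf 664))) (.node 2 (.node 1 (.leaf 547) (.leaf 987)) (.node 1 (.leaf 988) (.leaf 500))))))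
def pre4_21 : T := (.node 16 (.node 8 (.node 4 (.node 2 (.node 1 (.leaf 718) (.leaf 366)) (.node 1 (.leaf 876) (.leaf 994))) (.node 2 (.node 1 (.leaf 809) (.leaf 751)) (.node 1 (.leaf 956) (.leaf 534)))) (.node 4 (.node 2 (.node 1 (.leaf 372) (.leaf 713)) (.node 1 (.leaf 575) (.leaf 710))) (.node 2 (.node 1 (.leaf 607) (.leaf 645)) (.node 1 (.leaf 375) (.leaf 822))))) (.node 8 (.node 4 (.node 2 (.node 1 (.leaf 999) (.leaf 945)) (.node 1 (.leaf 378) (.leaf 903))) (.node 2 (.node 1 (.leaf 587) (.leaf 699)) (.node 1 (.leaf 953) (.leaf 946)))) (.node 4 (.node 2 (.node 1 (.leaf 381) (.leaf 693)) (.node 1 (.leaf 738) (.leaf 383))) (.node 2 (.node 1 (.leaf 582) (.leaf 384)) (.node 1 (.leaf 787) (.leaf 947))))))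
def pre4_22 : T := (.node 16 (.node 8 (.node 4 (.node 2 (.node 1 (.leaf 736) (.leaf 853)) (.node 1 (.leaf 495) (.leaf 832))) (.node 2 (.node 1 (.leaf 392) (.leaf 980)) (.node 1 (.leaf 836) (.leaf 839)))) (.node 4 (.node 2 (.node 1 (.leaf 768) (.leaf 1006)) (.node 1 (.leaf 576) (.leaf 672))) (.node 2 (.node 1 (.leaf 997) (.leaf 398)) (.node 1 (.leaf 395) (.leaf 716))))) (.node 8 (.node 4 (.node 2 (.node 1 (.leaf 897) (.leaf 715)) (.node 1 (.leaf 397) (.leaf 837))) (.node 2 (.node 1 (.leaf 810) (.leaf 470)) (.node 1 (.leaf 400) (.leaf 805)))) (.node 4 (.node 2 (.node 1 (.leaf 943) (.leaf 596)) (.node 1 (.leaf 486) (.leaf 402))) (.node 2 (.node 1 (.leaf 597) (.leaf 404)) (.node 1 (.leaf 662) (.leaf 965))))))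
def pre4_23 : T := (.node 16 (.node 8 (.node 4 (.node 2 (.node 1 (.leaf 405) (.leaf 468)) (.node 1 (.leaf 406) (.leaf 530))) (.node 2 (.node 1 (.leaf 748) (.leaf 417)) (.node 1 (.leaf 1012) (.leaf 416)))) (.node 4 (.node 2 (.node 1 (.leaf 761) (.leaf 728)) (.node 1 (.leaf 412) (.leaf 969))) (.node 2 (.node 1 (.leaf 418) (.leaf 1016)) (.node 1 (.leaf 770) (.leaf 1017))))) (.node 8 (.node 4 (.node 2 (.node 1 (.leaf 963) (.leaf 415)) (.node 1 (.leaf 912) (.leaf 537))) (.node 2 (.node 1 (.leaf 419) (.leaf 663)) (.node 1 (.leaf 874) (.leaf 942)))) (.node 4 (.node 2 (.node 1 (.leaf 870) (.leaf 422)) (.node 1 (.leaf 690) (.leaf 745))) (.node 2 (.node 1 (.leaf 423) (.leaf 764)) (.node 1 (.leaf 565) (.leaf 1009))))))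
def pre4_24 : T := (.node 16 (.node 8 (.node 4 (.node 2 (.node 1 (.leaf 1023) (.leaf 916)) (.node 1 (.leaf 429) (.leaf 970))) (.node 2 (.node 1 (.leaf 641) (.leaf 433)) (.node 1 (.leaf 610) (.leaf 583)))) (.node 4 (.node 2 (.node 1 (.leaf 437) (.leaf 1008)) (.node 1 (.leaf 767) (.leaf 441))) (.node 2 (.node 1 (.leaf 489) (.leaf 443)) (.node 1 (.leaf 1025) (.leaf 930))))) (.node 8 (.node 4 (.node 2 (.node 1 (.leaf 850) (.leaf 1013)) (.node 1 (.leaf 487) (.leaf 449))) (.node 2 (.node 1 (.leaf 506) (.leaf 790)) (.node 1 (.leaf 781) (.leaf 507)))) (.node 4 (.node 2 (.node 1 (.leaf 891) (.leaf 453)) (.node 1 (.leaf 452) (.leaf 771))) (.node 2 (.node 1 (.leaf 609) (.leaf 909)) (.node 1 (.leaf 638) (.leaf 454))))))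
def pre4_25 : T := (.node 16 (.node 8 (.node 4 (.node 2 (.node 1 (.leaf 554) (.leaf 455)) (.node 1 (.leaf 572) (.leaf 691))) (.node 2 (.node 1 (.leaf 866) (.leaf 656)) (.node 1 (.leaf 934) (.leaf 775)))) (.node 4 (.node 2 (.node 1 (.leaf 458) (.leaf 961)) (.node 1 (.leaf 895) (.leaf 670))) (.node 2 (.node 1 (.leaf 885) (.leaf 778)) (.node 1 (.leaf 915) (.leaf 651))))) (.node 8 (.node 4 (.node 2 (.node 1 (.leaf 996) (.leaf 464)) (.node 1 (.leaf 1035) (.leaf 937))) (.node 2 (.node 1 (.leaf 703) (.leaf 875)) (.node 1 (.leaf 540) (.leaf 665)))) (.node 4 (.node 2 (.node 1 (.leaf 466) (.leaf 467)) (.node 1 (.leaf 821) (.leaf 825))) (.node 2 (.node 1 (.leaf 860) (.leaf 940)) (.node 1 (.leaf 568) (.leaf 560))))))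
def pre4_26 : T := (.node 16 (.node 8 (.node 4 (.node 2 (.node 1 (.leaf 977) (.leaf 1022)) (.node 1 (.leaf 611) (.leaf 799))) (.node 2 (.node 1 (.leaf 476) (.leaf 477)) (.node 1 (.leaf 840) (.leaf 478)))) (.node 4 (.node 2 (.node 1 (.leaf 989) (.leaf 480)) (.node 1 (.leaf 838) (.leaf 917))) (.node 2 (.node 1 (.leaf 957) (.leaf 967)) (.node 1 (.leaf 872) (.leaf 510))))) (.node 8 (.node 4 (.node 2 (.node 1 (.leaf 879) (.leaf 515)) (.node 1 (.leaf 791) (.leaf 1034))) (.node 2 (.node 1 (.leaf 918) (.leaf 923)) (.node 1 (.leaf 669) (.leaf 831)))) (.node 4 (.node 2 (.node 1 (.leaf 551) (.leaf 1038)) (.node 1 (.leaf 828) (.leaf 756))) (.node 2 (.node 1 (.leaf 654) (.leaf 606)) (.node 1 (.leaf 724) (.leaf 920))))))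
def pre4_27 : T := (.node 16 (.node 8 (.node 4 (.node 2 (.node 1 (.leaf 925) (.leaf 499)) (.node 1 (.leaf 941) (.leaf 921))) (.node 2 (.node 1 (.leaf 1040) (.leaf 502)) (.node 1 (.leaf 746) (.leaf 526)))) (.node 4 (.node 2 (.node 1 (.leaf 702) (.leaf 531)) (.node 1 (.leaf 667) (.leaf 824))) (.node 2 (.node 1 (.leaf 1004) (.leaf 512)) (.node 1 (.leaf 801) (.leaf 1001))))) (.node 8 (.node 4 (.node 2 (.node 1 (.leaf 848) (.leaf 948)) (.node 1 (.leaf 884) (.leaf 517))) (.node 2 (.node 1 (.leaf 614) (.leaf 1037)) (.node 1 (.leaf 823) (.leaf 522)))) (.node 4 (.node 2 (.node 1 (.leaf 1005) (.leaf 1024)) (.node 1 (.leaf 524) (.leaf 859))) (.node 2 (.node 1 (.leaf 1021) (.leaf 658)) (.node 1 (.leaf 976) (.leaf 932))))))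
def pre4_28 : T := (.node 16 (.node 8 (.node 4 (.node 2 (.node 1 (.leaf 827) (.leaf 914)) (.node 1 (.leaf 543) (.leaf 546))) (.node 2 (.node 1 (.leaf 1003) (.leaf 966)) (.node 1 (.leaf 1014) (.leaf 993)))) (.node 4 (.node 2 (.node 1 (.leaf 550) (.leaf 1033)) (.node 1 (.leaf 861) (.leaf 958))) (.node 2 (.node 1 (.leaf 552) (.leaf 553)) (.node 1 (.leaf 628) (.leaf 992))))) (.node 8 (.node 4 (.node 2 (.node 1 (.leaf 557) (.leaf 812)) (.node 1 (.leaf 584) (.leaf 1031))) (.node 2 (.node 1 (.leaf 753) (.leaf 803)) (.node 1 (.leaf 563) (.leaf 1015)))) (.node 4 (.node 2 (.node 1 (.leaf 747) (.leaf 567)) (.node 1 (.leaf 981) (.leaf 570))) (.node 2 (.node 1 (.leaf 754) (.leaf 573)) (.node 1 (.leaf 574) (.leaf 889))))))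
def pre4_29 : T := (.node 16 (.node 8 (.node 4 (.node 2 (.node 1 (.leaf 681) (.leaf 1020)) (.node 1 (.leaf 578) (.leaf 978))) (.node 2 (.node 1 (.leaf 904) (.leaf 1000)) (.node 1 (.leaf 1010) (.leaf 581)))) (.node 4 (.node 2 (.node 1 (.leaf 844) (.leaf 777)) (.node 1 (.leaf 590) (.leaf 591))) (.node 2 (.node 1 (.leaf 593) (.leaf 878)) (.node 1 (.leaf 732) (.leaf 765))))) (.node 8 (.node 4 (.node 2 (.node 1 (.leaf 873) (.leaf 893)) (.node 1 (.leaf 697) (.leaf 737))) (.node 2 (.node 1 (.leaf 612) (.leaf 793)) (.node 1 (.leaf 774) (.leaf 950)))) (.node 4 (.node 2 (.node 1 (.leaf 1027) (.leaf 986)) (.node 1 (.leaf 982) (.leaf 783))) (.node 2 (.node 1 (.leaf 623) (.leaf 973)) (.node 1 (.leaf 1011) (.leaf 1026))))))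
def pre4_30 : T := (.node 16 (.node 8 (.node 4 (.node 2 (.node 1 (.leaf 901) (.leaf 630)) (.node 1 (.leaf 631) (.leaf 634))) (.node 2 (.node 1 (.leaf 926) (.leaf 646)) (.node 1 (.leaf 676) (.leaf 635)))) (.node 4 (.node 2 (.node 1 (.leaf 841) (.leaf 1041)) (.node 1 (.leaf 834) (.leaf 818))) (.node 2 (.node 1 (.leaf 772) (.leaf 643)) (.node 1 (.leaf 905) (.leaf 644))))) (.node 8 (.node 4 (.node 2 (.node 1 (.leaf 974) (.leaf 1028)) (.node 1 (.leaf 1039) (.leaf 652))) (.node 2 (.node 1 (.leaf 685) (.leaf 1002)) (.node 1 (.leaf 979) (.leaf 935)))) (.node 4 (.node 2 (.node 1 (.leaf 887) (.leaf 984)) (.node 1 (.leaf 680) (.leaf 707))) (.node 2 (.node 1 (.leaf 1030) (.leaf 968)) (.node 1 (.leaf 673) (.leaf 927))))))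
def pre4_31 : T := (.node 16 (.node 8 (.node 4 (.node 2 (.node 1 (.leaf 674) (.leaf 1018)) (.node 1 (.leaf 962) (.leaf 797))) (.node 2 (.node 1 (.leaf 855) (.leaf 990)) (.node 1 (.leaf 682) (.leaf 944)))) (.node 4 (.node 2 (.node 1 (.leaf 807) (.leaf 1032)) (.node 1 (.leaf 705) (.leaf 802))) (.node 2 (.node 1 (.leaf 800) (.leaf 712)) (.node 1 (.leaf 998) (.leaf 1042))))) (.node 8 (.node 4 (.node 2 (.node 1 (.leaf 907) (.leaf 727)) (.node 1 (.leaf 975) (.leaf 819))) (.node 2 (.node 1 (.leaf 898) (.leaf 971)) (.node 1 (.leaf 924) (.leaf 1036)))) (.node 4 (.node 2 (.node 1 (.leaf 865) (.leaf 995)) (.node 1 (.leaf 843) (.leaf 1007))) (.node 2 (.node 1 (.leaf 1043) (.leaf 766)) (.node 1 (.leaf 816) (.leaf 890))))))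
def pre4_32 : T := (.node 10 (.node 5 (.node 2 (.node 1 (.leaf 1019) (.leaf 939)) (.node 1 (.leaf 863) (.node 1 (.leaf 883) (.leaf 854)))) (.node 2 (.node 1 (.leaf 938) (.leaf 776)) (.node 1 (.leaf 857) (.node 1 (.leaf 849) (.leaf 815))))) (.node 5 (.node 2 (.node 1 (.leaf 964) (.leaf 910)) (.node 1 (.leaf 869) (.node 1 (.leaf 1029) (.leaf 817)))) (.node 3 (.node 1 (.leaf 867) (.node 1 (.leaf 919) (.leaf 959))) (.node 1 (.leaf 991) (.node 1 (.leaf 955) (.leaf 1044))))))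
/-- Packed data. -/
def pre4 : T := (.node 512 (.node 256 (.node 128 (.node 64 (.node 32 pre4_0 pre4_1) (.node 32 pre4_2 pre4_3)) (.node 64 (.node 32 pre4_4 pre4_5) (.node 32 pre4_6 pre4_7))) (.node 128 (.node 64 (.node 32 pre4_8 pre4_9) (.node 32 pre4_10 pre4_11)) (.node 64 (.node 32 pre4_12 pre4_13) (.node 32 pre4_14 pre4_15)))) (.node 256 (.node 128 (.node 64 (.node 32 pre4_16 pre4_17) (.node 32 pre4_18 pre4_19)) (.node 64 (.node 32 pre4_20 pre4_21) (.node 32 pre4_22 pre4_23))) (.node 128 (.node 64 (.node 32 pre4_24 pre4_25) (.node 32 pre4_26 pre4_27)) (.node 64 (.node 32 pre4_28 pre4_29) (.node 32 pre4_30 (.node 32 pre4_31 pre4_32))))))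
def ref4_0 : T := (.node 16 (.node 8 (.node 4 (.node 2 (.node 1 (.leaf 6) (.leaf 23)) (.node 1 (.leaf 37) (.leaf 69))) (.node 2 (.node 1 (.leaf 24) (.leaf 103)) (.node 1 (.leaf 129) (.leaf 64)))) (.node 4 (.node 2 (.node 1 (.leaf 54) (.leaf 191)) (.node 1 (.leaf 154) (.leaf 85))) (.node 2 (.node 1 (.leaf 92) (.leaf 237)) (.node 1 (.leaf 83) (.leaf 91))))) (.node 8 (.node 4 (.node 2 (.node 1 (.leaf 99) (.leaf 226)) (.node 1 (.leaf 112) (.leaf 343))) (.node 2 (.node 1 (.leaf 268) (.leaf 282)) (.node 1 (.leaf 330) (.leaf 383)))) (.node 4 (.node 2 (.node 1 (.leaf 167) (.leaf 175)) (.node 1 (.leaf 178) (.leaf 415))) (.node 2 (.node 1 (.leaf 437) (.leaf 449)) (.node 1 (.leaf 459) (.leaf 206))))))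
def ref4_1 : T := (.node 16 (.node 8 (.node 4 (.node 2 (.node 1 (.leaf 491) (.leaf 230)) (.node 1 (.leaf 223) (.leaf 519))) (.node 2 (.node 1 (.leaf 553) (.leaf 1476)) (.node 1 (.leaf 1434) (.leaf 252)))) (.node 4 (.node 2 (.node 1 (.leaf 629) (.leaf 270)) (.node 1 (.leaf 285) (.leaf 645))) (.node 2 (.node 1 (.leaf 309) (.leaf 673)) (.node 1 (.leaf 333) (.leaf 703))))) (.node 8 (.node 4 (.node 2 (.node 1 (.leaf 1451) (.leaf 1440)) (.node 1 (.leaf 1458) (.leaf 366))) (.node 2 (.node 1 (.leaf 815) (.leaf 819)) (.node 1 (.leaf 843) (.leaf 855)))) (.node 4 (.node 2 (.node 1 (.leaf 865) (.leaf 398)) (.node 1 (.leaf 901) (.leaf 913))) (.node 2 (.node 1 (.leaf 941) (.leaf 971)) (.node 1 (.leaf 987) (.leaf 426))))))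
def ref4_2 : T := (.node 16 (.node 8 (.node 4 (.node 2 (.node 1 (.leaf 1035) (.leaf 1057)) (.node 1 (.leaf 1085) (.leaf 1103))) (.node 2 (.node 1 (.leaf 1119) (.leaf 1141)) (.node 1 (.leaf 1169) (.leaf 452)))) (.node 4 (.node 2 (.node 1 (.leaf 1187) (.leaf 461)) (.node 1 (.leaf 462) (.leaf 1235))) (.node 2 (.node 1 (.leaf 471) (.leaf 477)) (.node 1 (.leaf 478) (.leaf 1311))))) (.node 8 (.node 4 (.node 2 (.node 1 (.leaf 1327) (.leaf 1355)) (.node 1 (.leaf 1371) (.leaf 1391))) (.node 2 (.node 1 (.leaf 510) (.leaf 2342)) (.node 1 (.leaf 1514) (.leaf 1529)))) (.node 4 (.node 2 (.node 1 (.leaf 1493) (.leaf 534)) (.node 1 (.leaf 1659) (.leaf 1675))) (.node 2 (.node 1 (.leaf 1697) (.leaf 1487)) (.node 1 (.leaf 1723) (.leaf 1735))))))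
def ref4_3 : T := (.node 16 (.node 8 (.node 4 (.node 2 (.node 1 (.leaf 1513) (.leaf 568)) (.node 1 (.leaf 1789) (.leaf 588))) (.node 2 (.node 1 (.leaf 1495) (.leaf 1837)) (.node 1 (.leaf 611) (.leaf 619)))) (.node 4 (.node 2 (.node 1 (.leaf 620) (.leaf 1907)) (.node 1 (.leaf 1929) (.leaf 1957))) (.node 2 (.node 1 (.leaf 2366) (.leaf 2430)) (.node 1 (.leaf 658) (.leaf 2031))))) (.node 8 (.node 4 (.node 2 (.node 1 (.leaf 2063) (.leaf 2081)) (.node 1 (.leaf 686) (.leaf 2133))) (.node 2 (.node 1 (.leaf 1098) (.leaf 2179)) (.node 1 (.leaf 1882) (.leaf 726)))) (.node 4 (.node 2 (.node 1 (.leaf 2229) (.leaf 1624)) (.node 1 (.leaf 1634) (.leaf 1900))) (.node 2 (.node 1 (.leaf 778) (.leaf 2523)) (.node 1 (.leaf 1470) (.leaf 1075))))))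
def ref4_4 : T := (.node 16 (.node 8 (.node 4 (.node 2 (.node 1 (.leaf 2553) (.leaf 2465)) (.node 1 (.leaf 816) (.leaf 2379))) (.node 2 (.node 1 (.leaf 2295) (.leaf 832)) (.node 1 (.leaf 2419) (.leaf 2390)))) (.node 4 (.node 2 (.node 1 (.leaf 2715) (.leaf 2749)) (.node 1 (.leaf 2763) (.leaf 2344))) (.node 2 (.node 1 (.leaf 2314) (.leaf 858)) (.node 1 (.leaf 2322) (.leaf 867))))) (.node 8 (.node 4 (.node 2 (.node 1 (.leaf 868) (.leaf 2827)) (.node 1 (.leaf 877) (.leaf 883))) (.node 2 (.node 1 (.leaf 884) (.leaf 2877)) (.node 1 (.leaf 2450) (.leaf 2395)))) (.node 4 (.node 2 (.node 1 (.leaf 902) (.leaf 2313)) (.node 1 (.leaf 2975) (.leaf 2979))) (.node 2 (.node 1 (.leaf 922) (.leaf 3033)) (.node 1 (.leaf 1954) (.leaf 3077))))))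
def ref4_5 : T := (.node 16 (.node 8 (.node 4 (.node 2 (.node 1 (.leaf 1826) (.leaf 1564)) (.node 1 (.leaf 1162) (.leaf 3093))) (.node 2 (.node 1 (.leaf 974) (.leaf 3143)) (.node 1 (.leaf 993) (.leaf 994)))) (.node 4 (.node 2 (.node 1 (.leaf 3197) (.leaf 1011)) (.node 1 (.leaf 1017) (.leaf 1022))) (.node 2 (.node 1 (.leaf 2287) (.leaf 3241)) (.node 1 (.leaf 3263) (.leaf 3275))))) (.node 8 (.node 4 (.node 2 (.node 1 (.leaf 3285) (.leaf 1050)) (.node 1 (.leaf 3317) (.leaf 3351))) (.node 2 (.node 1 (.leaf 3375) (.leaf 1714)) (.node 1 (.leaf 1068) (.leaf 3387)))) (.node 4 (.node 2 (.node 1 (.leaf 1212) (.leaf 1113)) (.node 1 (.leaf 3425) (.leaf 1110))) (.node 2 (.node 1 (.leaf 3471) (.leaf 1121)) (.node 1 (.leaf 1654) (.leaf 3503))))))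
def ref4_6 : T := (.node 16 (.node 8 (.node 4 (.node 2 (.node 1 (.leaf 1152) (.leaf 3529)) (.node 1 (.leaf 1171) (.leaf 2173))) (.node 2 (.node 1 (.leaf 3569) (.leaf 1570)) (.node 1 (.leaf 1200) (.leaf 1202)))) (.node 4 (.node 2 (.node 1 (.leaf 3611) (.leaf 1215)) (.node 1 (.leaf 11728) (.leaf 1227))) (.node 2 (.node 1 (.leaf 2944) (.leaf 2473)) (.node 1 (.leaf 2433) (.leaf 1271))))) (.node 8 (.node 4 (.node 2 (.node 1 (.leaf 3490) (.leaf 1307)) (.node 1 (.leaf 1320) (.leaf 2496))) (.node 2 (.node 1 (.leaf 3695) (.leaf 1344)) (.node 1 (.leaf 3735) (.leaf 2505)))) (.node 4 (.node 2 (.node 1 (.leaf 2696) (.leaf 2346)) (.node 1 (.leaf 5889) (.leaf 2396))) (.node 2 (.node 1 (.leaf 2693) (.leaf 1374)) (.node 1 (.leaf 3809) (.leaf 1393))))))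
def ref4_7 : T := (.node 16 (.node 8 (.node 4 (.node 2 (.node 1 (.leaf 1394) (.leaf 9321)) (.node 1 (.leaf 1403) (.leaf 1409))) (.node 2 (.node 1 (.leaf 1410) (.leaf 2586)) (.node 1 (.leaf 2634) (.leaf 1598)))) (.node 4 (.node 2 (.node 1 (.leaf 2377) (.leaf 3949)) (.node 1 (.leaf 3979) (.leaf 2672))) (.node 2 (.node 1 (.leaf 1636) (.leaf 1638)) (.node 1 (.leaf 4021) (.leaf 1651))))) (.node 8 (.node 4 (.node 2 (.node 1 (.leaf 1652) (.leaf 1661)) (.node 1 (.leaf 4075) (.leaf 4095))) (.node 2 (.node 1 (.leaf 4105) (.leaf 11637)) (.node 1 (.leaf 1690) (.leaf 3102)))) (.node 4 (.node 2 (.node 1 (.leaf 3158) (.leaf 1704)) (.node 1 (.leaf 4157) (.leaf 1725))) (.node 2 (.node 1 (.leaf 3117) (.leaf 1737)) (.node 1 (.leaf 1752) (.leaf 1801))))))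
def ref4_8 : T := (.node 16 (.node 8 (.node 4 (.node 2 (.node 1 (.leaf 1773) (.leaf 1785)) (.node 1 (.leaf 1795) (.leaf 11471))) (.node 2 (.node 1 (.leaf 1811) (.leaf 1829)) (.node 1 (.leaf 4261) (.leaf 10025)))) (.node 4 (.node 2 (.node 1 (.leaf 4305) (.leaf 1846)) (.node 1 (.leaf 10123) (.leaf 4345))) (.node 2 (.node 1 (.leaf 1869) (.leaf 1887)) (.node 1 (.leaf 1903) (.leaf 1920))))) (.node 8 (.node 4 (.node 2 (.node 1 (.leaf 10935) (.leaf 1924)) (.node 1 (.leaf 1931) (.leaf 3402))) (.node 2 (.node 1 (.leaf 2368) (.leaf 1962)) (.node 1 (.leaf 4463) (.leaf 2658)))) (.node 4 (.node 2 (.node 1 (.leaf 2622) (.leaf 4515)) (.node 1 (.leaf 2292) (.leaf 2018))) (.node 2 (.node 1 (.leaf 3565) (.leaf 2727)) (.node 1 (.leaf 2336) (.leaf 2048))))))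
def ref4_9 : T := (.node 16 (.node 8 (.node 4 (.node 2 (.node 1 (.leaf 7216) (.leaf 3022)) (.node 1 (.leaf 2499) (.leaf 2941))) (.node 2 (.node 1 (.leaf 2577) (.leaf 2083)) (.node 1 (.leaf 2084) (.leaf 4663)))) (.node 4 (.node 2 (.node 1 (.leaf 2480) (.leaf 2101)) (.node 1 (.leaf 3796) (.leaf 2747))) (.node 2 (.node 1 (.leaf 2134) (.leaf 4711)) (.node 1 (.leaf 3349) (.leaf 2177))))) (.node 8 (.node 4 (.node 2 (.node 1 (.leaf 4380) (.leaf 2192)) (.node 1 (.leaf 4741) (.leaf 2223))) (.node 2 (.node 1 (.leaf 8760) (.leaf 4298)) (.node 1 (.leaf 2230) (.leaf 4821)))) (.node 4 (.node 2 (.node 1 (.leaf 2358) (.leaf 2265)) (.node 1 (.leaf 2506) (.leaf 11444))) (.node 2 (.node 1 (.leaf 4843) (.leaf 4877)) (.node 1 (.leaf 9495) (.leaf 2532))))))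
def ref4_10 : T := (.node 16 (.node 8 (.node 4 (.node 2 (.node 1 (.leaf 9478) (.leaf 2551)) (.node 1 (.leaf 4947) (.leaf 2758))) (.node 2 (.node 1 (.leaf 2583) (.leaf 2590)) (.node 1 (.leaf 5005) (.leaf 2613)))) (.node 4 (.node 2 (.node 1 (.leaf 5886) (.leaf 2625)) (.node 1 (.leaf 2633) (.leaf 5915))) (.node 2 (.node 1 (.leaf 12299) (.leaf 4647)) (.node 1 (.leaf 3366) (.leaf 2670))))) (.node 8 (.node 4 (.node 2 (.node 1 (.leaf 5115) (.leaf 2691)) (.node 1 (.leaf 2694) (.leaf 5912))) (.node 2 (.node 1 (.leaf 2725) (.leaf 2717)) (.node 1 (.leaf 2735) (.leaf 3726)))) (.node 4 (.node 2 (.node 1 (.leaf 2751) (.leaf 4492)) (.node 1 (.leaf 2765) (.leaf 5199))) (.node 2 (.node 1 (.leaf 5207) (.leaf 3926)) (.node 1 (.leaf 2800) (.leaf 2804))))))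
def ref4_11 : T := (.node 16 (.node 8 (.node 4 (.node 2 (.node 1 (.leaf 5261) (.leaf 2819)) (.node 1 (.leaf 10512) (.leaf 5309))) (.node 2 (.node 1 (.leaf 10379) (.leaf 10422)) (.node 1 (.leaf 2842) (.leaf 10482)))) (.node 4 (.node 2 (.node 1 (.leaf 2859) (.leaf 3872)) (.node 1 (.leaf 5391) (.leaf 2886))) (.node 2 (.node 1 (.leaf 2905) (.leaf 2908)) (.node 1 (.leaf 6022) (.leaf 2929))))) (.node 8 (.node 4 (.node 2 (.node 1 (.leaf 5425) (.leaf 2939)) (.node 1 (.leaf 2942) (.leaf 2962))) (.node 2 (.node 1 (.leaf 5463) (.leaf 3654)) (.node 1 (.leaf 4450) (.leaf 5497)))) (.node 4 (.node 2 (.node 1 (.leaf 3011) (.leaf 3019)) (.node 1 (.leaf 10560) (.leaf 5575))) (.node 2 (.node 1 (.leaf 5631) (.leaf 10614)) (.node 1 (.leaf 3056) (.leaf 5600))))))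
def ref4_12 : T := (.node 16 (.node 8 (.node 4 (.node 2 (.node 1 (.leaf 10747) (.leaf 3180)) (.node 1 (.leaf 5721) (.leaf 3095))) (.node 2 (.node 1 (.leaf 3153) (.leaf 3156)) (.node 1 (.leaf 5735) (.leaf 3183)))) (.node 4 (.node 2 (.node 1 (.leaf 11429) (.leaf 5767)) (.node 1 (.leaf 5805) (.leaf 5813))) (.node 2 (.node 1 (.leaf 5831) (.leaf 3212)) (.node 1 (.leaf 5855) (.leaf 3234))))) (.node 8 (.node 4 (.node 2 (.node 1 (.leaf 6053) (.leaf 10166)) (.node 1 (.leaf 6115) (.leaf 9950))) (.node 2 (.node 1 (.leaf 3252) (.leaf 6179)) (.node 1 (.leaf 9853) (.leaf 6223)))) (.node 4 (.node 2 (.node 1 (.leaf 10139) (.leaf 9844)) (.node 1 (.leaf 6293) (.leaf 3278))) (.node 2 (.node 1 (.leaf 6303) (.leaf 10515)) (.node 1 (.leaf 3288) (.leaf 6349))))))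
def ref4_13 : T := (.node 16 (.node 8 (.node 4 (.node 2 (.node 1 (.leaf 3297) (.leaf 3303)) (.node 1 (.leaf 3304) (.leaf 6425))) (.node 2 (.node 1 (.leaf 6451) (.leaf 6286)) (.node 1 (.leaf 6517) (.leaf 6549)))) (.node 4 (.node 2 (.node 1 (.leaf 3336) (.leaf 11101)) (.node 1 (.leaf 3353) (.leaf 3452))) (.node 2 (.node 1 (.leaf 3377) (.leaf 6631)) (.node 1 (.leaf 4006) (.leaf 11739))))) (.node 8 (.node 4 (.node 2 (.node 1 (.leaf 3409) (.leaf 10119)) (.node 1 (.leaf 3437) (.leaf 11734))) (.node 2 (.node 1 (.leaf 3457) (.leaf 11341)) (.node 1 (.leaf 4060) (.leaf 3488)))) (.node 4 (.node 2 (.node 1 (.leaf 3505) (.leaf 10933)) (.node 1 (.leaf 4224) (.leaf 11619))) (.node 2 (.node 1 (.leaf 3562) (.leaf 4584)) (.node 1 (.leaf 3580) (.leaf 11634))))))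
def ref4_14 : T := (.node 16 (.node 8 (.node 4 (.node 2 (.node 1 (.leaf 11098) (.leaf 6835)) (.node 1 (.leaf 11611) (.leaf 11602))) (.node 2 (.node 1 (.leaf 3628) (.leaf 6949)) (.node 1 (.leaf 6959) (.leaf 8986)))) (.node 4 (.node 2 (.node 1 (.leaf 3659) (.leaf 6983)) (.node 1 (.leaf 11377) (.leaf 3685))) (.node 2 (.node 1 (.leaf 4698) (.leaf 3705)) (.node 1 (.leaf 7045) (.leaf 3729))))) (.node 8 (.node 4 (.node 2 (.node 1 (.leaf 7067) (.leaf 7093)) (.node 1 (.leaf 12180) (.leaf 11272))) (.node 2 (.node 1 (.leaf 3750) (.leaf 7147)) (.node 1 (.leaf 12249) (.leaf 3775)))) (.node 4 (.node 2 (.node 1 (.leaf 12446) (.leaf 5070)) (.node 1 (.leaf 4502) (.leaf 9536))) (.node 2 (.node 1 (.leaf 9322) (.leaf 9318)) (.node 1 (.leaf 9328) (.leaf 3846))))))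
def ref4_15 : T := (.node 16 (.node 8 (.node 4 (.node 2 (.node 1 (.leaf 7351) (.leaf 3865)) (.node 1 (.leaf 3877) (.leaf 3895))) (.node 2 (.node 1 (.leaf 3913) (.leaf 3932)) (.node 1 (.leaf 12202) (.leaf 7395)))) (.node 4 (.node 2 (.node 1 (.leaf 11512) (.leaf 11521)) (.node 1 (.leaf 11484) (.leaf 3972))) (.node 2 (.node 1 (.leaf 3981) (.leaf 7491)) (.node 1 (.leaf 4009) (.leaf 11880))))) (.node 8 (.node 4 (.node 2 (.node 1 (.leaf 10917) (.leaf 7559)) (.node 1 (.leaf 4030) (.leaf 7601))) (.node 2 (.node 1 (.leaf 11268) (.leaf 4065)) (.node 1 (.leaf 7641) (.leaf 7665)))) (.node 4 (.node 2 (.node 1 (.leaf 11638) (.leaf 4084)) (.node 1 (.leaf 12090) (.leaf 11690))) (.node 2 (.node 1 (.leaf 11459) (.leaf 11589)) (.node 1 (.leaf 11671) (.leaf 11544))))))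
def ref4_16 : T := (.node 16 (.node 8 (.node 4 (.node 2 (.node 1 (.leaf 12330) (.leaf 4127)) (.node 1 (.leaf 11468) (.leaf 7915))) (.node 2 (.node 1 (.leaf 9488) (.leaf 7957)) (.node 1 (.leaf 9474) (.leaf 4158)))) (.node 4 (.node 2 (.node 1 (.leaf 11624) (.leaf 6604)) (.node 1 (.leaf 8051) (.leaf 11552))) (.node 2 (.node 1 (.leaf 8065) (.leaf 4227)) (.node 1 (.leaf 11476) (.leaf 10484))))) (.node 8 (.node 4 (.node 2 (.node 1 (.leaf 10021) (.leaf 10010)) (.node 1 (.leaf 4778) (.leaf 4272))) (.node 2 (.node 1 (.leaf 10130) (.leaf 10389)) (.node 1 (.leaf 10202) (.leaf 4810)))) (.node 4 (.node 2 (.node 1 (.leaf 9869) (.leaf 9818)) (.node 1 (.leaf 8787) (.leaf 4308))) (.node 2 (.node 1 (.leaf 8351) (.leaf 4323)) (.node 1 (.leaf 4330) (.leaf 10096))))))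
def ref4_17 : T := (.node 16 (.node 8 (.node 4 (.node 2 (.node 1 (.leaf 10730) (.leaf 11158)) (.node 1 (.leaf 5609) (.leaf 4358))) (.node 2 (.node 1 (.leaf 8573) (.leaf 4377)) (.node 1 (.leaf 10938) (.leaf 8625)))) (.node 4 (.node 2 (.node 1 (.leaf 4412) (.leaf 12472)) (.node 1 (.leaf 8701) (.leaf 8782))) (.node 2 (.node 1 (.leaf 4447) (.leaf 12309)) (.node 1 (.leaf 9960) (.leaf 10228))))) (.node 8 (.node 4 (.node 2 (.node 1 (.leaf 12186) (.leaf 4996)) (.node 1 (.leaf 5967) (.leaf 10608))) (.node 2 (.node 1 (.leaf 12280) (.leaf 8993)) (.node 1 (.leaf 4524) (.leaf 9572)))) (.node 4 (.node 2 (.node 1 (.leaf 7598) (.leaf 4569)) (.node 1 (.leaf 9067) (.leaf 4588))) (.node 2 (.node 1 (.leaf 7504) (.leaf 12392)) (.node 1 (.leaf 4608) (.leaf 9127))))))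
def ref4_18 : T := (.node 16 (.node 8 (.node 4 (.node 2 (.node 1 (.leaf 6014) (.leaf 4642)) (.node 1 (.leaf 9141) (.leaf 10836))) (.node 2 (.node 1 (.leaf 9191) (.leaf 10794)) (.node 1 (.leaf 10802) (.leaf 4682)))) (.node 4 (.node 2 (.node 1 (.leaf 11310) (.leaf 9268)) (.node 1 (.leaf 4701) (.leaf 10580))) (.node 2 (.node 1 (.leaf 10453) (.leaf 4712)) (.node 1 (.leaf 10320) (.leaf 12214))))) (.node 8 (.node 4 (.node 2 (.node 1 (.leaf 10666) (.leaf 7211)) (.node 1 (.leaf 4750) (.leaf 6229))) (.node 2 (.node 1 (.leaf 10186) (.leaf 9946)) (.node 1 (.leaf 4770) (.leaf 9876)))) (.node 4 (.node 2 (.node 1 (.leaf 4793) (.leaf 11161)) (.node 1 (.leaf 4801) (.leaf 4809))) (.node 2 (.node 1 (.leaf 11021) (.leaf 7552)) (.node 1 (.leaf 4822) (.leaf 6046))))))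
def ref4_19 : T := (.node 16 (.node 8 (.node 4 (.node 2 (.node 1 (.leaf 11971) (.leaf 9541)) (.node 1 (.leaf 9505) (.leaf 4858))) (.node 2 (.node 1 (.leaf 12741) (.leaf 12205)) (.node 1 (.leaf 12761) (.leaf 11763)))) (.node 4 (.node 2 (.node 1 (.leaf 11743) (.leaf 9500)) (.node 1 (.leaf 9524) (.leaf 10733))) (.node 2 (.node 1 (.leaf 4921) (.leaf 4928)) (.node 1 (.leaf 7940) (.leaf 12789))))) (.node 8 (.node 4 (.node 2 (.node 1 (.leaf 4949) (.leaf 4975)) (.node 1 (.leaf 9273) (.leaf 4999))) (.node 2 (.node 1 (.leaf 9561) (.leaf 12491)) (.node 1 (.leaf 12875) (.leaf 5014)))) (.node 4 (.node 2 (.node 1 (.leaf 11758) (.leaf 5236)) (.node 1 (.leaf 12486) (.leaf 5080))) (.node 2 (.node 1 (.leaf 12594) (.leaf 5866)) (.node 1 (.leaf 12004) (.leaf 12729))))))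
def ref4_20 : T := (.node 16 (.node 8 (.node 4 (.node 2 (.node 1 (.leaf 13049) (.leaf 9435)) (.node 1 (.leaf 5132) (.leaf 9271))) (.node 2 (.node 1 (.leaf 11359) (.leaf 9295)) (.node 1 (.leaf 12227) (.leaf 5965)))) (.node 4 (.node 2 (.node 1 (.leaf 12183) (.leaf 12271)) (.node 1 (.leaf 5208) (.leaf 13121))) (.node 2 (.node 1 (.leaf 12055) (.leaf 5233)) (.node 1 (.leaf 11385) (.leaf 13213))))) (.node 8 (.node 4 (.node 2 (.node 1 (.leaf 11839) (.leaf 11184)) (.node 1 (.leaf 12369) (.leaf 10369))) (.node 2 (.node 1 (.leaf 10447) (.leaf 10563)) (.node 1 (.leaf 5324) (.leaf 12140)))) (.node 4 (.node 2 (.node 1 (.leaf 5346) (.leaf 13245)) (.node 1 (.leaf 5357) (.leaf 5367))) (.node 2 (.node 1 (.leaf 10617) (.leaf 13279)) (.node 1 (.leaf 13299) (.leaf 12245))))))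
def ref4_21 : T := (.node 16 (.node 8 (.node 4 (.node 2 (.node 1 (.leaf 6033) (.leaf 5418)) (.node 1 (.leaf 12547) (.leaf 13387))) (.node 2 (.node 1 (.leaf 12424) (.leaf 12475)) (.node 1 (.leaf 12830) (.leaf 10473)))) (.node 4 (.node 2 (.node 1 (.leaf 5464) (.leaf 5800)) (.node 1 (.leaf 9056) (.leaf 6012))) (.node 2 (.node 1 (.leaf 6029) (.leaf 6001)) (.node 1 (.leaf 5520) (.leaf 11275))))) (.node 8 (.node 4 (.node 2 (.node 1 (.leaf 13477) (.leaf 12650)) (.node 1 (.leaf 5560) (.leaf 10713))) (.node 2 (.node 1 (.leaf 10237) (.leaf 5692)) (.node 1 (.leaf 12784) (.leaf 12662)))) (.node 4 (.node 2 (.node 1 (.leaf 5656) (.leaf 5669)) (.node 1 (.leaf 6213) (.leaf 5686))) (.node 2 (.node 1 (.leaf 10751) (.leaf 5702)) (.node 1 (.leaf 11777) (.leaf 12690))))))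
def ref4_22 : T := (.node 16 (.node 8 (.node 4 (.node 2 (.node 1 (.leaf 11210) (.leaf 11291)) (.node 1 (.leaf 11229) (.leaf 10582))) (.node 2 (.node 1 (.leaf 5760) (.leaf 13168)) (.node 1 (.leaf 9378) (.leaf 9339)))) (.node 4 (.node 2 (.node 1 (.leaf 12053) (.leaf 13591)) (.node 1 (.leaf 6030) (.leaf 6037))) (.node 2 (.node 1 (.leaf 13448) (.leaf 5838)) (.node 1 (.leaf 5816) (.leaf 5837))))) (.node 8 (.node 4 (.node 2 (.node 1 (.leaf 11883) (.leaf 5853)) (.node 1 (.leaf 5862) (.leaf 9297))) (.node 2 (.node 1 (.leaf 11886) (.leaf 11303)) (.node 1 (.leaf 6076) (.leaf 12030)))) (.node 4 (.node 2 (.node 1 (.leaf 12622) (.leaf 10147)) (.node 1 (.leaf 10177) (.leaf 6118))) (.node 2 (.node 1 (.leaf 9938) (.leaf 6166)) (.node 1 (.leaf 10634) (.leaf 12938))))))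
def ref4_23 : T := (.node 16 (.node 8 (.node 4 (.node 2 (.node 1 (.leaf 6194) (.leaf 10709)) (.node 1 (.leaf 6208) (.leaf 10271))) (.node 2 (.node 1 (.leaf 6330) (.leaf 6231)) (.node 1 (.leaf 13699) (.leaf 6295)))) (.node 4 (.node 2 (.node 1 (.leaf 6533) (.leaf 6316)) (.node 1 (.leaf 6318) (.leaf 13015))) (.node 2 (.node 1 (.leaf 6333) (.leaf 13775)) (.node 1 (.leaf 12577) (.leaf 13795))))) (.node 8 (.node 4 (.node 2 (.node 1 (.leaf 12916) (.leaf 6364)) (.node 1 (.leaf 12514) (.leaf 10331))) (.node 2 (.node 1 (.leaf 6405) (.leaf 10490)) (.node 1 (.leaf 12354) (.leaf 12606)))) (.node 4 (.node 2 (.node 1 (.leaf 12504) (.leaf 6520)) (.node 1 (.leaf 6547) (.leaf 6559))) (.node 2 (.node 1 (.leaf 6560) (.leaf 6579)) (.node 1 (.leaf 6597) (.leaf 13642))))))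
def ref4_24 : T := (.node 16 (.node 8 (.node 4 (.node 2 (.node 1 (.leaf 13897) (.leaf 12553)) (.node 1 (.leaf 6632) (.leaf 13030))) (.node 2 (.node 1 (.leaf 11774) (.leaf 6668)) (.node 1 (.leaf 11420) (.leaf 11249)))) (.node 4 (.node 2 (.node 1 (.leaf 6716) (.leaf 13634)) (.node 1 (.leaf 11212) (.leaf 6754))) (.node 2 (.node 1 (.leaf 11627) (.leaf 6780)) (.node 1 (.leaf 13942) (.leaf 11902))))) (.node 8 (.node 4 (.node 2 (.node 1 (.leaf 11696) (.leaf 13724)) (.node 1 (.leaf 11647) (.leaf 6840))) (.node 2 (.node 1 (.leaf 12367) (.leaf 11605)) (.node 1 (.leaf 11926) (.leaf 6863)))) (.node 4 (.node 2 (.node 1 (.leaf 12143) (.leaf 6931)) (.node 1 (.leaf 6940) (.leaf 11896))) (.node 2 (.node 1 (.leaf 11915) (.leaf 8689)) (.node 1 (.leaf 7223) (.leaf 6960))))))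
def ref4_25 : T := (.node 16 (.node 8 (.node 4 (.node 2 (.node 1 (.leaf 8989) (.leaf 6968)) (.node 1 (.leaf 12311) (.leaf 10753))) (.node 2 (.node 1 (.leaf 7635) (.leaf 11890)) (.node 1 (.leaf 10805) (.leaf 11145)))) (.node 4 (.node 2 (.node 1 (.leaf 7018) (.leaf 12884)) (.node 1 (.leaf 11851) (.leaf 11853))) (.node 2 (.node 1 (.leaf 12014) (.leaf 11805)) (.node 1 (.leaf 12435) (.leaf 12536))))) (.node 8 (.node 4 (.node 2 (.node 1 (.leaf 13428) (.leaf 7082)) (.node 1 (.leaf 14120) (.leaf 12532))) (.node 2 (.node 1 (.leaf 11033) (.leaf 10849)) (.node 1 (.leaf 11029) (.leaf 12433)))) (.node 4 (.node 2 (.node 1 (.leaf 7108) (.leaf 7118)) (.node 1 (.leaf 7127) (.leaf 7133))) (.node 2 (.node 1 (.leaf 10952) (.leaf 12283)) (.node 1 (.leaf 12297) (.leaf 12251))))))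
def ref4_26 : T := (.node 16 (.node 8 (.node 4 (.node 2 (.node 1 (.leaf 13132) (.leaf 13886)) (.node 1 (.leaf 9577) (.leaf 12333))) (.node 2 (.node 1 (.leaf 7258) (.leaf 7288)) (.node 1 (.leaf 9385) (.leaf 7308)))) (.node 4 (.node 2 (.node 1 (.leaf 13318) (.leaf 7331)) (.node 1 (.leaf 9425) (.leaf 12340))) (.node 2 (.node 1 (.leaf 12846) (.leaf 12974)) (.node 1 (.leaf 11576) (.leaf 11931))))) (.node 8 (.node 4 (.node 2 (.node 1 (.leaf 11924) (.leaf 11673)) (.node 1 (.leaf 7480) (.leaf 14106))) (.node 2 (.node 1 (.leaf 9741) (.leaf 11035)) (.node 1 (.leaf 10812) (.leaf 11182)))) (.node 4 (.node 2 (.node 1 (.leaf 10925) (.leaf 14172)) (.node 1 (.leaf 10909) (.leaf 10869))) (.node 2 (.node 1 (.leaf 11382) (.leaf 7577)) (.node 1 (.leaf 11807) (.leaf 8998))))))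
def ref4_27 : T := (.node 16 (.node 8 (.node 4 (.node 2 (.node 1 (.leaf 9114) (.leaf 7602)) (.node 1 (.leaf 9784) (.leaf 9025))) (.node 2 (.node 1 (.leaf 14211) (.leaf 7646)) (.node 1 (.leaf 12377) (.leaf 11653)))) (.node 4 (.node 2 (.node 1 (.leaf 11912) (.leaf 12103)) (.node 1 (.leaf 12357) (.leaf 10704))) (.node 2 (.node 1 (.leaf 13573) (.leaf 7872)) (.node 1 (.leaf 12003) (.leaf 13516))))) (.node 8 (.node 4 (.node 2 (.node 1 (.leaf 7924) (.leaf 12708)) (.node 1 (.leaf 9549) (.leaf 9555))) (.node 2 (.node 1 (.leaf 7981) (.leaf 14162)) (.node 1 (.leaf 10766) (.leaf 8052)))) (.node 4 (.node 2 (.node 1 (.leaf 13580) (.leaf 13928)) (.node 1 (.leaf 8078) (.leaf 10866))) (.node 2 (.node 1 (.leaf 13868) (.leaf 10358)) (.node 1 (.leaf 13108) (.leaf 10763))))))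
def ref4_28 : T := (.node 16 (.node 8 (.node 4 (.node 2 (.node 1 (.leaf 10810) (.leaf 12018)) (.node 1 (.leaf 8429) (.leaf 8536))) (.node 2 (.node 1 (.leaf 13555) (.leaf 12971)) (.node 1 (.leaf 13755) (.leaf 13378)))) (.node 4 (.node 2 (.node 1 (.leaf 8596) (.leaf 14095)) (.node 1 (.leaf 10950) (.leaf 12863))) (.node 2 (.node 1 (.leaf 8652) (.leaf 8678)) (.node 1 (.leaf 9597) (.leaf 13365))))) (.node 8 (.node 4 (.node 2 (.node 1 (.leaf 8738) (.leaf 11831)) (.node 1 (.leaf 12021) (.leaf 14050))) (.node 2 (.node 1 (.leaf 12527) (.leaf 8991)) (.node 1 (.leaf 8952) (.leaf 13773)))) (.node 4 (.node 2 (.node 1 (.leaf 12482) (.leaf 9021)) (.node 1 (.leaf 13188) (.leaf 9068))) (.node 2 (.node 1 (.leaf 12404) (.leaf 9100)) (.node 1 (.leaf 9116) (.leaf 9125))))))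
def ref4_29 : T := (.node 16 (.node 8 (.node 4 (.node 2 (.node 1 (.leaf 9137) (.leaf 13858)) (.node 1 (.leaf 9146) (.leaf 13147))) (.node 2 (.node 1 (.leaf 11324) (.leaf 13506)) (.node 1 (.leaf 13666) (.leaf 9206)))) (.node 4 (.node 2 (.node 1 (.leaf 9264) (.leaf 12531)) (.node 1 (.leaf 9706) (.leaf 9714))) (.node 2 (.node 1 (.leaf 9760) (.leaf 12000)) (.node 1 (.leaf 12601) (.leaf 12625))))) (.node 8 (.node 4 (.node 2 (.node 1 (.leaf 12637) (.leaf 12647)) (.node 1 (.leaf 12669) (.leaf 12687))) (.node 2 (.node 1 (.leaf 12705) (.leaf 12727)) (.node 1 (.leaf 12735) (.leaf 12743)))) (.node 4 (.node 2 (.node 1 (.leaf 13972) (.leaf 13272)) (.node 1 (.leaf 13209) (.leaf 12815))) (.node 2 (.node 1 (.leaf 12820) (.leaf 13066)) (.node 1 (.leaf 13686) (.leaf 13956))))))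
def ref4_30 : T := (.node 16 (.node 8 (.node 4 (.node 2 (.node 1 (.leaf 12877) (.leaf 12880)) (.node 1 (.leaf 12894) (.leaf 12914))) (.node 2 (.node 1 (.leaf 12929) (.leaf 12941)) (.node 1 (.leaf 12967) (.leaf 12972)))) (.node 4 (.node 2 (.node 1 (.leaf 12999) (.leaf 14240)) (.node 1 (.leaf 13027) (.leaf 13045))) (.node 2 (.node 1 (.leaf 13051) (.leaf 13064)) (.node 1 (.leaf 13085) (.leaf 13092))))) (.node 8 (.node 4 (.node 2 (.node 1 (.leaf 13116) (.leaf 13992)) (.node 1 (.leaf 14200) (.leaf 13148))) (.node 2 (.node 1 (.leaf 13178) (.leaf 13526)) (.node 1 (.leaf 13210) (.leaf 13215)))) (.node 4 (.node 2 (.node 1 (.leaf 13239) (.leaf 13247)) (.node 1 (.leaf 13269) (.leaf 13293))) (.node 2 (.node 1 (.leaf 14024) (.leaf 13325)) (.node 1 (.leaf 13326) (.leaf 13352))))))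
def ref4_31 : T := (.node 16 (.node 8 (.node 4 (.node 2 (.node 1 (.leaf 13354) (.leaf 13822)) (.node 1 (.leaf 13389) (.leaf 13413))) (.node 2 (.node 1 (.leaf 13434) (.leaf 13455)) (.node 1 (.leaf 13460) (.leaf 13479)))) (.node 4 (.node 2 (.node 1 (.leaf 13509) (.leaf 14081)) (.node 1 (.leaf 13524) (.leaf 13558))) (.node 2 (.node 1 (.leaf 13574) (.leaf 13576)) (.node 1 (.leaf 13593) (.leaf 14254))))) (.node 8 (.node 4 (.node 2 (.node 1 (.leaf 13637) (.leaf 13640)) (.node 1 (.leaf 13674) (.leaf 13693))) (.node 2 (.node 1 (.leaf 13701) (.leaf 13727)) (.node 1 (.leaf 13749) (.leaf 14138)))) (.node 4 (.node 2 (.node 1 (.leaf 13777) (.leaf 13797)) (.node 1 (.leaf 13830) (.leaf 13843))) (.node 2 (.node 1 (.leaf 14280) (.leaf 13866)) (.node 1 (.leaf 13889) (.leaf 13899))))))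
def ref4_32 : T := (.node 10 (.node 5 (.node 2 (.node 1 (.leaf 13925) (.leaf 13939)) (.node 1 (.leaf 13959) (.node 1 (.leaf 13979) (.leaf 13991)))) (.node 2 (.node 1 (.leaf 14015) (.leaf 14022)) (.node 1 (.leaf 14057) (.node 1 (.leaf 14071) (.leaf 14089))))) (.node 5 (.node 2 (.node 1 (.leaf 14109) (.leaf 14123)) (.node 1 (.leaf 14145) (.node 1 (.leaf 14159) (.leaf 14170)))) (.node 3 (.node 1 (.leaf 14199) (.node 1 (.leaf 14213) (.leaf 14243))) (.node 1 (.leaf 14261) (.node 1 (.leaf 14283) (.leaf 14296))))))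
/-- Packed data. -/
def ref4 : T := (.node 512 (.node 256 (.node 128 (.node 64 (.node 32 ref4_0 ref4_1) (.node 32 ref4_2 ref4_3)) (.node 64 (.node 32 ref4_4 ref4_5) (.node 32 ref4_6 ref4_7))) (.node 128 (.node 64 (.node 32 ref4_8 ref4_9) (.node 32 ref4_10 ref4_11)) (.node 64 (.node 32 ref4_12 ref4_13) (.node 32 ref4_14 ref4_15)))) (.node 256 (.node 128 (.node 64 (.node 32 ref4_16 ref4_17) (.node 32 ref4_18 ref4_19)) (.node 64 (.node 32 ref4_20 ref4_21) (.node 32 ref4_22 ref4_23))) (.node 128 (.node 64 (.node 32 ref4_24 ref4_25) (.node 32 ref4_26 ref4_27)) (.node 64 (.node 32 ref4_28 ref4_29) (.node 32 ref4_30 (.node 32 ref4_31 ref4_32))))))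

/-- The table of preimages. -/
def pre : ℕ → T
  | 0 => pre0
  | 1 => pre1
  | 2 => pre2
  | 3 => pre3
  | _ => pre4

/-- The identities justifying the table. -/
def ref : ℕ → T
  | 0 => ref0
  | 1 => ref1
  | 2 => ref2
  | 3 => ref3
  | _ => ref4

set_option maxRecDepth 100000 in
theorem table_ok0 : tableOk Case1.facts node pre0 ref0 0 7151 1045 = true := by decide +kernel

set_option maxRecDepth 100000 in
theorem table_ok1 : tableOk Case1.facts node pre1 ref1 1 7151 1045 = true := by decide +kernel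

set_option maxRecDepth 100000 in
theorem table_ok2 : tableOk Case1.facts node pre2 ref2 2 7151 1045 = true := by decide +kernel

set_option maxRecDepth 100000 in
theorem table_ok3 : tableOk Case1.facts node pre3 ref3 3 7151 1045 = true := by decide +kernel

set_option maxRecDepth 100000 in
theorem table_ok4 : tableOk Case1.facts node pre4 ref4 4 7151 1045 = true := by decide +kernel

end Cfsg.Agent.J1Order38.Table
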