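import Cfsg.Agent.J1Order38.Case0
import Cfsg.Agent.J1Order38.Case2
import Cfsg.Agent.J1Order38.Case3
import Cfsg.Agent.J1Order38.Table

/-!
Simple groups of order 175560 share one permutation representation of degree 1045.
-/

set_option autoImplicit false

namespace Cfsg.Agent.J1Order38

open Cert Subgroup

set_option maxRecDepth 100000 in
theorem node_zero : Table.node.get 0 = 0 := by decide +kernel

theorem exists_rep {G : Type*} [Group G] [Finite G] [IsSimpleGroup G] (hG : Nat.card G = 175560) :
    ∃ ρ : G →* Equiv.Perm (Fin 1045), Function.Injective ρ ∧ ρ.range = closure (tableSet Table.pre) ∧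
      ∀ k < 5, ∃ σ : Equiv.Perm (Fin 1045), ∀ l : Fin 1045, (σ l : ℕ) = (Table.pre k).get l := by
  obtain ⟨⟨g, hb, ⟨w, hw, he⟩, htop, hK, hr⟩⟩ := exists_gens hG
  simp only [caseWords, List.mem_cons, List.not_mem_nil, or_false] at hw
  rcases hw with rfl | rfl | rfl | rfl
  · exact absurd (Case0.r_mem hb he) hr
  · refine exists_action hG htop hK (Case1.derived hb he) node_zero (ref := Table.ref) ?_
    intro k hk
    interval_cases k
    · exact Table.table_ok0
    · exact Table.table_ok1
    · exact Table.table_ok2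
    · exact Table.table_ok3
    · exact Table.table_ok4
  · exact absurd (Case2.r_mem hb he) hr
  · exact absurd (Case3.r_mem hb he) hr

theorem nonempty_mulEquiv {G H : Type*} [Group G] [Finite G] [IsSimpleGroup G] [Group H] [Finite H]
    [IsSimpleGroup H] (hG : Nat.card G = 175560) (hH : Nat.card H = 175560) : Nonempty (G ≃* H) := by
  obtain ⟨ρ, hρ, hρr, -⟩ := exists_rep hG
  obtain ⟨σ, hσ, hσr, -⟩ := exists_rep hH
  exact ⟨(MonoidHom.ofInjective hρ).trans
    ((MulEquiv.subgroupCongr (hρr.trans hσr.symm)).trans (MonoidHom.ofInjective hσ).symm)⟩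

end Cfsg.Agent.J1Order38
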