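import Cfsg.Agent.J1Order38.Setup

/-!
Generators and relations for a simple group of order 175560.
-/

set_option autoImplicit false
set_option linter.style.haveILetI false

namespace Cfsg.Agent.J1Order38

open Subgroup Model Cert

/-- The relations that do not depend on the case. -/
def baseRels : List (List ℕ) :=
  relsH ++ [[8, 8, 8, 8, 8, 8, 8], [2, 8, 3, 9, 9], [8, 6, 9, 2, 1, 3, 7], [8, 0, 9, 7], [8, 2, 0, 3, 9, 1]]

/-- The words whose conjugation fixes `b` in the four cases. -/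
def caseWords : List (List ℕ) :=
  [[0, 4, 0, 4, 9, 2, 0, 4, 8, 5, 1, 5, 1], [0, 4, 0, 4, 9, 0, 3, 0, 4, 8, 5, 1, 5, 1],
   [2, 0, 4, 8, 8, 2, 0, 4, 9, 9, 5, 1, 3], [2, 0, 4, 8, 8, 0, 3, 0, 4, 9, 9, 5, 1, 3]]

/-- The extra relation of a case. -/
def caseRel (w : List ℕ) : List ℕ := w ++ [2] ++ winv w ++ [3]

/-- A word for each coset subgroup generator. -/
def subWords : List (List ℕ) := [[0], [2], [6], [8]]

/-- The subgroup generated by `a`, `b`, `t` and `u`. -/
def cosetGroup {G : Type*} [Group G] (g : ℕ → G) : Subgroup G := closure {g 0, g 1, g 3, g 4}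

/-- Generators with relations. -/
structure Gens (G : Type*) [Group G] where
  g : ℕ → G
  base : ∀ w ∈ baseRels, eval g w = 1
  extra : ∃ w ∈ caseWords, eval g (caseRel w) = 1
  top : closure (g '' {i | i < 5}) = ⊤
  cardK : Nat.card (cosetGroup g) = 168
  r_not_mem : g 2 ∉ cosetGroup g

variable {G : Type*} [Group G] [Finite G]

theorem inv_or_inverts {z w : G} (hw : orderOf w = 2)
    (hwN : w ∈ normalizer ((zpowers z : Subgroup G) : Set G)) (q : ℕ) (hq : q.Prime) (hz : orderOf z = q) :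
    w * z * w⁻¹ = z ∨ w * z * w⁻¹ = z⁻¹ := by
  haveI := Fact.mk hq
  obtain ⟨i, hi⟩ := mem_zpowers_iff.1 ((mem_normalizer_iff.1 hwN z).1 (mem_zpowers z))
  have hww : w * w = 1 := by rw [← pow_two, ← hw]; exact pow_orderOf_eq_one w
  have h2 : z ^ (i * i) = z := by
    calc z ^ (i * i) = (w * z * w⁻¹) ^ i := by rw [zpow_mul, hi]
      _ = w * z ^ i * w⁻¹ := (map_zpow (MulAut.conj w) z i).symm
      _ = w * (w * z * w⁻¹) * w⁻¹ := by rw [hi]
      _ = (w * w) * z * (w * w)⁻¹ := by group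
      _ = z := by rw [hww]; group
  have hd : (q : ℤ) ∣ i * i - 1 := by
    rw [← hz]
    refine orderOf_dvd_iff_zpow_eq_one.2 ?_
    rw [zpow_sub, h2, zpow_one, mul_inv_cancel]
  have hd' : (q : ℤ) ∣ (i - 1) * (i + 1) := by
    rwa [show (i - 1) * (i + 1) = i * i - 1 by ring]
  rcases (Nat.prime_iff_prime_int.1 hq).dvd_or_dvd hd' with h | h
  · left
    rw [← hi]
    calc z ^ i = z ^ (i - 1) * z := by rw [← zpow_add_one]; ring_nf
      _ = z := by rw [orderOf_dvd_iff_zpow_eq_one.1 (hz ▸ h), one_mul]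
  · right
    rw [← hi]
    calc z ^ i = z ^ (i + 1) * z⁻¹ := by rw [← zpow_sub_one]; ring_nf
      _ = z⁻¹ := by rw [orderOf_dvd_iff_zpow_eq_one.1 (hz ▸ h), one_mul]

omit [Finite G] in
theorem orderOf_dvd_card_of_mem {H : Subgroup G} {x : G} (h : x ∈ H) : orderOf x ∣ Nat.card H := by
  rw [← orderOf_mk x h]
  exact _root_.orderOf_dvd_natCard _

/-- The generators belonging to a setup. -/
def Setup.gen (D : Setup G) : ℕ → G
  | 0 => D.ι (g0 0)
  | 1 => D.ι (g0 1)
  | 2 => D.ι (g0 2)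
  | 3 => D.ι (g0 3)
  | _ => D.u

theorem Setup.gen_eval (D : Setup G) : ∀ (w : List ℕ), (∀ x ∈ w, x < 8) →
    eval D.gen w = D.ι (eval g0 w) := by
  intro w
  induction w with
  | nil => intro _; simp
  | cons x w ih =>
    intro h
    rw [eval_cons, eval_cons, map_mul, ih fun y hy => h y (List.mem_cons_of_mem x hy)]
    congr 1
    have hx := h x (List.mem_cons_self ..)
    interval_cases x <;> simp [L, Setup.gen]

theorem L_eight (g : ℕ → G) : L g 8 = g 4 := rfl

theorem L_nine (g : ℕ → G) : L g 9 = (g 4)⁻¹ := rfl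

variable [IsSimpleGroup G] (hG : Nat.card G = 175560)
include hG

theorem exists_gens : Nonempty (Gens G) := by
  classical
  haveI := Fact.mk (by norm_num : Nat.Prime 7)
  haveI := Fact.mk (by norm_num : Nat.Prime 5)
  haveI := Fact.mk (by norm_num : Nat.Prime 3)
  haveI : Fact (Nat.Prime 2) := ⟨Nat.prime_two⟩
  obtain ⟨D⟩ := exists_setup hG
  obtain ⟨ι, u, hι, hT, hr, hu, hact, hbu⟩ := D
  set D : Setup G := ⟨ι, u, hι, hT, hr, hu, hact, hbu⟩
  set g := D.gen with hg
  have hev := D.gen_eval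
  have hsv : ∀ v, eval g (svWord v) = ι (sv v) := fun v => hev _ (by revert v; decide +kernel)
  have hit : ∀ (l : ℕ) w, u ^ l * ι (sv w) * (u ^ l)⁻¹ = ι (sv (m0^[l] w)) := by
    intro l
    induction l with
    | zero => intro w; simp
    | succ l ih =>
      intro w
      rw [Function.iterate_succ_apply, ← ih, ← hact, pow_succ]
      group
  set b := ι (g0 1) with hb
  set r := ι (g0 2) with hrd
  set t := ι (g0 3) with htd
  have hu7 : u ^ 7 = 1 := orderOf_dvd_iff_pow_eq_one.1 (dvd_of_eq hu)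
  -- the fixed relations
  have hbase : ∀ w ∈ baseRels, eval g w = 1 := by
    intro w hw
    rcases List.mem_append.1 hw with hw | hw
    · rw [hev w (by revert w; decide +kernel), relsH_ok w hw, map_one]
    · simp only [List.mem_cons, List.not_mem_nil, or_false] at hw
      have e1 : L g 8 = u := rfl
      have e2 : L g 9 = u⁻¹ := rfl
      have e3 : L g 2 = b := rfl
      have e4 : L g 3 = b⁻¹ := rfl
      have e5 : L g 0 = ι (g0 0) := rfl
      have e6 : L g 1 = (ι (g0 0))⁻¹ := rfl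
      have e7 : L g 6 = t := rfl
      have e8 : L g 7 = t⁻¹ := rfl
      have ct : u * t * u⁻¹ = ι (sv 5) := by rw [htd, ← sv_one, hact, m0_facts.2.1]
      have ca : u * ι (g0 0) * u⁻¹ = t := by rw [htd, ← sv_two, hact, m0_facts.1, sv_one]
      have c4 : ι (sv 4) = b * ι (g0 0) * b⁻¹ := by
        rw [hb, ← map_inv, ← map_mul, ← map_mul]; congr 1
      have ca2 : u * (b * ι (g0 0) * b⁻¹) * u⁻¹ = ι (g0 0) := by
        rw [← c4, hact, m0_facts.2.2.1, sv_two]
      have c5 : ι (sv 5) = t * (b * ι (g0 0) * b⁻¹) := by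
        rw [← c4, htd, ← map_mul]; congr 1
      rcases hw with rfl | rfl | rfl | rfl | rfl
      · simp only [eval_cons, eval_nil, e1, mul_one]
        rw [← hu7]; simp [pow_succ, mul_assoc]
      · simp only [eval_cons, eval_nil, e1, e2, e3, e4, mul_one]
        calc b * (u * (b⁻¹ * (u⁻¹ * u⁻¹))) = (b * u * b⁻¹) * (u ^ 2)⁻¹ := by group
          _ = 1 := by rw [hbu, mul_inv_cancel]
      · simp only [eval_cons, eval_nil, e1, e2, e3, e4, e6, e7, e8, mul_one]
        calc u * (t * (u⁻¹ * (b * ((ι (g0 0))⁻¹ * (b⁻¹ * t⁻¹))))) =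
            (u * t * u⁻¹) * (t * (b * ι (g0 0) * b⁻¹))⁻¹ := by group
          _ = 1 := by rw [ct, c5, mul_inv_cancel]
      · simp only [eval_cons, eval_nil, e1, e2, e5, e8, mul_one]
        calc u * (ι (g0 0) * (u⁻¹ * t⁻¹)) = (u * ι (g0 0) * u⁻¹) * t⁻¹ := by group
          _ = 1 := by rw [ca, mul_inv_cancel]
      · simp only [eval_cons, eval_nil, e1, e2, e3, e4, e5, e6, mul_one]
        calc u * (b * (ι (g0 0) * (b⁻¹ * (u⁻¹ * (ι (g0 0))⁻¹)))) =
            (u * (b * ι (g0 0) * b⁻¹) * u⁻¹) * (ι (g0 0))⁻¹ := by group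
          _ = 1 := by rw [ca2, mul_inv_cancel]
  -- the element of order five
  have hb3 : orderOf b = 3 := by
    rw [hb, orderOf_injective ι hι]
    rcases (Nat.dvd_prime (by norm_num : Nat.Prime 3)).1 g0_orders.1 with h | h
    · exact absurd (orderOf_eq_one_iff.1 h) g0_orders.2.1
    · exact h
  obtain ⟨y, t', s, hy, hyC, hN, -, -, -, -, -, -, hC5⟩ := three_structure hG hb3
  have htC : t ∈ centralizer ({b} : Set G) := by
    rw [mem_cent_iff, htd, hb, ← map_mul, ← map_mul, g0_orders.2.2.2.2.1]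
  have hty : t * y * t⁻¹ = y⁻¹ := by
    rcases inv_or_inverts hT (hN ▸ cent_le_norm b htC) 5 (by norm_num) hy with h | h
    · exact absurd (no_common_inv hG hb3 hy hyC hN hT htC (mem_cent_iff.2 (comm_of_conj h))) id
    · exact h
  have hrb : r * b * r⁻¹ = b⁻¹ := by
    rw [hrd, hb, ← map_inv, ← map_inv, ← map_mul, ← map_mul, g0_orders.2.2.1]
  have hr2 : r * r = 1 := by
    have h := relsH_ok [4, 4] (by decide)
    rw [hrd, ← map_mul]
    simp [L] at h
    rw [h, map_one]
  have hr1 : orderOf r = 2 := orderOf_eq_prime (by rw [pow_two, hr2]) fun h => by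
    rw [h] at hrb
    have h3 : b ^ 2 = 1 := by
      rw [pow_two]
      nth_rewrite 2 [show b = (1 : G) * b * 1⁻¹ by group]
      rw [hrb, mul_inv_cancel]
    have := orderOf_dvd_of_pow_eq_one h3
    rw [hb3] at this
    norm_num at this
  have hrN : r ∈ normalizer ((zpowers b : Subgroup G) : Set G) := by
    rw [mem_normalizer_iff_map_conj_eq, MonoidHom.map_zpowers]
    show zpowers (r * b * r⁻¹) = zpowers b
    rw [hrb, zpowers_inv]
  -- one of `r`, `r t` centralises `y`
  have hcases : ∃ (ρw : List ℕ) (v : Fin 8), (v = 5 ∨ v = 4) ∧ (∀ w ∈ phiWords, ρw ++ w ++ winv ρw ∈ caseWords) ∧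
      (eval g ρw * t * (eval g ρw)⁻¹) * y = y * (eval g ρw * t * (eval g ρw)⁻¹) ∧
      (eval g ρw)⁻¹ * t * eval g ρw = ι (sv v) := by
    have hcen : ∀ z, (ι z)⁻¹ * t * ι z = t := fun z => by
      rw [htd, ← map_inv, ← map_mul, ← map_mul]
      congr 1
      rw [mul_assoc, ← central_t z, inv_mul_cancel_left]
    rcases inv_or_inverts hr1 (hN ▸ hrN) 5 (by norm_num) hy with h | h
    · refine ⟨hR ++ [9], 5, Or.inl rfl, by decide, ?_, ?_⟩
      · have e : eval g (hR ++ [9]) = ι (eval g0 hR) * u⁻¹ := by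
          rw [eval_append, hev hR (by decide)]; simp [L, hg, Setup.gen, D]
        have e' : u⁻¹ * t * u = ι (g0 0) := by
          rw [← sv_one] at htd
          calc u⁻¹ * t * u = u⁻¹ * (u * ι (g0 0) * u⁻¹) * u := by
                rw [htd, ← sv_two, hact, m0_facts.1]
            _ = ι (g0 0) := by group
        rw [e]
        have e2 : ι (eval g0 hR) * u⁻¹ * t * (ι (eval g0 hR) * u⁻¹)⁻¹ = r := by
          calc ι (eval g0 hR) * u⁻¹ * t * (ι (eval g0 hR) * u⁻¹)⁻¹ =
              ι (eval g0 hR) * (u⁻¹ * t * u) * (ι (eval g0 hR))⁻¹ := by group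
            _ = r := by rw [e', hrd, ← map_inv, ← map_mul, ← map_mul, hR_ok]
        rw [e2]
        exact comm_of_conj h
      · have e : eval g (hR ++ [9]) = ι (eval g0 hR) * u⁻¹ := by
          rw [eval_append, hev hR (by decide)]; simp [L, hg, Setup.gen, D]
        rw [e]
        calc (ι (eval g0 hR) * u⁻¹)⁻¹ * t * (ι (eval g0 hR) * u⁻¹) =
            u * ((ι (eval g0 hR))⁻¹ * t * ι (eval g0 hR)) * u⁻¹ := by group
          _ = ι (sv 5) := by rw [hcen, htd, ← sv_one, hact, m0_facts.2.1]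
    · refine ⟨hRT ++ [8, 8], 4, Or.inr rfl, by decide, ?_, ?_⟩
      · have e : eval g (hRT ++ [8, 8]) = ι (eval g0 hRT) * u ^ 2 := by
          rw [eval_append, hev hRT (by decide)]; simp [L, hg, Setup.gen, D, pow_two]
        rw [e]
        have e2 : ι (eval g0 hRT) * u ^ 2 * t * (ι (eval g0 hRT) * u ^ 2)⁻¹ = r * t := by
          calc ι (eval g0 hRT) * u ^ 2 * t * (ι (eval g0 hRT) * u ^ 2)⁻¹ =
              ι (eval g0 hRT) * (u ^ 2 * t * (u ^ 2)⁻¹) * (ι (eval g0 hRT))⁻¹ := by group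
            _ = r * t := by
              rw [htd, ← sv_one, hit, m0_facts.2.2.2.1, ← map_inv, ← map_mul, ← map_mul, hRT_ok,
                map_mul, sv_one]
        rw [e2]
        refine comm_of_conj ?_
        calc r * t * y * (r * t)⁻¹ = r * (t * y * t⁻¹) * r⁻¹ := by group
          _ = (r * y * r⁻¹)⁻¹ := by rw [hty]; group
          _ = y := by rw [h, inv_inv]
      · have e : eval g (hRT ++ [8, 8]) = ι (eval g0 hRT) * u ^ 2 := by
          rw [eval_append, hev hRT (by decide)]; simp [L, hg, Setup.gen, D, pow_two]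
        rw [e]
        have h5 : (u ^ 2)⁻¹ = u ^ 5 := inv_eq_of_mul_eq_one_right (by rw [← pow_add, hu7])
        calc (ι (eval g0 hRT) * u ^ 2)⁻¹ * t * (ι (eval g0 hRT) * u ^ 2) =
            (u ^ 2)⁻¹ * ((ι (eval g0 hRT))⁻¹ * t * ι (eval g0 hRT)) * ((u ^ 2)⁻¹)⁻¹ := by group
          _ = ι (sv 4) := by rw [hcen, h5, htd, ← sv_one, hit, m0_facts.2.2.2.2.1]
  obtain ⟨ρw, v, hv, hρc, hρy, hρT⟩ := hcases
  set c := eval g ρw with hc
  -- pull `y` back into the centraliser of `t`
  set φ := c⁻¹ * y * c with hφ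
  have hφC : φ ∈ centralizer ({t} : Set G) := by
    rw [mem_cent_iff]
    calc c⁻¹ * y * c * t = c⁻¹ * (y * (c * t * c⁻¹)) * c := by group
      _ = c⁻¹ * ((c * t * c⁻¹) * y) * c := by rw [hρy]
      _ = t * (c⁻¹ * y * c) := by group
  obtain ⟨z, hz⟩ : φ ∈ ι.range := by rw [hr]; exact hφC
  have hz5 : orderOf z = 5 := by
    rw [← orderOf_injective ι hι, hz, hφ,
      show c⁻¹ * y * c = MulAut.conj c⁻¹ y by simp, MulEquiv.orderOf_eq, hy]
  have hinv : sv v * z * (sv v)⁻¹ = z⁻¹ := hι (by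
    rw [map_mul, map_mul, map_inv, map_inv, hz, ← hρT, hφ]
    calc c⁻¹ * t * c * (c⁻¹ * y * c) * (c⁻¹ * t * c)⁻¹ = c⁻¹ * (t * y * t⁻¹) * c := by group
      _ = (c⁻¹ * y * c)⁻¹ := by rw [hty]; group)
  obtain ⟨i, w, hw, hi⟩ := five_inverted v hv z (orderOf_dvd_iff_pow_eq_one.1 (dvd_of_eq hz5))
    (fun e => by rw [e, orderOf_one] at hz5; omega) hinv
  have hwlt : ∀ x ∈ w, x < 8 := (by decide : ∀ q ∈ phiWords, ∀ x ∈ q, x < 8) w hw
  have hfw : eval g (ρw ++ w ++ winv ρw) = y ^ i.val := by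
    have hlt : ∀ x ∈ ρw, x < 10 := fun x hx =>
      (by decide : ∀ q ∈ caseWords, ∀ x ∈ q, x < 10) _ (hρc w hw) x (by simp [hx])
    rw [eval_append, eval_append, eval_winv g hlt, hev w hwlt, ← hi, map_pow, hz, hφ, ← hc]
    rw [show c⁻¹ * y * c = c⁻¹ * y * c⁻¹⁻¹ by rw [inv_inv], conj_pow]
    group
  have hextra : eval g (caseRel (ρw ++ w ++ winv ρw)) = 1 := by
    have hlt : ∀ x ∈ ρw ++ w ++ winv ρw, x < 10 :=
      (by decide : ∀ q ∈ caseWords, ∀ x ∈ q, x < 10) _ (hρc w hw)
    unfold caseRel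
    rw [eval_append, eval_append, eval_append, eval_winv g hlt, hfw]
    have hcom : Commute (y ^ i.val) b := (show Commute y b from mem_cent_iff.1 hyC).pow_left _
    simp only [eval_cons, eval_nil, mul_one]
    show y ^ i.val * b * (y ^ i.val)⁻¹ * b⁻¹ = 1
    rw [hcom.eq]; group
  -- generation
  set X := closure (g '' {i | i < 5}) with hX
  have hgX : ∀ i < 5, g i ∈ X := fun i hi => subset_closure ⟨i, hi, rfl⟩
  have hevX : ∀ w : List ℕ, eval g w ∈ X := by
    intro w
    induction w with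
    | nil => simp [one_mem]
    | cons x w ih =>
      rw [eval_cons]
      refine mul_mem ?_ ih
      unfold L
      split_ifs with h1 h2
      · exact hgX _ (by omega)
      · exact inv_mem (hgX _ (by omega))
      · exact one_mem _
  have hi0 : i.val ≠ 0 := fun h0 => phi_ne w hw (by rw [← hi, h0, pow_zero])
  have hyX : y ∈ X := by
    have h1 : y ^ i.val ∈ X := hfw ▸ hevX _
    have hi5 := i.isLt
    have hcop : Nat.Coprime (orderOf y) i.val := by
      rw [hy]
      exact (Nat.Prime.coprime_iff_not_dvd (by norm_num)).2 fun h => by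
        have := Nat.le_of_dvd (by omega) h; omega
    obtain ⟨m, hm⟩ := exists_pow_eq_self_of_coprime hcop.symm
    rw [← hm]
    exact pow_mem h1 m
  set S := sImage ι
  have hSK : S ≤ cosetGroup g := by
    rintro _ ⟨v, rfl⟩
    rw [← hsv]
    have hmem : ∀ x ∈ svWord v, x = 0 ∨ x = 2 ∨ x = 3 ∨ x = 6 := by revert v; decide +kernel
    revert hmem
    generalize svWord v = l
    induction l with
    | nil => intro _; simp [one_mem]
    | cons x l ih =>
      intro hmem
      rw [eval_cons]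
      refine mul_mem ?_ (ih fun y hy => hmem y (List.mem_cons_of_mem x hy))
      rcases hmem x (List.mem_cons_self ..) with rfl | rfl | rfl | rfl
      · exact subset_closure (by simp [L])
      · exact subset_closure (by simp [L])
      · exact inv_mem (subset_closure (by simp))
      · exact subset_closure (by simp [L])
  have hKX : cosetGroup g ≤ X := by
    rw [cosetGroup, closure_le]
    rintro _ (rfl | rfl | rfl | rfl)
    · exact hgX 0 (by norm_num)
    · exact hgX 1 (by norm_num)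
    · exact hgX 3 (by norm_num)
    · exact hgX 4 (by norm_num)
  have hKN : cosetGroup g ≤ normalizer ((S : Subgroup G) : Set G) := by
    have key : ∀ x : G, (∀ v, ∃ w, x * ι (sv v) * x⁻¹ = ι (sv w)) → x ∈ normalizer ((S : Subgroup G) : Set G) := by
      intro x hx
      rw [mem_normalizer_iff_map_conj_eq]
      refine eq_of_le_of_card_ge ?_ (by rw [card_map_of_injective (MulAut.conj x).injective])
      rintro _ ⟨_, ⟨v, rfl⟩, rfl⟩
      obtain ⟨w, hw⟩ := hx v
      exact ⟨w, hw.symm⟩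
    rw [cosetGroup, closure_le]
    rintro _ (rfl | rfl | rfl | rfl)
    · refine le_normalizer ⟨2, ?_⟩
      rw [sv_two]; rfl
    · refine key _ fun v => ⟨beta v, ?_⟩
      show b * ι (sv v) * b⁻¹ = _
      rw [hb, ← map_inv, ← map_mul, ← map_mul, beta_ok]
    · refine le_normalizer ⟨1, ?_⟩
      rw [sv_one]; rfl
    · exact key _ fun v => ⟨m0 v, hact v⟩
  have hN168 := card_normalizer_sImage hG hι hT hr
  have hbK : b ∈ cosetGroup g := subset_closure (by simp [hg, Setup.gen, D, hb])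
  have huK : u ∈ cosetGroup g := subset_closure (by simp [hg, Setup.gen, D])
  have h8K : 8 ∣ Nat.card (cosetGroup g) := card_sImage hι ▸ card_dvd_of_le hSK
  have hK : Nat.card (cosetGroup g) = 168 := by
    refine Nat.dvd_antisymm (hN168 ▸ card_dvd_of_le hKN) ?_
    have h3 := orderOf_dvd_card_of_mem hbK
    have h7 := orderOf_dvd_card_of_mem huK
    rw [hb3] at h3
    rw [hu] at h7
    exact Nat.Coprime.mul_dvd_of_dvd_of_dvd (by norm_num : Nat.Coprime 24 7)
      (Nat.Coprime.mul_dvd_of_dvd_of_dvd (by norm_num : Nat.Coprime 8 3) h8K h3) h7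
  have hrK : r ∉ cosetGroup g := by
    intro h
    refine r_moves fun v => ?_
    obtain ⟨w, hw⟩ := (mem_normalizer_iff.1 (hKN h) (ι (sv v))).1 ⟨v, rfl⟩
    exact ⟨w, hι (by rw [hw, hrd, map_mul, map_mul, map_inv])⟩
  have htop : X = ⊤ := by
    have hbX : b ∈ X := hKX hbK
    have huX : u ∈ X := hKX huK
    -- the centraliser of `b`
    have hCX : centralizer ({b} : Set G) ≤ X := by
      have hle : (centralizer ({b} : Set G) ⊓ X : Subgroup G) ≤ centralizer ({b} : Set G) := inf_le_left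
      refine (eq_of_le_of_card_ge hle ?_).symm.le.trans inf_le_right
      rw [(three_data hG hb3).2]
      refine Nat.le_of_dvd Nat.card_pos ?_
      have h3 := orderOf_dvd_card_of_mem (H := centralizer ({b} : Set G) ⊓ X) ⟨self_mem_cent b, hbX⟩
      have h5 := orderOf_dvd_card_of_mem (H := centralizer ({b} : Set G) ⊓ X) ⟨hyC, hyX⟩
      have h2 := orderOf_dvd_card_of_mem (H := centralizer ({b} : Set G) ⊓ X) ⟨htC, hgX 3 (by norm_num)⟩
      rw [hb3] at h3
      rw [hy] at h5
      rw [htd, hT] at h2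
      exact Nat.Coprime.mul_dvd_of_dvd_of_dvd (by norm_num : Nat.Coprime 15 2)
        (Nat.Coprime.mul_dvd_of_dvd_of_dvd (by norm_num : Nat.Coprime 3 5) h3 h5) h2
    -- an involution centralising `b` and normalising `⟨u⟩`
    set N7 := normalizer ((zpowers u : Subgroup G) : Set G) with hN7
    have hbN7 : b ∈ N7 := by
      rw [hN7, mem_normalizer_iff_map_conj_eq, MonoidHom.map_zpowers]
      refine eq_of_le_of_card_ge (zpowers_le.2 ?_) ?_
      · show b * u * b⁻¹ ∈ zpowers u
        rw [hbu]; exact pow_mem (mem_zpowers u) 2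
      · rw [Nat.card_zpowers, Nat.card_zpowers]
        show orderOf u ≤ orderOf (MulAut.conj b u)
        rw [MulEquiv.orderOf_eq]
    have h42 : Nat.card N7 = 42 := (seven_data hG hu).1
    obtain ⟨hd, hmod⟩ := count_in (r := 3) N7 (not_dvd_sq hG (by simp) N7) hbN7 hb3
    rw [h42] at hd
    set D3 := N7 ⊓ normalizer ((zpowers b : Subgroup G) : Set G)
    have h3 : 3 ∣ Nat.card D3 := hb3 ▸ orderOf_dvd_card_of_mem (H := D3) ⟨hbN7, le_normalizer (mem_zpowers b)⟩
    have h2 : 2 ∣ Nat.card D3 := by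
      obtain ⟨m, hm⟩ := h3
      rw [hm] at hd ⊢
      have hm14 : Nat.card (Sylow 3 N7) * m = 14 := by
        have : 3 * (Nat.card (Sylow 3 N7) * m) = 3 * 14 := by rw [← mul_assoc, mul_comm 3, mul_assoc]; exact hd
        omega
      have hdd : Nat.card (Sylow 3 N7) ∣ 14 := ⟨m, hm14.symm⟩
      have hle := Nat.le_of_dvd (by norm_num) hdd
      interval_cases hq : Nat.card (Sylow 3 N7) <;> omega
    obtain ⟨y', hy'D, hy'⟩ := exists_orderOf_prime (r := 2) D3 h2
    have hy'b : y' ∈ centralizer ({b} : Set G) := by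
      rcases inv_or_inverts hy' hy'D.2 3 (by norm_num) hb3 with h | h
      · exact mem_cent_iff.2 (comm_of_conj h)
      · exfalso
        -- `b` and its inverse would induce the same automorphism of `⟨u⟩`
        have h1 : b⁻¹ * u * b = u ^ 2 := by
          rcases inv_or_inverts hy' hy'D.1 7 (by norm_num) hu with hh | hh
          · calc b⁻¹ * u * b = (y' * b * y'⁻¹) * (y' * u * y'⁻¹) * (y' * b * y'⁻¹)⁻¹ := by rw [h, hh]; group
              _ = y' * (b * u * b⁻¹) * y'⁻¹ := by group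
              _ = (y' * u * y'⁻¹) ^ 2 := by rw [hbu, conj_pow]
              _ = u ^ 2 := by rw [hh]
          · calc b⁻¹ * u * b = ((y' * b * y'⁻¹) * (y' * u * y'⁻¹) * (y' * b * y'⁻¹)⁻¹)⁻¹ := by rw [h, hh]; group
              _ = (y' * (b * u * b⁻¹) * y'⁻¹)⁻¹ := by group
              _ = ((y' * u * y'⁻¹) ^ 2)⁻¹ := by rw [hbu, conj_pow]
              _ = u ^ 2 := by rw [hh]; group
        have h2' : u = u ^ 4 := by
          calc u = b⁻¹ * (b * u * b⁻¹) * b := by group
            _ = b⁻¹ * u ^ 2 * b⁻¹⁻¹ := by rw [hbu, inv_inv]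
            _ = (b⁻¹ * u * b⁻¹⁻¹) ^ 2 := by rw [conj_pow]
            _ = u ^ 4 := by rw [inv_inv, h1, ← pow_mul]
        have h3' : u ^ 3 = 1 := by
          calc u ^ 3 = u⁻¹ * u ^ 4 := by group
            _ = 1 := by rw [← h2', inv_mul_cancel]
        have := orderOf_dvd_of_pow_eq_one h3'
        rw [hu] at this
        norm_num at this
    have hy'X : y' ∈ X := hCX hy'b
    obtain ⟨hcount, hcm⟩ := count_in (r := 7) X (not_dvd_sq hG (by simp) X) huX hu
    have hNX : Nat.card (X ⊓ N7 : Subgroup G) = 42 := by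
      refine Nat.dvd_antisymm (h42 ▸ card_dvd_of_le inf_le_right) ?_
      have a7 := orderOf_dvd_card_of_mem (H := X ⊓ N7) ⟨huX, le_normalizer (mem_zpowers u)⟩
      have a3 := orderOf_dvd_card_of_mem (H := X ⊓ N7) ⟨hbX, hbN7⟩
      have a2 := orderOf_dvd_card_of_mem (H := X ⊓ N7) ⟨hy'X, hy'D.1⟩
      rw [hu] at a7
      rw [hb3] at a3
      rw [hy'] at a2
      exact Nat.Coprime.mul_dvd_of_dvd_of_dvd (by norm_num : Nat.Coprime 6 7)
        (Nat.Coprime.mul_dvd_of_dvd_of_dvd (by norm_num : Nat.Coprime 2 3) a2 a3) a7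
    rw [hNX] at hcount
    have h840 : 840 ∣ Nat.card X := by
      have a168 : 168 ∣ Nat.card X := hK ▸ card_dvd_of_le hKX
      have a5 := orderOf_dvd_card_of_mem hyX
      rw [hy] at a5
      exact Nat.Coprime.mul_dvd_of_dvd_of_dvd (by norm_num : Nat.Coprime 168 5) a168 a5
    obtain ⟨k, hk⟩ := h840
    have hkd : k ∣ 209 := by
      have h := card_subgroup_dvd_card X
      rw [hG, hk, show (175560 : ℕ) = 840 * 209 from rfl] at h
      exact Nat.dvd_of_mul_dvd_mul_left (by norm_num) h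
    have hmem : k ∈ Nat.divisors 209 := Nat.mem_divisors.2 ⟨hkd, by norm_num⟩
    rw [show Nat.divisors 209 = {1, 11, 19, 209} by decide] at hmem
    simp only [Finset.mem_insert, Finset.mem_singleton] at hmem
    have hn : Nat.card (Sylow 7 X) = 20 * k := by rw [hk] at hcount; omega
    rw [hn] at hcm
    refine eq_top_of_card_eq X ?_
    rw [hk, hG]
    omega
  exact ⟨⟨g, hbase, ⟨_, hρc w hw, hextra⟩, htop, hK, hrK⟩⟩

end Cfsg.Agent.J1Order38
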