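import Cfsg.Agent.J1Order38.Two

/-!
The normaliser of a subgroup of order three in a simple group of order 175560.
-/

set_option autoImplicit false
set_option linter.style.haveILetI false

namespace Cfsg.Agent.J1Order38

open Subgroup Cfsg.Agent.FG78

variable {G : Type*} [Group G] [Finite G]

theorem comm_of_conj {a b : G} (h : a * b * a⁻¹ = b) : a * b = b * a := mul_inv_eq_iff_eq_mul.1 h

/-- Two subgroups of order five in a subgroup of order 30 with a central element of order three
coincide. -/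
theorem five_unique {C : Subgroup G} (hC : Nat.card C = 30) {x y z : G} (hx : orderOf x = 3)
    (hxC : x ∈ C) (hy : orderOf y = 5) (hyC : y ∈ C) (hxy : Commute x y) (hz : orderOf z = 5)
    (hzC : z ∈ C) : z ∈ zpowers y := by
  set q := x * y with hq
  have hqo : orderOf q = 15 := by
    rw [hxy.orderOf_mul_eq_mul_orderOf_of_coprime (by rw [hx, hy]; norm_num), hx, hy]
  set K := (zpowers q).subgroupOf C
  have hle : zpowers q ≤ C := zpowers_le.2 (mul_mem hxC hyC)
  have hK : K.index = 2 := by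
    have h := K.card_mul_index
    rw [Nat.card_congr (subgroupOfEquivOfLe hle).toEquiv, Nat.card_zpowers, hqo, hC] at h
    omega
  have h2 : (⟨z, hzC⟩ : C) ^ 2 ∈ K := sq_mem_of_index_two hK _
  have hz' : z ∈ zpowers q := by
    have h6 : z = (z ^ 2) ^ 3 := by
      rw [← pow_mul, show 2 * 3 = 5 + 1 from rfl, pow_add, pow_one,
        orderOf_dvd_iff_pow_eq_one.1 (dvd_of_eq hz), one_mul]
    rw [h6]
    exact pow_mem h2 3
  obtain ⟨i, rfl⟩ := mem_zpowers_iff.1 hz'
  -- the exponent is a multiple of three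
  have h5 : (q ^ i) ^ 5 = 1 := orderOf_dvd_iff_pow_eq_one.1 (dvd_of_eq hz)
  rw [← zpow_natCast, ← zpow_mul] at h5
  have hd : (15 : ℤ) ∣ i * 5 := by
    have := orderOf_dvd_iff_zpow_eq_one.2 h5
    rw [hqo] at this
    exact_mod_cast this
  obtain ⟨j, rfl⟩ : (3 : ℤ) ∣ i := by omega
  refine mem_zpowers_iff.2 ⟨3 * j, ?_⟩
  rw [hq, hxy.mul_zpow]
  have : x ^ (3 * j : ℤ) = 1 := by
    rw [zpow_mul, show (3 : ℤ) = ((3 : ℕ) : ℤ) from rfl, zpow_natCast,
      orderOf_dvd_iff_pow_eq_one.1 (dvd_of_eq hx), one_zpow]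
  rw [this, one_mul]

variable [IsSimpleGroup G] (hG : Nat.card G = 175560)
include hG

theorem sq_one_of_dvd_pow {g : G} {k : ℕ} (h : orderOf g ∣ 2 ^ k) : g * g = 1 := by
  haveI : Fact (Nat.Prime 2) := ⟨Nat.prime_two⟩
  obtain ⟨i, -, hi⟩ := (Nat.dvd_prime_pow Nat.prime_two).1 h
  obtain ⟨T⟩ := (inferInstance : Nonempty (Sylow 2 G))
  obtain ⟨c, hc⟩ := Transfer.exists_conj_mem_sylow T hi
  have h2 := (two_elementary hG T).2 _ hc
  rw [conj_mul, conj_eq_one_iff] at h2
  exact h2

theorem cent_inv_ne_top {t : G} (ht : orderOf t = 2) : centralizer ({t} : Set G) ≠ ⊤ := fun h => by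
  have h1 : t ∈ center G := mem_center_iff.2 fun g => mem_cent_iff.1 (h ▸ mem_top g)
  rw [SmallGroups.center_eq_bot_of_not_comm (not_comm hG), mem_bot] at h1
  rw [h1, orderOf_one] at ht
  omega

theorem dvd_cent_inv {t : G} (ht : orderOf t = 2) : 8 ∣ Nat.card (centralizer ({t} : Set G)) := by
  haveI : Fact (Nat.Prime 2) := ⟨Nat.prime_two⟩
  obtain ⟨T⟩ := (inferInstance : Nonempty (Sylow 2 G))
  haveI := (two_elementary hG T).1
  obtain ⟨g, hg⟩ := Transfer.exists_conj_mem_sylow T (k := 1) (x := t) (by rw [ht, pow_one])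
  rw [← card_two hG T, ← card_map_of_injective (f := (MulAut.conj g⁻¹).toMonoidHom) (K := (T : Subgroup G)) (MulAut.conj g⁻¹).injective]
  refine card_dvd_of_le ?_
  rintro _ ⟨u, hu, rfl⟩
  have e : u * (g * t * g⁻¹) = (g * t * g⁻¹) * u :=
    congrArg Subtype.val (IsMulCommutative.is_comm.comm (⟨u, hu⟩ : (T : Subgroup G)) ⟨_, hg⟩)
  rw [mem_cent_iff]
  show g⁻¹ * u * g⁻¹⁻¹ * t = t * (g⁻¹ * u * g⁻¹⁻¹)
  calc g⁻¹ * u * g⁻¹⁻¹ * t = g⁻¹ * (u * (g * t * g⁻¹)) * g := by group
    _ = g⁻¹ * ((g * t * g⁻¹) * u) * g := by rw [e]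
    _ = t * (g⁻¹ * u * g⁻¹⁻¹) := by group

theorem not_dvd_sq {r : ℕ} (hr : r ∈ [19, 11, 7, 5, 3]) (H : Subgroup G) : ¬ r ^ 2 ∣ Nat.card H :=
  fun h => (five_mem hr hG).2.2.1 (h.trans (card_subgroup_dvd_card H))

theorem exists_five_cent {x : G} (hx : orderOf x = 3) :
    ∃ y, orderOf y = 5 ∧ y ∈ centralizer ({x} : Set G) ∧
      normalizer ((zpowers x : Subgroup G) : Set G) = normalizer ((zpowers y : Subgroup G) : Set G) := by
  haveI := Fact.mk (by norm_num : Nat.Prime 5)
  obtain ⟨y, hyC, hy⟩ := exists_orderOf_prime (r := 5) (centralizer ({x} : Set G))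
    (by rw [(three_data hG hx).2]; norm_num)
  refine ⟨y, hy, hyC, eq_of_le_of_card_ge (fun n hn => ?_)
    (by rw [(three_data hG hx).1, (five_data hG hy).1])⟩
  obtain ⟨i, hi⟩ := mem_zpowers_iff.1 ((mem_normalizer_iff''.1 hn x).1 (mem_zpowers x))
  have hmem : n * y * n⁻¹ ∈ centralizer ({x} : Set G) := by
    rw [mem_cent_iff]
    have h : Commute y (n⁻¹ * x * n) := by
      rw [← hi]
      exact Commute.zpow_right (mem_cent_iff.1 hyC) i
    calc n * y * n⁻¹ * x = n * (y * (n⁻¹ * x * n)) * n⁻¹ := by group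
      _ = n * ((n⁻¹ * x * n) * y) * n⁻¹ := by rw [h.eq]
      _ = x * (n * y * n⁻¹) := by group
  have hmap : (zpowers y).map (MulAut.conj n).toMonoidHom = zpowers y := by
    rw [MonoidHom.map_zpowers]
    refine eq_of_le_of_card_ge (zpowers_le.2 ?_) ?_
    · exact five_unique (three_data hG hx).2 hx (self_mem_cent x) hy hyC
        (mem_cent_iff.1 hyC).symm (by show orderOf (MulAut.conj n y) = 5; rw [MulEquiv.orderOf_eq, hy]) hmem
    · rw [Nat.card_zpowers, Nat.card_zpowers]
      show orderOf y ≤ orderOf (MulAut.conj n y)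
      rw [MulEquiv.orderOf_eq]
  exact mem_normalizer_iff_map_conj_eq.2 hmap

theorem no_common_inv {x y w : G} (hx : orderOf x = 3) (hy : orderOf y = 5)
    (hyC : y ∈ centralizer ({x} : Set G))
    (hN : normalizer ((zpowers x : Subgroup G) : Set G) = normalizer ((zpowers y : Subgroup G) : Set G))
    (hw : orderOf w = 2) (hwx : w ∈ centralizer ({x} : Set G)) (hwy : w ∈ centralizer ({y} : Set G)) :
    False := by
  haveI := Fact.mk (by norm_num : Nat.Prime 5)
  haveI := Fact.mk (by norm_num : Nat.Prime 3)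
  set C := centralizer ({x} : Set G)
  set N := normalizer ((zpowers x : Subgroup G) : Set G)
  have hxy : Commute x y := (mem_cent_iff.1 hyC).symm
  have hq : orderOf (x * y) = 15 := by
    rw [hxy.orderOf_mul_eq_mul_orderOf_of_coprime (by rw [hx, hy]; norm_num), hx, hy]
  have hwq : Commute (x * y) w :=
    Commute.mul_left (mem_cent_iff.1 hwx).symm (mem_cent_iff.1 hwy).symm
  have hq30 : orderOf (x * y * w) = 30 := by
    rw [hwq.orderOf_mul_eq_mul_orderOf_of_coprime (by rw [hq, hw]; norm_num), hq, hw]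
  have hC : zpowers (x * y * w) = C :=
    eq_of_le_of_card_ge (zpowers_le.2 (mul_mem (mul_mem (self_mem_cent x) hyC) hwx))
      (by rw [(three_data hG hx).2, Nat.card_zpowers, hq30])
  -- the involution is fixed by the normaliser
  have hNw : N ≤ centralizer ({w} : Set G) := by
    intro n hn
    rw [mem_cent_iff]
    apply comm_of_conj
    obtain ⟨i, hi⟩ := mem_zpowers_iff.1 ((mem_normalizer_iff''.1 hn x).1 (mem_zpowers x))
    have hmem : n * w * n⁻¹ ∈ C := by
      rw [mem_cent_iff]
      have h : Commute w (n⁻¹ * x * n) := by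
        rw [← hi]
        exact Commute.zpow_right (mem_cent_iff.1 hwx) i
      calc n * w * n⁻¹ * x = n * (w * (n⁻¹ * x * n)) * n⁻¹ := by group
        _ = n * ((n⁻¹ * x * n) * w) * n⁻¹ := by rw [h.eq]
        _ = x * (n * w * n⁻¹) := by group
    have key : ∀ v ∈ C, v * v = 1 → v ≠ 1 → v = (x * y * w) ^ (15 : ℤ) := by
      intro v hv hvv hv1
      rw [← hC] at hv
      obtain ⟨j, rfl⟩ := mem_zpowers_iff.1 hv
      rw [← zpow_add] at hvv
      have h1 := orderOf_dvd_iff_zpow_eq_one.2 hvv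
      rw [hq30] at h1
      have h1' : (30 : ℤ) ∣ j + j := by exact_mod_cast h1
      have h3 : ¬ (30 : ℤ) ∣ j := fun h => hv1 (orderOf_dvd_iff_zpow_eq_one.1 (by rw [hq30]; exact_mod_cast h))
      refine (zpow_eq_zpow_iff_modEq.2 ?_)
      rw [hq30]
      rw [Int.modEq_iff_dvd]
      push_cast
      omega
    have hw2 : w * w = 1 := by rw [← pow_two, ← hw]; exact pow_orderOf_eq_one w
    have hw1 : w ≠ 1 := fun h => by rw [h, orderOf_one] at hw; omega
    rw [key w hwx hw2 hw1]
    rw [← key w hwx hw2 hw1]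
    rw [key (n * w * n⁻¹) hmem (by rw [conj_mul, hw2, mul_one, mul_inv_cancel])
      (fun h => hw1 (conj_eq_one_iff.1 h)), ← key w hwx hw2 hw1]
  set H := centralizer ({w} : Set G)
  have hN60 : Nat.card N = 60 := (three_data hG hx).1
  have hxH : x ∈ H := cent_comm_symm hwx
  have hyH : y ∈ H := cent_comm_symm hwy
  obtain ⟨h3, h3m⟩ := count_in (r := 3) H (not_dvd_sq hG (by simp) H) hxH hx
  obtain ⟨h5, h5m⟩ := count_in (r := 5) H (not_dvd_sq hG (by simp) H) hyH hy
  rw [inf_eq_right.2 hNw, hN60] at h3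
  rw [← hN, inf_eq_right.2 hNw, hN60] at h5
  have h8 : 8 ∣ Nat.card H := dvd_cent_inv hG hw
  have hd : Nat.card H ∣ 120 * 1463 := by
    refine (card_subgroup_dvd_card H).trans ?_
    rw [hG]
  obtain ⟨k, hk⟩ : 120 ∣ Nat.card H :=
    (Nat.lcm_dvd h8 ⟨_, h3.symm.trans (mul_comm _ _)⟩ : Nat.lcm 8 60 ∣ _)
  rw [hk] at hd h3 h5
  have hk' := Nat.dvd_of_mul_dvd_mul_left (by norm_num : 0 < 120) hd
  have hk_lt : k ≠ 1463 := fun h => cent_inv_ne_top hG hw
    (eq_top_of_card_eq _ (by rw [hk, h, hG]))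
  have hn3 : Nat.card (Sylow 3 H) = 2 * k := by omega
  have hn5 : Nat.card (Sylow 5 H) = 2 * k := by omega
  rw [hn3] at h3m
  rw [hn5] at h5m
  have hmem : k ∈ Nat.divisors 1463 := Nat.mem_divisors.2 ⟨hk', by norm_num⟩
  rw [show Nat.divisors 1463 = {1, 7, 11, 19, 77, 133, 209, 1463} by decide +kernel] at hmem
  simp only [Finset.mem_insert, Finset.mem_singleton] at hmem
  omega

/-- The data attached to an element of order three. -/
theorem three_structure {x : G} (hx : orderOf x = 3) :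
    ∃ y t s, orderOf y = 5 ∧ y ∈ centralizer ({x} : Set G) ∧
      normalizer ((zpowers x : Subgroup G) : Set G) = normalizer ((zpowers y : Subgroup G) : Set G) ∧
      orderOf t = 2 ∧ t ∈ centralizer ({x} : Set G) ∧ t * y * t⁻¹ = y⁻¹ ∧
      orderOf s = 2 ∧ s ∈ centralizer ({y} : Set G) ∧ s * x * s⁻¹ = x⁻¹ ∧
      Nat.card (centralizer ({y} : Set G)) = 30 := by
  haveI := Fact.mk (by norm_num : Nat.Prime 2)
  obtain ⟨y, hy, hyC, hN⟩ := exists_five_cent hG hx
  obtain ⟨t, htC, ht⟩ := exists_orderOf_prime (r := 2) (centralizer ({x} : Set G))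
    (by rw [(three_data hG hx).2]; norm_num)
  set N := normalizer ((zpowers x : Subgroup G) : Set G) with hNdef
  have hN60 : Nat.card N = 60 := (three_data hG hx).1
  have hC5 : Nat.card (centralizer ({y} : Set G)) = 30 := by
    rcases (five_data hG hy).2 with h15 | h
    · exfalso
      -- otherwise a Sylow 2-subgroup of the normaliser is cyclic of order four
      haveI := Fact.mk (by norm_num : Nat.Prime 5)
      obtain ⟨V⟩ := (inferInstance : Nonempty (Sylow 2 N))
      have hV : Nat.card (V : Subgroup N) = 4 := by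
        have := SmallGroups.card_sylow_eq (G := N) (p := 2) (a := 2) (m := 15) (by rw [hN60]; norm_num)
          (by norm_num) V
        simpa using this
      set N' := normalizer ((zpowers y : Subgroup G) : Set G)
      let f : (V : Subgroup N) →* MulAut (zpowers y) :=
        ((normalizerMonoidHom (zpowers y)).comp (MulEquiv.subgroupCongr hN).toMonoidHom).comp (V : Subgroup N).subtype
      have hf : Function.Injective f := by
        rw [← MonoidHom.ker_eq_bot_iff, eq_bot_iff_forall]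
        intro v hv
        have hv' : (MulEquiv.subgroupCongr hN (v : N)) ∈ (normalizerMonoidHom (zpowers y)).ker := hv
        rw [normalizerMonoidHom_ker] at hv'
        have hvC : ((v : N) : G) ∈ centralizer ({y} : Set G) := by
          rw [← centralizer_zpowers]
          exact hv'
        have h1 : orderOf ((v : N) : G) ∣ 4 := by
          rw [orderOf_coe, orderOf_coe, ← hV]
          exact orderOf_dvd_natCard v
        have h2 : orderOf ((v : N) : G) ∣ 15 := by
          rw [← orderOf_mk ((v : N) : G) hvC, ← h15]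
          exact orderOf_dvd_natCard _
        have h3 : orderOf ((v : N) : G) ∣ Nat.gcd 4 15 := Nat.dvd_gcd h1 h2
        exact Subtype.ext (Subtype.ext (orderOf_eq_one_iff.1 (Nat.dvd_one.1 h3)))
      haveI : IsCyclic (zpowers y) := isCyclic_of_prime_card (p := 5) (by rw [Nat.card_zpowers, hy])
      haveI hcyc : IsCyclic (MulAut (zpowers y)) := by
        have e := IsCyclic.mulAutMulEquiv (zpowers y)
        rw [Nat.card_zpowers, hy] at e
        exact isCyclic_of_surjective e.symm.toMonoidHom e.symm.surjective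
      haveI : IsCyclic (V : Subgroup N) :=
        isCyclic_of_surjective (MonoidHom.ofInjective hf).symm.toMonoidHom (MulEquiv.surjective _)
      obtain ⟨g, hg⟩ := IsCyclic.exists_generator (α := (V : Subgroup N))
      have hgo : orderOf ((g : N) : G) = 4 := by
        rw [orderOf_coe, orderOf_coe, orderOf_eq_card_of_forall_mem_zpowers hg, hV]
      have := sq_one_of_dvd_pow hG (g := ((g : N) : G)) (k := 2) (by rw [hgo]; norm_num)
      rw [← pow_two, ← orderOf_dvd_iff_pow_eq_one, hgo] at this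
      norm_num at this
    · exact h
  obtain ⟨s, hsC, hs⟩ := exists_orderOf_prime (r := 2) (centralizer ({y} : Set G))
    (by rw [hC5]; norm_num)
  have hinv : ∀ {z w : G}, orderOf w = 2 → w ∈ normalizer ((zpowers z : Subgroup G) : Set G) →
      ∀ q : ℕ, q.Prime → orderOf z = q → w * z * w⁻¹ = z ∨ w * z * w⁻¹ = z⁻¹ := by
    intro z w hw hwN q hq hz
    haveI := Fact.mk hq
    obtain ⟨i, hi⟩ := mem_zpowers_iff.1 ((mem_normalizer_iff.1 hwN z).1 (mem_zpowers z))
    have hww : w * w = 1 := by rw [← pow_two, ← hw]; exact pow_orderOf_eq_one w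
    have hwi : w⁻¹ = w := inv_eq_of_mul_eq_one_right hww
    have h2 : z ^ (i * i) = z := by
      calc z ^ (i * i) = (w * z * w⁻¹) ^ i := by rw [zpow_mul, hi]
        _ = w * z ^ i * w⁻¹ := (map_zpow (MulAut.conj w) z i).symm
        _ = w * (w * z * w⁻¹) * w⁻¹ := by rw [hi]
        _ = (w * w) * z * (w * w)⁻¹ := by group
        _ = z := by rw [hww]; group
    have hd : (q : ℤ) ∣ i * i - 1 := by
      rw [← hz]
      refine orderOf_dvd_iff_zpow_eq_one.2 ?_
      rw [zpow_sub, h2, zpow_one, mul_inv_cancel]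
    have hd' : (q : ℤ) ∣ (i - 1) * (i + 1) := by
      rwa [show (i - 1) * (i + 1) = i * i - 1 by ring]
    rcases (Nat.prime_iff_prime_int.1 hq).dvd_or_dvd hd' with h | h
    · left
      rw [← hi]
      calc z ^ i = z ^ (i - 1) * z := by rw [← zpow_add_one]; ring_nf
        _ = z := by rw [orderOf_dvd_iff_zpow_eq_one.1 (hz ▸ h), one_mul]
    · right
      rw [← hi]
      calc z ^ i = z ^ (i + 1) * z⁻¹ := by rw [← zpow_sub_one]; ring_nf
        _ = z⁻¹ := by rw [orderOf_dvd_iff_zpow_eq_one.1 (hz ▸ h), one_mul]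
  refine ⟨y, t, s, hy, hyC, hN, ht, htC, ?_, hs, hsC, ?_, hC5⟩
  · rcases hinv ht (hN ▸ cent_le_norm x htC) 5 (by norm_num) hy with h | h
    · exact absurd (no_common_inv hG hx hy hyC hN ht htC (mem_cent_iff.2 (comm_of_conj h))) id
    · exact h
  · rcases hinv hs (hN.ge (cent_le_norm y hsC)) 3 (by norm_num) hx with h | h
    · exact absurd (no_common_inv hG hx hy hyC hN hs (mem_cent_iff.2 (comm_of_conj h)) hsC) id
    · exact h

theorem cent_inv_card {t : G} (ht : orderOf t = 2) : Nat.card (centralizer ({t} : Set G)) = 120 := by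
  haveI := Fact.mk (by norm_num : Nat.Prime 3)
  haveI := Fact.mk (by norm_num : Nat.Prime 5)
  obtain ⟨x, hx⟩ := exists_prime_orderOf_dvd_card' (G := G) 3 (by rw [hG]; norm_num)
  obtain ⟨y, t₀, s, hy, hyC, hN, ht₀, ht₀C, ht₀y, hs, hsC, hsx, hC5⟩ := three_structure hG hx
  set N := normalizer ((zpowers x : Subgroup G) : Set G) with hNdef
  have hN60 : Nat.card N = 60 := (three_data hG hx).1
  -- centralisers of the two involutions inside the normaliser
  have key : ∀ w ∈ N, orderOf w = 2 → 4 ∣ Nat.card (N ⊓ centralizer ({w} : Set G) : Subgroup G) := by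
    intro w hwN hw
    haveI : Fact (Nat.Prime 2) := ⟨Nat.prime_two⟩
    obtain ⟨V, hV⟩ := (IsPGroup.of_card (n := 1) (by rw [Nat.card_zpowers, orderOf_mk, hw, pow_one]) :
      IsPGroup 2 (zpowers (⟨w, hwN⟩ : N))).exists_le_sylow
    have hV4 : Nat.card (V : Subgroup N) = 4 := by
      have := SmallGroups.card_sylow_eq (G := N) (p := 2) (a := 2) (m := 15) (by rw [hN60]; norm_num)
        (by norm_num) V
      simpa using this
    rw [← hV4, ← card_map_of_injective (K := (V : Subgroup N)) N.subtype_injective]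
    refine card_dvd_of_le ?_
    rintro _ ⟨v, hv, rfl⟩
    refine ⟨v.2, ?_⟩
    have hsqV : ∀ u ∈ (V : Subgroup N), (u : G) * (u : G) = 1 := fun u hu => by
      refine sq_one_of_dvd_pow hG (k := 2) ?_
      rw [orderOf_coe, ← orderOf_mk u hu]
      exact (_root_.orderOf_dvd_natCard _).trans (by rw [hV4]; norm_num)
    have hi : ∀ u ∈ (V : Subgroup N), (u : G)⁻¹ = u := fun u hu => inv_eq_of_mul_eq_one_right (hsqV u hu)
    have hw' := hV (mem_zpowers _)
    refine mem_cent_iff.2 ?_
    have h1 := hi _ (mul_mem hv hw')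
    show (v : G) * w = w * (v : G)
    calc (v : G) * w = ((v : G) * w)⁻¹ := h1.symm
      _ = w⁻¹ * (v : G)⁻¹ := mul_inv_rev _ _
      _ = w * (v : G) := by rw [hi _ hv, hi _ hw']
  have c12 : Nat.card (N ⊓ centralizer ({t₀} : Set G) : Subgroup G) = 12 := by
    set D := N ⊓ centralizer ({t₀} : Set G) with hD
    have h4 := key t₀ (cent_le_norm x ht₀C) ht₀
    have h3 : 3 ∣ Nat.card D := by
      have hxD : x ∈ D := ⟨le_normalizer (mem_zpowers x), cent_comm_symm ht₀C⟩
      rw [← hx, ← orderOf_mk x hxD]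
      exact orderOf_dvd_natCard _
    have h60 : Nat.card D ∣ 60 := hN60 ▸ card_dvd_of_le inf_le_left
    have h5 : ¬ 5 ∣ Nat.card D := by
      intro h5
      obtain ⟨z, hzD, hz⟩ := exists_orderOf_prime (r := 5) D h5
      have hzy : z ∈ zpowers y := by
        -- the Sylow 5-subgroup of the normaliser is normal
        obtain ⟨P, hP⟩ := exists_sylow_zpowers (G := N) (r := 5) (by rw [hN60]; norm_num) (x := ⟨z, hzD.1⟩)
          (by rw [orderOf_mk, hz])
        have hyN : y ∈ N := hN ▸ le_normalizer (mem_zpowers y)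
        obtain ⟨Q, hQ⟩ := exists_sylow_zpowers (G := N) (r := 5) (by rw [hN60]; norm_num) (x := ⟨y, hyN⟩)
          (by rw [orderOf_mk, hy])
        have hQn : (Q : Subgroup N).Normal := by
          rw [hQ]
          have e : zpowers (⟨y, hyN⟩ : N) = (zpowers y).subgroupOf N := by
            apply map_injective N.subtype_injective
            rw [MonoidHom.map_zpowers, subgroupOf_map_subtype, inf_eq_left.2 (zpowers_le.2 hyN)]
            rfl
          rw [e, normal_subgroupOf_iff_le_normalizer (zpowers_le.2 hyN)]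
          exact hN.le
        haveI := Q.unique_of_normal hQn
        have h1 : (⟨z, hzD.1⟩ : N) ∈ (Q : Subgroup N) := by
          rw [Subsingleton.elim Q P, hP]
          exact mem_zpowers _
        rw [hQ] at h1
        obtain ⟨i, hi⟩ := mem_zpowers_iff.1 h1
        exact mem_zpowers_iff.2 ⟨i, congrArg Subtype.val hi⟩
      obtain ⟨i, rfl⟩ := mem_zpowers_iff.1 hzy
      have h1 : (t₀ * y * t₀⁻¹) ^ i = y ^ i := by
        rw [show (t₀ * y * t₀⁻¹) ^ i = t₀ * y ^ i * t₀⁻¹ from (map_zpow (MulAut.conj t₀) y i).symm,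
          ← mem_cent_iff.1 hzD.2, mul_inv_cancel_right]
      rw [ht₀y] at h1
      have h2 : y ^ (i + i) = 1 := by
        calc y ^ (i + i) = y ^ i * y ^ i := zpow_add y i i
          _ = y ^ i * y⁻¹ ^ i := by rw [h1]
          _ = 1 := by rw [inv_zpow, mul_inv_cancel]
      have h5' : (5 : ℤ) ∣ i + i := by
        have := orderOf_dvd_iff_zpow_eq_one.2 h2
        rw [hy] at this
        exact_mod_cast this
      have hyi : y ^ i = 1 := orderOf_dvd_iff_zpow_eq_one.1 (by rw [hy]; push_cast; omega)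
      rw [hyi, orderOf_one] at hz
      omega
    have h12 : 12 ∣ Nat.card D := Nat.Coprime.mul_dvd_of_dvd_of_dvd (by norm_num : Nat.Coprime 4 3) h4 h3
    obtain ⟨m, hm⟩ := h12
    have hmd : m ∣ 5 := by
      rw [hm, show (60 : ℕ) = 12 * 5 from rfl] at h60
      exact Nat.dvd_of_mul_dvd_mul_left (by norm_num) h60
    rcases (Nat.dvd_prime (by norm_num : Nat.Prime 5)).1 hmd with rfl | rfl
    · rw [hm]
    · exact absurd ⟨12, by rw [hm]⟩ h5
  have c20 : Nat.card (N ⊓ centralizer ({s} : Set G) : Subgroup G) = 20 := by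
    set D := N ⊓ centralizer ({s} : Set G) with hD
    have h4 := key s ((by rw [hN]; exact cent_le_norm y hsC)) hs
    have hyD : y ∈ D := ⟨hN ▸ le_normalizer (mem_zpowers y), cent_comm_symm hsC⟩
    have h5 : 5 ∣ Nat.card D := by
      rw [← hy, ← orderOf_mk y hyD]
      exact orderOf_dvd_natCard _
    have h60 : Nat.card D ∣ 60 := hN60 ▸ card_dvd_of_le inf_le_left
    have h20 : 20 ∣ Nat.card D := Nat.Coprime.mul_dvd_of_dvd_of_dvd (by norm_num : Nat.Coprime 4 5) h4 h5
    obtain ⟨m, hm⟩ := h20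
    have hmd : m ∣ 3 := by
      rw [hm, show (60 : ℕ) = 20 * 3 from rfl] at h60
      exact Nat.dvd_of_mul_dvd_mul_left (by norm_num) h60
    rcases (Nat.dvd_prime (by norm_num : Nat.Prime 3)).1 hmd with rfl | rfl
    · rw [hm]
    · exfalso
      have htop : D = N := eq_of_le_of_card_ge inf_le_left (by rw [hN60, hm])
      have hxD : x ∈ D := htop ▸ le_normalizer (mem_zpowers x)
      have hsxC : s ∈ centralizer ({x} : Set G) := cent_comm_symm hxD.2
      exact no_common_inv hG hx hy hyC hN hs hsxC hsC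
  -- count in a centraliser of an involution
  obtain ⟨g, hg⟩ := conj_involutions hG ht₀ ht
  obtain ⟨g', hg'⟩ := conj_involutions hG hs ht
  set H := centralizer ({t} : Set G)
  have transport : ∀ {c w z : G}, c * w * c⁻¹ = t → z ∈ centralizer ({w} : Set G) →
      c * z * c⁻¹ ∈ H ∧ Nat.card (H ⊓ normalizer ((zpowers (c * z * c⁻¹) : Subgroup G) : Set G) : Subgroup G)
        = Nat.card (normalizer ((zpowers z : Subgroup G) : Set G) ⊓ centralizer ({w} : Set G) : Subgroup G) := by
    intro c w z hc hz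
    have hconj : ∀ v : G, v ∈ centralizer ({w} : Set G) ↔ c * v * c⁻¹ ∈ H := fun v => by
      rw [mem_cent_iff, mem_cent_iff, ← hc, conj_mul, conj_mul]
      simp
    refine ⟨(hconj z).1 hz, ?_⟩
    rw [← card_map_of_injective (f := (MulAut.conj c).toMonoidHom)
      (K := normalizer ((zpowers z : Subgroup G) : Set G) ⊓ centralizer ({w} : Set G))
      (MulAut.conj c).injective, Subgroup.map_inf _ _ _ (MulAut.conj c).injective, inf_comm]
    have e1 : (normalizer ((zpowers z : Subgroup G) : Set G)).map (MulAut.conj c).toMonoidHom =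
        normalizer ((zpowers (c * z * c⁻¹) : Subgroup G) : Set G) := by
      rw [map_equiv_normalizer_eq, MonoidHom.map_zpowers]
      rfl
    have e2 : (centralizer ({w} : Set G)).map (MulAut.conj c).toMonoidHom = H := by
      ext v
      rw [mem_map_equiv, hconj, MulAut.conj_symm_apply]
      simp [mul_assoc]
    rw [e1, e2]
  obtain ⟨hxH, e3⟩ := transport (z := x) hg (cent_comm_symm ht₀C)
  obtain ⟨hyH, e5⟩ := transport (z := y) hg' (cent_comm_symm hsC)
  obtain ⟨h3, h3m⟩ := count_in (r := 3) H (not_dvd_sq hG (by simp) H) hxH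
    (by rw [← MulAut.conj_apply, MulEquiv.orderOf_eq, hx])
  obtain ⟨h5, h5m⟩ := count_in (r := 5) H (not_dvd_sq hG (by simp) H) hyH
    (by rw [← MulAut.conj_apply, MulEquiv.orderOf_eq, hy])
  rw [e3, c12] at h3
  rw [e5, ← hN, c20] at h5
  have hd : Nat.card H ∣ 120 * 1463 := by
    refine (card_subgroup_dvd_card H).trans ?_
    rw [hG]
  obtain ⟨k, hk⟩ : 120 ∣ Nat.card H :=
    (Nat.lcm_dvd (Nat.lcm_dvd (dvd_cent_inv hG ht) ⟨_, h3.symm.trans (mul_comm _ _)⟩)
      ⟨_, h5.symm.trans (mul_comm _ _)⟩ : Nat.lcm (Nat.lcm 8 12) 20 ∣ _)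
  rw [hk] at hd h3 h5
  have hk' := Nat.dvd_of_mul_dvd_mul_left (by norm_num : 0 < 120) hd
  have hk_lt : k ≠ 1463 := fun h => cent_inv_ne_top hG ht (eq_top_of_card_eq _ (by rw [hk, h, hG]))
  have hn3 : Nat.card (Sylow 3 H) = 10 * k := by omega
  have hn5 : Nat.card (Sylow 5 H) = 6 * k := by omega
  rw [hn3] at h3m
  rw [hn5] at h5m
  have hmem : k ∈ Nat.divisors 1463 := Nat.mem_divisors.2 ⟨hk', by norm_num⟩
  rw [show Nat.divisors 1463 = {1, 7, 11, 19, 77, 133, 209, 1463} by decide +kernel] at hmem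
  simp only [Finset.mem_insert, Finset.mem_singleton] at hmem
  rw [hk]
  omega

end Cfsg.Agent.J1Order38
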