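import Mathlib

/-!
Checkable derivations of coset identities `K w = K v` from relations between five generators.
-/

set_option autoImplicit false

namespace Cfsg.Agent.J1Order38.Cert

/-- A binary tree of packed triples. -/
inductive T where
  | leaf (v : ℕ) : T
  | node (n : ℕ) (l r : T) : T

/-- The entry at a position. -/
def T.get : T → ℕ → ℕ
  | .leaf v, _ => v
  | .node n l r, k => bif Nat.blt k n then l.get k else r.get (k - n)

/-- The first node of a packed triple. -/
def srcT (v : ℕ) : ℕ := v / 1048576

/-- The letter of a packed triple. -/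
def letT (v : ℕ) : ℕ := v / 65536 % 16

/-- The last node of a packed triple. -/
def dstT (v : ℕ) : ℕ := v % 65536

/-- The inverse letter. -/
def invL (x : ℕ) : ℕ := bif Nat.beq (x % 2) 0 then x + 1 else x - 1

/-- Decode a list of numbers, each stored increased by one. -/
def dec : ℕ → ℕ → List ℕ
  | 0, _ => []
  | f + 1, n => bif Nat.beq n 0 then [] else (n % 65536 - 1) :: dec f (n / 65536)

/-- Equality of lists of numbers. -/
def leq : List ℕ → List ℕ → Bool
  | [], [] => true
  | a :: l, b :: m => Nat.beq a b && leq l m
  | _, _ => false

theorem eq_of_leq : ∀ {l m : List ℕ}, leq l m = true → l = m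
  | [], [], _ => rfl
  | a :: l, b :: m, h => by
    simp only [leq, Bool.and_eq_true] at h
    rw [Nat.eq_of_beq_eq_true h.1, eq_of_leq h.2]
  | [], _ :: _, h => by simp [leq] at h
  | _ :: _, [], h => by simp [leq] at h

/-- Follow references from a node: the end and the word. -/
def walk (t : T) (k : ℕ) : ℕ → List ℕ → Option (ℕ × List ℕ)
  | cur, [] => some (cur, [])
  | cur, r :: rs =>
    let v := t.get (r / 2)
    bif Nat.blt (r / 2) k then
      bif Nat.beq (r % 2) 0 then
        bif Nat.beq (srcT v) cur then
          (walk t k (dstT v) rs).map fun p =>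
            (p.1, bif Nat.beq (letT v) 10 then p.2 else letT v :: p.2)
        else none
      else
        bif Nat.beq (dstT v) cur then
          (walk t k (srcT v) rs).map fun p =>
            (p.1, bif Nat.beq (letT v) 10 then p.2 else invL (letT v) :: p.2)
        else none
    else none

/-- The inverse of a word. -/
def winv (w : List ℕ) : List ℕ := (w.map invL).reverse

/-- The relator named by a step. -/
def relWord (rels subs : List (List ℕ)) (kind a idx rot : ℕ) : Option (List ℕ) :=
  match kind with
  | 1 => (rels[idx]?).map fun w => w.drop rot ++ w.take rot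
  | 2 => (rels[idx]?).map fun w => (winv w).drop rot ++ (winv w).take rot
  | 3 => bif Nat.blt idx 10 then some [idx, invL idx] else none
  | 4 => bif Nat.beq a 0 then subs[idx]? else none
  | 5 => some []
  | _ => none

/-- Check the `k`-th step and return the new number of nodes. -/
def stepOk (t : T) (rels subs : List (List ℕ)) (k c : ℕ) (code : ℕ) : Option ℕ :=
  let v := t.get k
  match dec 80 code with
  | [0] => bif Nat.blt (srcT v) c && Nat.beq (dstT v) c && Nat.blt (letT v) 10 then some (c + 1) else none
  | kind :: a :: idx :: rot :: p :: idf :: nf :: refs =>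
    match relWord rels subs kind a idx rot, walk t k a (refs.take nf),
        walk t k (dstT v) (refs.drop nf) with
    | some w, some (f, P), some (a', Q) =>
      bif Nat.blt a c && Nat.blt (srcT v) c && Nat.blt (dstT v) c && Nat.beq f (srcT v) &&
          Nat.beq a' a && leq P (w.take p) &&
          (bif Nat.beq idf 1 then Nat.beq (letT v) 10 && leq Q (w.drop p)
           else leq (letT v :: Q) (w.drop p) && Nat.blt (letT v) 10) then some c else none
    | _, _, _ => none
  | _ => none

/-- Check consecutive steps. -/
def run (t : T) (rels subs : List (List ℕ)) : ℕ → ℕ → List ℕ → Option ℕ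
  | _, c, [] => some c
  | k, c, s :: ss => (stepOk t rels subs k c s).bind fun c' => run t rels subs (k + 1) c' ss

section Sound

variable {G : Type*} [Group G]

/-- The value of a letter. -/
def L (g : ℕ → G) (x : ℕ) : G := if x < 10 then (if x % 2 = 0 then g (x / 2) else (g (x / 2))⁻¹) else 1

/-- The value of a word. -/
def eval (g : ℕ → G) (w : List ℕ) : G := (w.map (L g)).prod

@[simp] theorem eval_nil (g : ℕ → G) : eval g [] = 1 := rfl

@[simp] theorem eval_cons (g : ℕ → G) (x : ℕ) (w : List ℕ) : eval g (x :: w) = L g x * eval g w := by
  simp [eval]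

theorem eval_append (g : ℕ → G) (v w : List ℕ) : eval g (v ++ w) = eval g v * eval g w := by
  simp [eval]

theorem map_L {H : Type*} [Group H] (f : G →* H) (g : ℕ → G) (x : ℕ) :
    f (L g x) = L (fun k => f (g k)) x := by
  unfold L; split_ifs <;> simp

theorem map_eval {H : Type*} [Group H] (f : G →* H) (g : ℕ → G) (w : List ℕ) :
    f (eval g w) = eval (fun k => f (g k)) w := by
  induction w with
  | nil => simp
  | cons x w ih => simp [map_L, ih]

theorem L_invL (g : ℕ → G) {x : ℕ} (hx : x < 10) : L g (invL x) = (L g x)⁻¹ := by
  interval_cases x <;> simp [L, invL, show (1:ℕ).beq 0 = false from rfl, show (0:ℕ).beq 0 = true from rfl]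

theorem eval_winv (g : ℕ → G) : ∀ {w : List ℕ}, (∀ x ∈ w, x < 10) → eval g (winv w) = (eval g w)⁻¹
  | [], _ => by simp [winv]
  | x :: w, h => by
    have hw := eval_winv g (w := w) fun y hy => h y (List.mem_cons_of_mem x hy)
    unfold winv at hw ⊢
    rw [List.map_cons, List.reverse_cons, eval_append, hw, eval_cons, eval_cons, eval_nil, mul_one,
      L_invL g (h x (List.mem_cons_self ..)), mul_inv_rev]

theorem eval_rotate_eq_one (g : ℕ → G) {w : List ℕ} (h : eval g w = 1) (rot : ℕ) :
    eval g (w.drop rot ++ w.take rot) = 1 := by
  have h' : eval g (w.take rot) * eval g (w.drop rot) = 1 := by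
    rw [← eval_append, List.take_append_drop, h]
  rw [eval_append, eq_inv_of_mul_eq_one_left h', mul_inv_cancel]

variable (g : ℕ → G) (K : Subgroup G)

/-- The identity named by a packed triple. -/
def Valid (el : ℕ → G) (v : ℕ) : Prop := el (srcT v) * L g (letT v) * (el (dstT v))⁻¹ ∈ K

/-- All steps before `k` hold, with `c` nodes named. -/
def Inv (t : T) (k c : ℕ) : Prop :=
  0 < c ∧ ∃ el : ℕ → G, el 0 = 1 ∧
    ∀ i < k, srcT (t.get i) < c ∧ dstT (t.get i) < c ∧ letT (t.get i) ≤ 10 ∧ Valid g K el (t.get i)

variable {g K}

theorem walk_sound {t : T} {k : ℕ} {el : ℕ → G} (hel : ∀ i < k, letT (t.get i) ≤ 10 ∧ Valid g K el (t.get i)) :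
    ∀ (refs : List ℕ) (cur f : ℕ) (P : List ℕ), walk t k cur refs = some (f, P) →
      el cur * eval g P * (el f)⁻¹ ∈ K := by
  intro refs
  induction refs with
  | nil =>
    intro cur f P h
    simp only [walk, Option.some.injEq, Prod.mk.injEq] at h
    obtain ⟨rfl, rfl⟩ := h
    simp [one_mem]
  | cons r rs ih =>
    intro cur f P h
    simp only [walk] at h
    cases hk : Nat.blt (r / 2) k with
    | false => simp [hk] at h
    | true =>
      obtain ⟨hlet, hv⟩ := hel _ (by simpa [Nat.blt] using hk)
      unfold Valid at hv
      set v := t.get (r / 2)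
      simp only [hk, cond_true] at h
      cases hpar : Nat.beq (r % 2) 0 with
      | true =>
        simp only [hpar, cond_true] at h
        cases hsrc : Nat.beq (srcT v) cur with
        | false => simp [hsrc] at h
        | true =>
          rw [Nat.eq_of_beq_eq_true hsrc] at hv
          simp only [hsrc, cond_true, Option.map_eq_some_iff] at h
          obtain ⟨⟨f', P'⟩, hw, he⟩ := h
          simp only [Prod.mk.injEq] at he
          obtain ⟨rfl, rfl⟩ := he
          have h2 := mul_mem hv (ih _ _ _ hw)
          cases hl : Nat.beq (letT v) 10 with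
          | true =>
            have e : L g (letT v) = 1 := by rw [Nat.eq_of_beq_eq_true hl]; rfl
            simp only [cond_true]
            rw [e] at h2
            simpa [mul_assoc] using h2
          | false =>
            simp only [cond_false, eval_cons]
            simpa [mul_assoc] using h2
      | false =>
        simp only [hpar, cond_false] at h
        cases hdst : Nat.beq (dstT v) cur with
        | false => simp [hdst] at h
        | true =>
          rw [Nat.eq_of_beq_eq_true hdst] at hv
          simp only [hdst, cond_true, Option.map_eq_some_iff] at h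
          obtain ⟨⟨f', P'⟩, hw, he⟩ := h
          simp only [Prod.mk.injEq] at he
          obtain ⟨rfl, rfl⟩ := he
          have h2 := mul_mem (inv_mem hv) (ih _ _ _ hw)
          cases hl : Nat.beq (letT v) 10 with
          | true =>
            have e : L g (letT v) = 1 := by rw [Nat.eq_of_beq_eq_true hl]; rfl
            simp only [cond_true]
            rw [e] at h2
            simpa [mul_assoc] using h2
          | false =>
            have hne : letT v ≠ 10 := by
              intro e
              rw [e] at hl
              simp at hl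
            simp only [cond_false, eval_cons, L_invL g (show letT v < 10 by omega)]
            simpa [mul_assoc] using h2

theorem relWord_sound {rels subs : List (List ℕ)} (hr : ∀ w ∈ rels, eval g w = 1)
    (hlet : ∀ w ∈ rels, ∀ x ∈ w, x < 10) (hs : ∀ w ∈ subs, eval g w ∈ K) (el : ℕ → G)
    (h0 : el 0 = 1) {kind a idx rot : ℕ} {w : List ℕ} (h : relWord rels subs kind a idx rot = some w) :
    el a * eval g w * (el a)⁻¹ ∈ K := by
  have key : eval g w = 1 → el a * eval g w * (el a)⁻¹ ∈ K := fun e => by simp [e, one_mem]
  unfold relWord at h
  split at h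
  · simp only [Option.map_eq_some_iff] at h
    obtain ⟨w', hw', rfl⟩ := h
    exact key (eval_rotate_eq_one g (hr _ (List.mem_of_getElem? hw')) _)
  · simp only [Option.map_eq_some_iff] at h
    obtain ⟨w', hw', rfl⟩ := h
    refine key (eval_rotate_eq_one g ?_ _)
    rw [eval_winv g (hlet _ (List.mem_of_getElem? hw')), hr _ (List.mem_of_getElem? hw'), inv_one]
  · cases hb : Nat.blt idx 10 with
    | false => simp [hb] at h
    | true =>
      simp only [hb, cond_true, Option.some.injEq] at h
      subst h
      refine key ?_
      simp [L_invL g (show idx < 10 by simpa [Nat.blt] using hb)]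
  · cases hb : Nat.beq a 0 with
    | false => simp [hb] at h
    | true =>
      simp only [hb, cond_true] at h
      rw [Nat.eq_of_beq_eq_true hb, h0]
      simpa using hs _ (List.mem_of_getElem? h)
  · simp only [Option.some.injEq] at h
    subst h
    exact key rfl
  · simp at h

theorem stepOk_sound {t : T} {rels subs : List (List ℕ)} (hr : ∀ w ∈ rels, eval g w = 1)
    (hlet : ∀ w ∈ rels, ∀ x ∈ w, x < 10) (hs : ∀ w ∈ subs, eval g w ∈ K) {k c code c' : ℕ}
    (h : stepOk t rels subs k c code = some c') (hI : Inv g K t k c) : Inv g K t (k + 1) c' := by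
  obtain ⟨hc, el, h0, hel⟩ := hI
  simp only [stepOk] at h
  split at h
  · -- a new node
    cases hb : (Nat.blt (srcT (t.get k)) c && Nat.beq (dstT (t.get k)) c && Nat.blt (letT (t.get k)) 10) with
    | false => simp [hb] at h
    | true =>
      simp only [hb, cond_true, Option.some.injEq] at h
      subst h
      simp only [Bool.and_eq_true, Nat.blt, Nat.ble_eq] at hb
      obtain ⟨⟨hsrc, hdst⟩, hl⟩ := hb
      have hdst' := Nat.eq_of_beq_eq_true hdst
      refine ⟨by omega, Function.update el c (el (srcT (t.get k)) * L g (letT (t.get k))), ?_, fun i hi => ?_⟩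
      · rw [Function.update_of_ne (by omega), h0]
      · rcases Nat.lt_succ_iff_lt_or_eq.1 hi with hi | rfl
        · obtain ⟨a1, a2, a3, a4⟩ := hel i hi
          refine ⟨by omega, by omega, a3, ?_⟩
          unfold Valid at a4 ⊢
          rwa [Function.update_of_ne (by omega), Function.update_of_ne (by omega)]
        · refine ⟨by omega, by omega, by omega, ?_⟩
          unfold Valid
          rw [hdst', Function.update_self, Function.update_of_ne (by omega), mul_inv_cancel]
          exact one_mem K
  · -- a derived identity
    rename_i kind a idx rot p idf nf refs _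
    split at h
    · rename_i w f P a' Q hw hP hQ
      cases hb : (Nat.blt a c && Nat.blt (srcT (t.get k)) c && Nat.blt (dstT (t.get k)) c &&
          Nat.beq f (srcT (t.get k)) && Nat.beq a' a && leq P (w.take p) &&
          (bif Nat.beq idf 1 then Nat.beq (letT (t.get k)) 10 && leq Q (w.drop p)
           else leq (letT (t.get k) :: Q) (w.drop p) && Nat.blt (letT (t.get k)) 10)) with
      | false => simp [hb] at h
      | true =>
        simp only [hb, cond_true, Option.some.injEq] at h
        subst h
        simp only [Bool.and_eq_true] at hb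
        obtain ⟨⟨⟨⟨⟨⟨ha, hsrc⟩, hdst⟩, hf⟩, ha'⟩, hP'⟩, hQ'⟩ := hb
        simp only [Nat.blt, Nat.ble_eq] at ha hsrc hdst
        have hel' : ∀ i < k, letT (t.get i) ≤ 10 ∧ Valid g K el (t.get i) :=
          fun i hi => ⟨(hel i hi).2.2.1, (hel i hi).2.2.2⟩
        have hfP := walk_sound hel' _ _ _ _ hP
        have hbQ := walk_sound hel' _ _ _ _ hQ
        have hrel := relWord_sound hr hlet hs el h0 hw
        rw [Nat.eq_of_beq_eq_true hf, eq_of_leq hP'] at hfP
        rw [Nat.eq_of_beq_eq_true ha'] at hbQ
        have hsplit : eval g w = eval g (w.take p) * eval g (w.drop p) := by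
          rw [← eval_append, List.take_append_drop]
        have hres : letT (t.get k) ≤ 10 ∧ eval g (w.drop p) = L g (letT (t.get k)) * eval g Q := by
          cases hi : Nat.beq idf 1 with
          | true =>
            simp only [hi, cond_true, Bool.and_eq_true] at hQ'
            rw [Nat.eq_of_beq_eq_true hQ'.1, eq_of_leq hQ'.2]
            exact ⟨le_rfl, by simp [L]⟩
          | false =>
            simp only [hi, cond_false, Bool.and_eq_true, Nat.blt, Nat.ble_eq] at hQ'
            rw [← eq_of_leq hQ'.1, eval_cons]
            exact ⟨by omega, rfl⟩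
        refine ⟨hc, el, h0, fun i hi => ?_⟩
        rcases Nat.lt_succ_iff_lt_or_eq.1 hi with hi | rfl
        · exact hel i hi
        · refine ⟨by omega, by omega, hres.1, ?_⟩
          unfold Valid
          rw [hsplit, hres.2] at hrel
          have h3 := mul_mem (mul_mem (inv_mem hfP) hrel) (inv_mem hbQ)
          simpa [mul_assoc] using h3
    · simp at h
  · simp at h

theorem run_sound {t : T} {rels subs : List (List ℕ)} (hr : ∀ w ∈ rels, eval g w = 1)
    (hlet : ∀ w ∈ rels, ∀ x ∈ w, x < 10) (hs : ∀ w ∈ subs, eval g w ∈ K) :
    ∀ (ss : List ℕ) {k c c' : ℕ}, run t rels subs k c ss = some c' → Inv g K t k c →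
      Inv g K t (k + ss.length) c' := by
  intro ss
  induction ss with
  | nil => intro k c c' h hI; simp only [run, Option.some.injEq] at h; subst h; simpa using hI
  | cons s ss ih =>
    intro k c c' h hI
    simp only [run, Option.bind_eq_some_iff] at h
    obtain ⟨c₁, h1, h2⟩ := h
    have := ih h2 (stepOk_sound hr hlet hs h1 hI)
    rwa [List.length_cons, show k + (ss.length + 1) = k + 1 + ss.length by omega]

theorem inv_zero (t : T) : Inv g K t 0 1 :=
  ⟨one_pos, fun _ => 1, rfl, fun _ h => absurd h (Nat.not_lt_zero _)⟩

end Sound

end Cfsg.Agent.J1Order38.Cert
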