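import Cfsg.Agent.FG78.NoSimple175560
import Cfsg.Agent.Lib.SmallGroups.Basic

/-!
Sylow normalisers for the primes 3, 5 and 7 in a simple group of order 175560.
-/

set_option autoImplicit false

namespace Cfsg.Agent.J1Order38

open Subgroup Cfsg.Agent.FG78 Cfsg.Agent.FG78.A175560 Cfsg.Agent.FG78.PrimeSylow

variable {G : Type*} [Group G] [Finite G] [IsSimpleGroup G]

set_option maxRecDepth 100000 in
theorem search_three : ∀ o ∈ options 175560 3, ¬ (o.1 = 2926 ∧ o.2 = 10) →
    search 175560 [19, 11, 7, 5] [(3, o)] = true := by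
  decide +kernel

set_option maxRecDepth 100000 in
theorem search_five : ∀ o ∈ options 175560 5, ¬ (o.1 = 2926 ∧ (o.2 = 3 ∨ o.2 = 6)) →
    search 175560 [19, 11, 7, 3] [(5, o)] = true := by
  decide +kernel

set_option maxRecDepth 100000 in
theorem search_seven : ∀ o ∈ options 175560 7, ¬ (o.1 = 4180 ∧ (o.2 = 1 ∨ o.2 = 2)) →
    search 175560 [19, 11, 5, 3] [(7, o)] = true := by
  decide +kernel

theorem five_mem {r : ℕ} (hr : r ∈ [19, 11, 7, 5, 3]) (hG : Nat.card G = 175560) :
    r.Prime ∧ r ∣ Nat.card G ∧ ¬ r ^ 2 ∣ Nat.card G ∧ Nat.card G ≠ r := by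
  rw [hG]
  fin_cases hr <;> norm_num

theorem forced {r : ℕ} (us : List ℕ) (P : ℕ × ℕ → Prop) [DecidablePred P] (hG : Nat.card G = 175560)
    (hperm : List.Perm (us ++ [r]) [19, 11, 7, 5, 3])
    (hs : ∀ o ∈ options 175560 r, ¬ P o → search 175560 us [(r, o)] = true) :
    P (Nat.card (Sylow r G), cOf G r) := by
  by_contra hP
  have hN : Nat.card G ∣ 175560 := dvd_of_eq hG
  have hU : ∀ s ∈ [19, 11, 7, 5, 3], s.Prime ∧ s ∣ Nat.card G ∧ ¬ s ^ 2 ∣ Nat.card G ∧ Nat.card G ≠ s :=
    fun s hs => five_mem hs hG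
  have hr : r ∈ [19, 11, 7, 5, 3] := hperm.mem_iff.mp (by simp)
  have hopt := fun s hs => options_mem hN (hU s hs).1 (hU s hs).2.1 (hU s hs).2.2.1 (hU s hs).2.2.2
  have hfalse := search_false (m := Nat.card G) (fun s => (Nat.card (Sylow s G), cOf G s))
    [19, 11, 7, 5, 3] hopt
    (fun a ha b hb hab => compat_true hN (hU a ha).1 (hU b hb).1 hab (hU a ha).2.1 (hU b hb).2.1
      (hU a ha).2.2.1 (hU b hb).2.2.1)
    (fun l hl hsub => le_total l hl (fun a ha => (hU a (hsub a ha)).1)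
      (fun a ha => (hU a (hsub a ha)).2.1) (fun a ha => (hU a (hsub a ha)).2.2.1))
    us [r] (hperm.nodup_iff.mpr (by decide)) (fun x hx => hperm.mem_iff.mp hx)
  have := hs _ (hG ▸ hopt r hr) hP
  rw [hG] at hfalse
  simp only [List.map_cons, List.map_nil] at hfalse
  rw [this] at hfalse
  simp at hfalse

theorem card_normalizer_eq {r : ℕ} [hr : Fact r.Prime] (hG : Nat.card G = 175560) {n k : ℕ}
    (hn : Nat.card (Sylow r G) = n) (hk : 175560 = n * k) (P : Sylow r G) :
    Nat.card (normalizer ((P : Subgroup G) : Set G)) = k :=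
  SmallGroups.normalizer_conj_eq_card P hn (hG.trans (hk.trans (mul_comm n k)))

/-- The normaliser of a Sylow 3-subgroup has order 60 and its centraliser order 30. -/
theorem sylow_three (hG : Nat.card G = 175560) [Fact (Nat.Prime 3)] (P : Sylow 3 G) :
    Nat.card (normalizer ((P : Subgroup G) : Set G)) = 60 ∧ Nat.card (cent P) = 30 := by
  obtain ⟨hn, hc⟩ := forced (r := 3) [19, 11, 7, 5] (fun o => o.1 = 2926 ∧ o.2 = 10) hG
    (by decide) search_three
  obtain ⟨-, hd, hsq, -⟩ := five_mem (G := G) (r := 3) (by simp) hG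
  refine ⟨card_normalizer_eq hG hn (by norm_num) P, ?_⟩
  rw [card_cent_eq_mul hd hsq P, show cOf G 3 = 10 from hc]

/-- The normaliser of a Sylow 5-subgroup has order 60 and its centraliser order 15 or 30. -/
theorem sylow_five (hG : Nat.card G = 175560) [Fact (Nat.Prime 5)] (P : Sylow 5 G) :
    Nat.card (normalizer ((P : Subgroup G) : Set G)) = 60 ∧
      (Nat.card (cent P) = 15 ∨ Nat.card (cent P) = 30) := by
  obtain ⟨hn, hc⟩ := forced (r := 5) [19, 11, 7, 3] (fun o => o.1 = 2926 ∧ (o.2 = 3 ∨ o.2 = 6)) hG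
    (by decide) search_five
  obtain ⟨-, hd, hsq, -⟩ := five_mem (G := G) (r := 5) (by simp) hG
  refine ⟨card_normalizer_eq hG hn (by norm_num) P, ?_⟩
  rw [card_cent_eq_mul hd hsq P]
  rcases hc with h | h <;> simp only at h <;> rw [h] <;> norm_num

/-- The normaliser of a Sylow 7-subgroup has order 42 and its centraliser order 7 or 14. -/
theorem sylow_seven (hG : Nat.card G = 175560) [Fact (Nat.Prime 7)] (P : Sylow 7 G) :
    Nat.card (normalizer ((P : Subgroup G) : Set G)) = 42 ∧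
      (Nat.card (cent P) = 7 ∨ Nat.card (cent P) = 14) := by
  obtain ⟨hn, hc⟩ := forced (r := 7) [19, 11, 5, 3] (fun o => o.1 = 4180 ∧ (o.2 = 1 ∨ o.2 = 2)) hG
    (by decide) search_seven
  obtain ⟨-, hd, hsq, -⟩ := five_mem (G := G) (r := 7) (by simp) hG
  refine ⟨card_normalizer_eq hG hn (by norm_num) P, ?_⟩
  rw [card_cent_eq_mul hd hsq P]
  rcases hc with h | h <;> simp only at h <;> rw [h] <;> norm_num

end Cfsg.Agent.J1Order38
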