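import Cfsg.Agent.J1Order38.Gens

/-!
Consequences of a checked coset derivation: collapse and permutation action.
-/

set_option autoImplicit false

namespace Cfsg.Agent.J1Order38

open Cert Subgroup

theorem case_rels {G : Type*} [Group G] {g : ℕ → G} {w : List ℕ} (hb : ∀ v ∈ baseRels, eval g v = 1)
    (he : eval g (caseRel w) = 1) : ∀ v ∈ baseRels ++ [caseRel w], eval g v = 1 := by
  intro v hv
  rcases List.mem_append.1 hv with hv | hv
  · exact hb v hv
  · rw [List.mem_singleton.1 hv]; exact he

theorem subWords_mem {G : Type*} [Group G] (g : ℕ → G) : ∀ w ∈ subWords, eval g w ∈ cosetGroup g := by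
  intro w hw
  simp only [subWords, List.mem_cons, List.not_mem_nil, or_false] at hw
  rcases hw with rfl | rfl | rfl | rfl <;> refine subset_closure ?_ <;> simp [L]

theorem run_next {G : Type*} [Group G] {g : ℕ → G} {K : Subgroup G} {t : T} {rels subs : List (List ℕ)}
    (hr : ∀ w ∈ rels, eval g w = 1) (hlet : ∀ w ∈ rels, ∀ x ∈ w, x < 10)
    (hs : ∀ w ∈ subs, eval g w ∈ K) {ss : List ℕ} {k k' c c' : ℕ}
    (h : run t rels subs k c ss = some c') (hk : k + ss.length = k') (hI : Inv g K t k c) :
    Inv g K t k' c' :=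
  hk ▸ run_sound hr hlet hs ss h hI

theorem r_mem_of_derived {G : Type*} [Group G] {g : ℕ → G} {t : T} {N c i v : ℕ}
    (hI : Inv g (cosetGroup g) t N c) (hi : i < N) (hv : t.get i = v)
    (h : v = 4 * 65536 ∨ v = 5 * 65536) : g 2 ∈ cosetGroup g := by
  obtain ⟨-, el, h0, hel⟩ := hI
  have hval := (hel i hi).2.2.2
  rw [hv] at hval
  rcases h with rfl | rfl
  · simpa [Valid, srcT, dstT, letT, L, h0] using hval
  · simpa [Valid, srcT, dstT, letT, L, h0] using hval

/-- Test a property below a bound. -/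
def allBelow : ℕ → (ℕ → Bool) → Bool
  | 0, _ => true
  | n + 1, f => f n && allBelow n f

theorem of_allBelow : ∀ {n : ℕ} {f : ℕ → Bool}, allBelow n f = true → ∀ i < n, f i = true
  | n + 1, f, h, i, hi => by
    simp only [allBelow, Bool.and_eq_true] at h
    rcases Nat.lt_succ_iff_lt_or_eq.1 hi with hi | rfl
    · exact of_allBelow h.2 i hi
    · exact h.1

/-- The table of preimages under a generator is justified by derived identities. -/
def tableOk (facts node pre ref : T) (k N n : ℕ) : Bool :=
  allBelow n fun l =>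
    let r := ref.get l
    let m := pre.get l
    let v := facts.get (r / 2)
    Nat.blt (r / 2) N && Nat.blt m n &&
      (bif Nat.beq (r % 2) 0 then
        Nat.beq (srcT v) (node.get m) && Nat.beq (dstT v) (node.get l) && Nat.beq (letT v) (2 * k)
      else
        Nat.beq (srcT v) (node.get l) && Nat.beq (dstT v) (node.get m) && Nat.beq (letT v) (2 * k + 1))

theorem table_edge {G : Type*} [Group G] {g : ℕ → G} {K : Subgroup G} {el : ℕ → G}
    {facts node pre ref : T} {k N n : ℕ} (hk : k < 5) (h : tableOk facts node pre ref k N n = true)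
    (hel : ∀ i < N, Valid g K el (facts.get i)) :
    ∀ l < n, pre.get l < n ∧ el (node.get (pre.get l)) * g k * (el (node.get l))⁻¹ ∈ K := by
  intro l hl
  have h1 := of_allBelow h l hl
  simp only [Bool.and_eq_true, Nat.blt, Nat.ble_eq] at h1
  obtain ⟨⟨hr, hm⟩, hv⟩ := h1
  have hval := hel _ hr
  unfold Valid at hval
  refine ⟨hm, ?_⟩
  cases hb : Nat.beq (ref.get l % 2) 0 with
  | true =>
    simp only [hb, cond_true, Bool.and_eq_true] at hv
    rw [Nat.eq_of_beq_eq_true hv.1.1, Nat.eq_of_beq_eq_true hv.1.2, Nat.eq_of_beq_eq_true hv.2] at hval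
    have e : L g (2 * k) = g k := by
      unfold L; rw [if_pos (by omega), if_pos (by omega)]; congr 1; omega
    rwa [e] at hval
  | false =>
    simp only [hb, cond_false, Bool.and_eq_true] at hv
    rw [Nat.eq_of_beq_eq_true hv.1.1, Nat.eq_of_beq_eq_true hv.1.2, Nat.eq_of_beq_eq_true hv.2] at hval
    have e : L g (2 * k + 1) = (g k)⁻¹ := by
      unfold L; rw [if_pos (by omega), if_neg (by omega)]; congr 2; omega
    rw [e] at hval
    have := inv_mem hval
    simpa [mul_assoc] using this

/-- The permutations given by tables. -/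
def tableSet (pre : ℕ → T) : Set (Equiv.Perm (Fin 1045)) :=
  {σ | ∃ k < 5, ∀ l : Fin 1045, (σ l : ℕ) = (pre k).get l}

theorem exists_action {G : Type*} [Group G] [Finite G] [IsSimpleGroup G] (hG : Nat.card G = 175560)
    {g : ℕ → G} (htop : closure (g '' {i | i < 5}) = ⊤) (hK : Nat.card (cosetGroup g) = 168)
    {facts node : T} {pre ref : ℕ → T} {N c : ℕ} (hI : Inv g (cosetGroup g) facts N c)
    (h0 : node.get 0 = 0) (hok : ∀ k < 5, tableOk facts node (pre k) (ref k) k N 1045 = true) :
    ∃ ρ : G →* Equiv.Perm (Fin 1045), Function.Injective ρ ∧ ρ.range = closure (tableSet pre) ∧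
      ∀ k < 5, ∃ σ : Equiv.Perm (Fin 1045), ∀ l : Fin 1045, (σ l : ℕ) = (pre k).get l := by
  classical
  obtain ⟨-, el, he0, hel⟩ := hI
  set K := cosetGroup g
  have hedge := fun k (hk : k < 5) => table_edge hk (hok k hk) fun i hi => (hel i hi).2.2.2
  let ψ : Fin 1045 → G ⧸ K := fun l => QuotientGroup.mk (el (node.get l))⁻¹
  have hact : ∀ k (hk : k < 5) (l : Fin 1045),
      g k • ψ l = ψ ⟨(pre k).get l, (hedge k hk l l.isLt).1⟩ := by
    intro k hk l
    symm
    show (QuotientGroup.mk (el (node.get ((pre k).get l)))⁻¹ : G ⧸ K) = QuotientGroup.mk (g k * (el (node.get l))⁻¹)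
    rw [QuotientGroup.eq, inv_inv, ← mul_assoc]
    exact (hedge k hk l l.isLt).2
  -- every coset is named
  have hinv : ∀ a : G, ∀ l, ∃ m, a • ψ l = ψ m := by
    intro a
    have ha : a ∈ closure (g '' {i | i < 5}) := htop ▸ mem_top a
    induction ha using closure_induction with
    | mem x hx =>
      obtain ⟨k, hk, rfl⟩ := hx
      exact fun l => ⟨_, hact k hk l⟩
    | one => exact fun l => ⟨l, one_smul _ _⟩
    | mul x y _ _ hx hy =>
      intro l
      obtain ⟨m, hm⟩ := hy l
      obtain ⟨m', hm'⟩ := hx m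
      exact ⟨m', by rw [mul_smul, hm, hm']⟩
    | inv x _ hx =>
      intro l
      choose f hf using hx
      have hmaps : Set.MapsTo (fun q => x • q) (Set.range ψ) (Set.range ψ) := by
        rintro _ ⟨l, rfl⟩; exact ⟨f l, (hf l).symm⟩
      obtain ⟨q, ⟨m, rfl⟩, hq⟩ := ((Set.finite_range ψ).injOn_iff_bijOn_of_mapsTo hmaps).1
        (MulAction.injective x).injOn |>.surjOn (Set.mem_range_self l)
      exact ⟨m, inv_smul_eq_iff.2 hq.symm⟩
  have hψ0 : ψ 0 = QuotientGroup.mk 1 := by
    show (QuotientGroup.mk (el (node.get 0))⁻¹ : G ⧸ K) = _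
    rw [h0, he0, inv_one]
  have hsur : Function.Surjective ψ := by
    intro q
    induction q using QuotientGroup.induction_on with
    | H a =>
      obtain ⟨m, hm⟩ := hinv a 0
      refine ⟨m, ?_⟩
      rw [← hm, hψ0]
      show (QuotientGroup.mk (a * 1) : G ⧸ K) = QuotientGroup.mk a
      rw [mul_one]
  have hidx : Nat.card (G ⧸ K) = 1045 := by
    have h := K.card_eq_card_quotient_mul_card_subgroup
    rw [hG, hK] at h
    omega
  have hbij : Function.Bijective ψ := by
    rw [Nat.bijective_iff_surjective_and_card]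
    exact ⟨hsur, by rw [hidx, Nat.card_fin]⟩
  let e := Equiv.ofBijective ψ hbij
  let ρ : G →* Equiv.Perm (Fin 1045) :=
    e.symm.permCongrHom.toMonoidHom.comp (MulAction.toPermHom G (G ⧸ K))
  have hρ : ∀ k (hk : k < 5) (l : Fin 1045), (ρ (g k) l : ℕ) = (pre k).get l := by
    intro k hk l
    have h1 : ρ (g k) l = e.symm (g k • ψ l) := rfl
    rw [h1, hact k hk l]
    show (e.symm (e ⟨(pre k).get l, (hedge k hk l l.isLt).1⟩) : ℕ) = _
    rw [Equiv.symm_apply_apply]
  refine ⟨ρ, ?_, ?_, fun k hk => ⟨ρ (g k), hρ k hk⟩⟩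
  · rw [← MonoidHom.ker_eq_bot_iff]
    rcases IsSimpleGroup.eq_bot_or_eq_top_of_normal ρ.ker inferInstance with h | h
    · exact h
    · exfalso
      haveI : Subsingleton (G ⧸ K) := ⟨fun p q => by
        induction p using QuotientGroup.induction_on with
        | H a =>
          induction q using QuotientGroup.induction_on with
          | H b =>
            have hb : ρ (b * a⁻¹) = 1 := MonoidHom.mem_ker.1 (h ▸ mem_top _)
            have h2 : e.symm ((b * a⁻¹) • e (e.symm (QuotientGroup.mk a))) = e.symm (QuotientGroup.mk a) :=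
              DFunLike.congr_fun hb (e.symm (QuotientGroup.mk a))
            rw [Equiv.apply_symm_apply] at h2
            have h3 : ((b * a⁻¹) • (QuotientGroup.mk a : G ⧸ K)) = QuotientGroup.mk a := e.symm.injective h2
            rw [← h3]
            show (QuotientGroup.mk (b * a⁻¹ * a) : G ⧸ K) = QuotientGroup.mk b
            rw [inv_mul_cancel_right]⟩
      have := Nat.card_of_subsingleton (QuotientGroup.mk 1 : G ⧸ K)
      omega
  · rw [MonoidHom.range_eq_map, ← htop, MonoidHom.map_closure]
    congr 1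
    ext σ
    constructor
    · rintro ⟨_, ⟨k, hk, rfl⟩, rfl⟩
      exact ⟨k, hk, hρ k hk⟩
    · rintro ⟨k, hk, hσ⟩
      refine ⟨g k, ⟨k, hk, rfl⟩, ?_⟩
      ext l
      rw [hρ k hk l, hσ l]

end Cfsg.Agent.J1Order38
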