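import Cfsg.Agent.J1Order38.Three
import Cfsg.Agent.Lib.SmallGroups.Counting
import Cfsg.Agent.S0494

/-!
An involution centraliser in a simple group of order 175560 is `C₂ × A₅`.
-/

set_option autoImplicit false
set_option linter.style.haveILetI false

namespace Cfsg.Agent.J1Order38

open Subgroup Cfsg.Agent.FG78

variable {G : Type*} [Group G] [Finite G]

/-- Elements of prime order form a set of size `(p - 1) n_p`, and with a central involution so do
their products with it. -/
theorem card_two_order {H : Type*} [Group H] [Finite H] {p : ℕ} [hp : Fact p.Prime] (hp2 : p ≠ 2)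
    (hsq : ¬ p ^ 2 ∣ Nat.card H) (hd : p ∣ Nat.card H) {t : H} (ht : orderOf t = 2)
    (htc : ∀ g, t * g = g * t) :
    Nat.card {g : H // orderOf g = p ∨ orderOf g = 2 * p} ≥ 2 * (Nat.card (Sylow p H) * (p - 1)) := by
  have h := SmallGroups.card_orderOf_eq (G := H) (p := p) fun P => PrimeSylow.card_sylow_eq hd hsq P
  have hcop : Nat.Coprime 2 p := (Nat.coprime_primes Nat.prime_two hp.out).2 (Ne.symm hp2)
  rw [← h, ge_iff_le, two_mul (Nat.card {g : H // orderOf g = p}), ← Nat.card_sum]
  let f : {g : H // orderOf g = p} ⊕ {g : H // orderOf g = p} → {g : H // orderOf g = p ∨ orderOf g = 2 * p} :=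
    Sum.elim (fun g => ⟨g, Or.inl g.2⟩) (fun g => ⟨t * g, Or.inr (by
      rw [(show Commute t (g : H) from htc g).orderOf_mul_eq_mul_orderOf_of_coprime (by rw [ht, g.2]; exact hcop),
        ht, g.2])⟩)
  refine Nat.card_le_card_of_injective f ?_
  have hne : ∀ a b : {g : H // orderOf g = p}, (a : H) ≠ t * b := by
    intro a b e
    have h1 : orderOf (t * (b : H)) = 2 * p := by
      rw [(show Commute t (b : H) from htc b).orderOf_mul_eq_mul_orderOf_of_coprime (by rw [ht, b.2]; exact hcop),
        ht, b.2]
    rw [← e, a.2] at h1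
    have := hp.out.pos
    omega
  rintro (a | a) (b | b) e <;> simp only [f, Sum.elim_inl, Sum.elim_inr, Subtype.mk.injEq] at e
  · exact congrArg Sum.inl (Subtype.ext e)
  · exact absurd e (hne a b)
  · exact absurd e.symm (hne b a)
  · exact congrArg Sum.inr (Subtype.ext (mul_left_cancel e))

theorem two_eq : ∀ z : Multiplicative (ZMod 2), z ≠ 1 → z = Multiplicative.ofAdd 1 := by decide

variable [IsSimpleGroup G] (hG : Nat.card G = 175560)
include hG

theorem five_normalizer_eq {x y : G} (hx : orderOf x = 3) (hy : orderOf y = 5)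
    (hyC : y ∈ centralizer ({x} : Set G)) :
    normalizer ((zpowers x : Subgroup G) : Set G) = normalizer ((zpowers y : Subgroup G) : Set G) := by
  obtain ⟨y₀, hy₀, hy₀C, hN⟩ := exists_five_cent hG hx
  have h := five_unique (three_data hG hx).2 hx (self_mem_cent x) hy₀ hy₀C
    (mem_cent_iff.1 hy₀C).symm hy hyC
  rw [hN, eq_of_le_of_card_ge (zpowers_le.2 h) (by rw [Nat.card_zpowers, Nat.card_zpowers, hy, hy₀])]

/-- The Sylow numbers of an involution centraliser. -/
theorem cent_inv_sylow {t : G} (ht : orderOf t = 2) :
    Nat.card (Sylow 5 (centralizer ({t} : Set G))) = 6 ∧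
      Nat.card (Sylow 3 (centralizer ({t} : Set G))) = 10 := by
  haveI := Fact.mk (by norm_num : Nat.Prime 3)
  haveI := Fact.mk (by norm_num : Nat.Prime 5)
  set H := centralizer ({t} : Set G) with hHdef
  have hH : Nat.card H = 120 := cent_inv_card hG ht
  obtain ⟨x, hxH, hx⟩ := exists_orderOf_prime (r := 3) H (by rw [hH]; norm_num)
  obtain ⟨y, hyH, hy⟩ := exists_orderOf_prime (r := 5) H (by rw [hH]; norm_num)
  obtain ⟨h3, h3m⟩ := count_in (r := 3) H (not_dvd_sq hG (by simp) H) hxH hx
  obtain ⟨h5, h5m⟩ := count_in (r := 5) H (not_dvd_sq hG (by simp) H) hyH hy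
  rw [hH] at h3 h5
  set D5 := H ⊓ normalizer ((zpowers y : Subgroup G) : Set G)
  set D3 := H ⊓ normalizer ((zpowers x : Subgroup G) : Set G)
  have h5' : Nat.card D5 ∣ 60 := (five_data hG hy).1 ▸ card_dvd_of_le inf_le_right
  have h3' : Nat.card D3 ∣ 60 := (three_data hG hx).1 ▸ card_dvd_of_le inf_le_right
  -- the involution normalises both
  have hy10 : 10 ∣ Nat.card D5 := by
    have hcop : Nat.Coprime (orderOf t) (orderOf y) := by rw [ht, hy]; norm_num
    have ho : orderOf (t * y) = 10 := by
      rw [(show Commute t y from (mem_cent_iff.1 hyH).symm).orderOf_mul_eq_mul_orderOf_of_coprime hcop, ht, hy]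
    have hm : t * y ∈ D5 := ⟨mul_mem (self_mem_cent t) hyH,
      mul_mem (cent_le_norm y (cent_comm_symm hyH)) (le_normalizer (mem_zpowers y))⟩
    rw [← ho, ← orderOf_mk _ hm]
    exact orderOf_dvd_natCard _
  have hx6 : 6 ∣ Nat.card D3 := by
    have hcop : Nat.Coprime (orderOf t) (orderOf x) := by rw [ht, hx]; norm_num
    have ho : orderOf (t * x) = 6 := by
      rw [(show Commute t x from (mem_cent_iff.1 hxH).symm).orderOf_mul_eq_mul_orderOf_of_coprime hcop, ht, hx]
    have hm : t * x ∈ D3 := ⟨mul_mem (self_mem_cent t) hxH,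
      mul_mem (cent_le_norm x (cent_comm_symm hxH)) (le_normalizer (mem_zpowers x))⟩
    rw [← ho, ← orderOf_mk _ hm]
    exact orderOf_dvd_natCard _
  have d5 : Nat.card D5 = 20 := by
    have hle := Nat.le_of_dvd (by norm_num) h5'
    obtain ⟨m, hm⟩ := hy10
    rw [hm] at h5 h5' hle
    have hm1 : m ≤ 6 := by omega
    interval_cases m <;> omega
  have n5 : Nat.card (Sylow 5 H) = 6 := by rw [d5] at h5; omega
  refine ⟨n5, ?_⟩
  have d3 : Nat.card D3 = 12 := by
    obtain ⟨m, hm⟩ := hx6
    have hle := Nat.le_of_dvd (by norm_num) h3'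
    rw [hm] at h3 hle h3'
    have hm1 : m ≤ 10 := by omega
    rcases Nat.lt_or_ge m 2 with hlt | hge
    · interval_cases m <;> omega
    by_cases h5m' : 5 ∣ m
    · -- an element of order five would normalise `⟨x⟩`
      exfalso
      obtain ⟨z, hzD, hz⟩ := exists_orderOf_prime (r := 5) D3 (hm ▸ Dvd.dvd.mul_left h5m' 6)
      have hzC : z ∈ centralizer ({x} : Set G) := by
        obtain ⟨i, hi⟩ := mem_zpowers_iff.1 ((mem_normalizer_iff.1 hzD.2 x).1 (mem_zpowers x))
        rw [mem_cent_iff]
        refine comm_of_conj ?_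
        have hcy : ∀ j : ℕ, z ^ j * x * (z ^ j)⁻¹ = x ^ (i ^ j) := by
          intro j
          induction j with
          | zero => simp
          | succ j ih =>
            calc z ^ (j + 1) * x * (z ^ (j + 1))⁻¹ = z * (z ^ j * x * (z ^ j)⁻¹) * z⁻¹ := by
                  rw [pow_succ']; group
              _ = z * x ^ (i ^ j) * z⁻¹ := by rw [ih]
              _ = (z * x * z⁻¹) ^ (i ^ j) := map_zpow (MulAut.conj z) x _
              _ = x ^ (i ^ (j + 1)) := by rw [← hi, ← zpow_mul, pow_succ']
        have h1 := hcy 5
        rw [orderOf_dvd_iff_pow_eq_one.1 (dvd_of_eq hz), inv_one, one_mul, mul_one] at h1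
        have h3d : (3 : ℤ) ∣ i ^ 5 - 1 := by
          have := orderOf_dvd_iff_zpow_eq_one.2 (show x ^ (i ^ 5 - 1) = 1 by
            rw [zpow_sub, ← h1, zpow_one, mul_inv_cancel])
          rw [hx] at this
          exact_mod_cast this
        have hi1 : (3 : ℤ) ∣ i - 1 := by
          have e : i ^ 5 ≡ (i % 3) ^ 5 [ZMOD 3] := (Int.mod_modEq i 3).symm.pow 5
          unfold Int.ModEq at e
          have hr : i % 3 = 0 ∨ i % 3 = 1 ∨ i % 3 = 2 := by omega
          rcases hr with hr | hr | hr <;> rw [hr] at e <;> norm_num at e <;> omega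
        rw [← hi]
        have : x ^ (i - 1) = 1 := orderOf_dvd_iff_zpow_eq_one.1 (by rw [hx]; exact_mod_cast hi1)
        calc x ^ i = x ^ (i - 1) * x := by rw [← zpow_add_one]; ring_nf
          _ = x := by rw [this, one_mul]
      have hN := five_normalizer_eq hG hx hz hzC
      obtain ⟨hz5, -⟩ := count_in (r := 5) H (not_dvd_sq hG (by simp) H) hzD.1 hz
      rw [← hN, hH, n5, hm] at hz5
      interval_cases m <;> omega
    · interval_cases m <;> omega
  rw [d3] at h3
  omega

/-- An involution centraliser is the direct product of a group of order two and `A₅`. -/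
theorem exists_equiv {t : G} (ht : orderOf t = 2) :
    ∃ e : (centralizer ({t} : Set G)) ≃* Multiplicative (ZMod 2) × alternatingGroup (Fin 5),
      e ⟨t, self_mem_cent t⟩ = (Multiplicative.ofAdd 1, 1) := by
  classical
  haveI := Fact.mk (by norm_num : Nat.Prime 3)
  haveI := Fact.mk (by norm_num : Nat.Prime 5)
  haveI : Fact (Nat.Prime 2) := ⟨Nat.prime_two⟩
  set H := centralizer ({t} : Set G) with hHdef
  have hH : Nat.card H = 120 := cent_inv_card hG ht
  obtain ⟨n5, n3⟩ := cent_inv_sylow hG ht
  set t' : H := ⟨t, self_mem_cent t⟩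
  have ht' : orderOf t' = 2 := by rw [orderOf_mk, ht]
  have htc : ∀ g : H, t' * g = g * t' := fun g => Subtype.ext (mem_cent_iff.1 g.2).symm
  haveI hZn : (zpowers t').Normal := ⟨fun z hz g => by
    obtain ⟨i, rfl⟩ := mem_zpowers_iff.1 hz
    rw [((show Commute t' g from htc g).zpow_left i).symm.eq, mul_inv_cancel_right]
    exact zpow_mem (mem_zpowers t') i⟩
  -- normal subgroups over the involution
  have hsimple : ∀ M : Subgroup H, M.Normal → zpowers t' ≤ M → M = zpowers t' ∨ M = ⊤ := by
    intro M hM hle
    haveI := hM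
    have hM120 : Nat.card M ∣ 120 := hH ▸ card_subgroup_dvd_card M
    have h2 : 2 ∣ Nat.card M := by
      rw [← ht', ← Nat.card_zpowers]
      exact card_dvd_of_le hle
    -- all elements of a prime order lie in `M` when one does
    have hall : ∀ p : ℕ, Fact p.Prime → ¬ p ^ 2 ∣ 120 → p ∣ Nat.card M → ∀ g : H, orderOf g = p → g ∈ M := by
      intro p hp hsq hpM g hg
      obtain ⟨⟨z, hzM⟩, hz⟩ := exists_prime_orderOf_dvd_card' (G := M) p hpM
      rw [orderOf_mk] at hz
      obtain ⟨P, hP⟩ := exists_sylow_zpowers (by rw [hH]; exact hsq) hz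
      obtain ⟨Q, hQ⟩ := exists_sylow_zpowers (by rw [hH]; exact hsq) hg
      obtain ⟨c, hc⟩ := MulAction.exists_smul_eq H P Q
      have hgQ : g ∈ (Q : Subgroup H) := hQ ▸ mem_zpowers g
      rw [← hc] at hgQ
      obtain ⟨w, hw, rfl⟩ := hgQ
      rw [hP] at hw
      exact hM.conj_mem w ((zpowers_le.2 hzM) hw) c
    -- counting elements of order `p` and `2p`
    have hcount : ∀ p : ℕ, ∀ hp : Fact p.Prime, p ≠ 2 → ¬ p ^ 2 ∣ 120 → p ∣ Nat.card M →
        2 * (Nat.card (Sylow p H) * (p - 1)) ≤ Nat.card {g : H // g ∈ M ∧ (orderOf g = p ∨ orderOf g = 2 * p)} := by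
      intro p hp hp2 hsq hpM
      have hd : p ∣ Nat.card H := hpM.trans (card_subgroup_dvd_card M)
      refine (card_two_order hp2 (by rw [hH]; exact hsq) hd ht' htc).trans (Nat.card_le_card_of_injective
        (fun g => ⟨g.1, ?_, g.2⟩) fun a b e => Subtype.ext (congrArg (fun z => z.1) e))
      rcases g.2 with hg | hg
      · exact hall p hp hsq hpM _ hg
      · have hsq1 : orderOf (g.1 ^ 2) = p := by
          rw [orderOf_pow' _ (by norm_num), hg, Nat.gcd_eq_right (dvd_mul_right 2 p),
            Nat.mul_div_cancel_left _ two_pos]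
        have hpow : g.1 ^ p * t' ∈ M ∧ g.1 ^ 2 ∈ M := by
          refine ⟨?_, hall p hp hsq hpM _ hsq1⟩
          by_cases h : g.1 ^ p = t'
          · rw [h]; exact mul_mem (hle (mem_zpowers _)) (hle (mem_zpowers _))
          · -- another involution commuting with an element of order `p`
            exfalso
            have hv2 : orderOf (g.1 ^ p) = 2 := by
              rw [orderOf_pow' _ hp.out.ne_zero, hg, Nat.gcd_eq_right (dvd_mul_left p 2),
                Nat.mul_div_cancel _ hp.out.pos]
            have hne : g.1 ^ p * t' ≠ 1 := by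
              intro e1
              have e2 : t' * t' = 1 := by rw [← pow_two, ← ht']; exact pow_orderOf_eq_one t'
              exact h ((eq_inv_of_mul_eq_one_left e1).trans (inv_eq_of_mul_eq_one_right e2))
            have hcw : Commute (g.1 ^ 2) (g.1 ^ p) := Commute.pow_pow_self _ _ _
            have h8 : ∀ v : H, (orderOf v = 2 ∧ Commute (g.1 ^ 2) v) →
                (v : G) ∈ centralizer ({((g.1 ^ 2 : H) : G)} : Set G) := fun v hv =>
              mem_cent_iff.2 (congrArg Subtype.val hv.2.eq).symm
            have hc1 := h8 _ ⟨hv2, hcw⟩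
            have hc2 := h8 t' ⟨ht', (htc _).symm⟩
            -- a four-group in a centraliser whose order is not divisible by four
            have h4 : 4 ∣ Nat.card (centralizer ({((g.1 ^ 2 : H) : G)} : Set G)) := by
              set K := closure ({g.1 ^ p, t'} : Set H) with hKdef
              have hKle : K.map H.subtype ≤ centralizer ({((g.1 ^ 2 : H) : G)} : Set G) := by
                rw [hKdef, MonoidHom.map_closure, closure_le]
                rintro _ ⟨v, (rfl | rfl), rfl⟩
                · exact hc1
                · exact hc2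
              refine dvd_trans ?_ (card_dvd_of_le hKle)
              rw [card_map_of_injective H.subtype_injective]
              have ha : g.1 ^ p ∈ K := subset_closure (by simp)
              have hb : t' ∈ K := subset_closure (by simp)
              have hdK : 2 ∣ Nat.card K := by
                rw [← ht', ← orderOf_mk t' hb]; exact orderOf_dvd_natCard _
              have hKp : IsPGroup 2 K := by
                refine fun k => ⟨1, ?_⟩
                refine Subtype.ext ?_
                show (k : H) ^ 2 ^ 1 = 1
                rw [pow_one]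
                refine closure_induction (p := fun z _ => z ^ 2 = 1) ?_ (one_pow 2) ?_ ?_ k.2
                · rintro z (rfl | rfl)
                  · exact orderOf_dvd_iff_pow_eq_one.1 (dvd_of_eq hv2)
                  · exact orderOf_dvd_iff_pow_eq_one.1 (dvd_of_eq ht')
                · intro u v hu hv hu2 hv2'
                  have huv : Commute u v := by
                    have hKc : IsMulCommutative K := isMulCommutative_closure fun a ha b hb => by
                      rcases ha with rfl | rfl <;> rcases hb with rfl | rfl <;>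
                        first | rfl | exact htc _ | exact (htc _).symm
                    exact congrArg Subtype.val (hKc.is_comm.comm (⟨u, hu⟩ : K) ⟨v, hv⟩)
                  rw [huv.mul_pow, hu2, hv2', one_mul]
                · intro u _ hu2
                  rw [inv_pow, hu2, inv_one]
              obtain ⟨i, hi⟩ := hKp.exists_card_eq
              rcases i with _ | _ | i
              · rw [hi] at hdK; norm_num at hdK
              · exfalso
                rw [pow_one] at hi
                have e1 := (Nat.card_eq_two_iff' (1 : K)).1 hi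
                have := congrArg Subtype.val (e1.unique (y₁ := ⟨g.1 ^ p, ha⟩) (y₂ := ⟨t', hb⟩)
                  (fun e => by have := congrArg Subtype.val e; simp only [OneMemClass.coe_one] at this
                               rw [this, orderOf_one] at hv2; omega)
                  (fun e => by have := congrArg Subtype.val e; simp only [OneMemClass.coe_one] at this
                               rw [this, orderOf_one] at ht'; omega))
                exact h this
              · exact ⟨2 ^ i, by rw [hi]; ring⟩
            have ho : orderOf ((g.1 ^ 2 : H) : G) = p := by rw [orderOf_coe, hsq1]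
            have hp35 : p = 3 ∨ p = 5 := by
              have hd' : p ∣ 2 ^ 3 * (3 * 5) := by
                rw [show 2 ^ 3 * (3 * 5) = 120 by norm_num, ← hH]; exact hd
              rcases hp.out.dvd_mul.1 hd' with h | h
              · exact absurd ((Nat.prime_dvd_prime_iff_eq hp.out Nat.prime_two).1 (hp.out.dvd_of_dvd_pow h)) hp2
              · rcases hp.out.dvd_mul.1 h with h | h
                · exact Or.inl ((Nat.prime_dvd_prime_iff_eq hp.out (by norm_num)).1 h)
                · exact Or.inr ((Nat.prime_dvd_prime_iff_eq hp.out (by norm_num)).1 h)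
            rcases hp35 with rfl | rfl
            · rw [(three_data hG ho).2] at h4; norm_num at h4
            · rcases (five_data hG ho).2 with e | e <;> rw [e] at h4 <;> norm_num at h4
        have hg' : g.1 ^ p ∈ M := by
          have := mul_mem hpow.1 (inv_mem (hle (mem_zpowers t')))
          rwa [mul_inv_cancel_right] at this
        have hcop : Nat.Coprime 2 p := (Nat.coprime_primes Nat.prime_two hp.out).2 (Ne.symm hp2)
        have e := Int.gcd_eq_gcd_ab 2 p
        have h1 : ((Int.gcd 2 p : ℕ) : ℤ) = 1 := by
          rw [show Int.gcd 2 p = Nat.gcd 2 p from rfl, hcop.gcd_eq_one]; rfl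
        rw [← zpow_one g.1, ← h1, e, zpow_add, zpow_mul, zpow_mul, zpow_ofNat, zpow_natCast]
        exact mul_mem (zpow_mem hpow.2 _) (zpow_mem hg' _)
    haveI : Fintype H := Fintype.ofFinite H
    have hMc : Nat.card M = (Finset.univ.filter fun g : H => g ∈ M).card := by
      rw [Nat.card_eq_fintype_card, Fintype.card_subtype]
    have hcard : ∀ p : ℕ, Nat.card {g : H // g ∈ M ∧ (orderOf g = p ∨ orderOf g = 2 * p)} =
        (Finset.univ.filter fun g : H => g ∈ M ∧ (orderOf g = p ∨ orderOf g = 2 * p)).card := fun p => by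
      rw [Nat.card_eq_fintype_card, Fintype.card_subtype]
    by_cases h5 : 5 ∣ Nat.card M
    · right
      have c5 := hcount 5 ⟨by norm_num⟩ (by norm_num) (by norm_num) h5
      rw [n5, hcard] at c5
      have h48 : 48 < Nat.card M := by
        rw [hMc]
        refine lt_of_le_of_lt c5 (Finset.card_lt_card ?_)
        rw [Finset.ssubset_iff_of_subset (fun g hg => ?_)]
        · exact ⟨1, by simp [one_mem], by simp⟩
        · simp only [Finset.mem_filter, Finset.mem_univ, true_and] at hg ⊢
          exact hg.1
      have h60 : Nat.card M = 60 ∨ Nat.card M = 120 := by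
        obtain ⟨q, hq⟩ := hM120
        have : q ≤ 2 := by
          by_contra hlt
          have : 49 * 3 ≤ Nat.card M * q := Nat.mul_le_mul h48 (by omega)
          omega
        interval_cases q <;> omega
      rcases h60 with h60 | h120
      · exfalso
        have c3 := hcount 3 ⟨by norm_num⟩ (by norm_num) (by norm_num) (by rw [h60]; norm_num)
        rw [n3, hcard] at c3
        have hdisj : Disjoint (Finset.univ.filter fun g : H => g ∈ M ∧ (orderOf g = 5 ∨ orderOf g = 2 * 5))
            (Finset.univ.filter fun g : H => g ∈ M ∧ (orderOf g = 3 ∨ orderOf g = 2 * 3)) := by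
          rw [Finset.disjoint_filter]
          rintro g - ⟨-, h⟩ ⟨-, h'⟩
          omega
        have hle := Finset.card_le_card (show
            (Finset.univ.filter fun g : H => g ∈ M ∧ (orderOf g = 5 ∨ orderOf g = 2 * 5)) ∪
            (Finset.univ.filter fun g : H => g ∈ M ∧ (orderOf g = 3 ∨ orderOf g = 2 * 3)) ⊆
            Finset.univ.filter fun g : H => g ∈ M from fun g hg => by
              simp only [Finset.mem_union, Finset.mem_filter, Finset.mem_univ, true_and] at hg ⊢
              rcases hg with hg | hg <;> exact hg.1)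
        rw [Finset.card_union_of_disjoint hdisj, ← hMc] at hle
        omega
      · exact eq_top_of_card_eq M (h120.trans hH.symm)
    by_cases h3 : 3 ∣ Nat.card M
    · exfalso
      have c3 := hcount 3 ⟨by norm_num⟩ (by norm_num) (by norm_num) h3
      rw [n3, hcard] at c3
      have hle : 40 ≤ Nat.card M := by
        rw [hMc]
        refine c3.trans (Finset.card_le_card fun g hg => ?_)
        simp only [Finset.mem_filter, Finset.mem_univ, true_and] at hg ⊢
        exact hg.1
      obtain ⟨q, hq⟩ := hM120
      have hq3 : q ≤ 3 := by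
        by_contra hlt
        have : 40 * 4 ≤ Nat.card M * q := Nat.mul_le_mul hle (by omega)
        omega
      interval_cases q <;> omega
    left
    -- an element of order five centralises a normal 2-subgroup
    obtain ⟨⟨y, hyH⟩, hy⟩ := exists_prime_orderOf_dvd_card' (G := H) 5 (by rw [hH]; norm_num)
    rw [orderOf_mk] at hy
    set y' : H := ⟨y, hyH⟩
    have hy' : orderOf y' = 5 := by rw [orderOf_mk, hy]
    letI : MulAction (zpowers y') M :=
      { smul := fun u m => ⟨(u : H) * m * (u : H)⁻¹, hM.conj_mem _ m.2 _⟩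
        one_smul := fun m => Subtype.ext (by
          show ((1 : zpowers y') : H) * _ * ((1 : zpowers y') : H)⁻¹ = _; simp)
        mul_smul := fun u v m => Subtype.ext (by
          show ((u * v : zpowers y') : H) * _ * ((u * v : zpowers y') : H)⁻¹ = (u : H) * ((v : H) * _ * (v : H)⁻¹) * (u : H)⁻¹
          push_cast; group) }
    have hP : IsPGroup 5 (zpowers y') := IsPGroup.of_card (n := 1) (by rw [Nat.card_zpowers, hy', pow_one])
    have hmod := hP.card_modEq_card_fixedPoints M
    set F := M ⊓ centralizer ({y'} : Set H)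
    have hF : Nat.card (MulAction.fixedPoints (zpowers y') M) = Nat.card F := by
      refine Nat.card_congr ⟨fun m => ⟨m.1, m.1.2, mem_cent_iff.2 (comm_of_conj
          (congrArg Subtype.val (m.2 ⟨y', mem_zpowers y'⟩))).symm⟩,
        fun m => ⟨⟨m, m.2.1⟩, fun u => Subtype.ext ?_⟩, fun m => rfl, fun m => rfl⟩
      obtain ⟨i, hi⟩ := mem_zpowers_iff.1 u.2
      show (u : H) * (m : H) * (u : H)⁻¹ = m
      rw [← hi, ((show Commute y' (m : H) from (mem_cent_iff.1 m.2.2).symm).zpow_left i).eq,
        mul_inv_cancel_right]
    rw [hF] at hmod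
    have h8 : Nat.card M ∣ 8 := by
      have h15 : Nat.Coprime (Nat.card M) 15 :=
        Nat.Coprime.mul_right ((Nat.Prime.coprime_iff_not_dvd (by norm_num)).2 h3).symm
          ((Nat.Prime.coprime_iff_not_dvd (by norm_num)).2 h5).symm
      exact Nat.Coprime.dvd_of_dvd_mul_right h15 (by rw [show 8 * 15 = 120 from rfl]; exact hM120)
    have hFd : Nat.card F ∣ Nat.card M := card_dvd_of_le inf_le_left
    have hFeq : Nat.card F = Nat.card M := by
      have a1 := Nat.le_of_dvd (by norm_num) h8
      have a2 := Nat.le_of_dvd Nat.card_pos hFd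
      unfold Nat.ModEq at hmod
      have b1 : 0 < Nat.card F := Nat.card_pos
      interval_cases hq : Nat.card M <;> interval_cases hr : Nat.card F <;> omega
    have hMF : M ≤ centralizer ({y'} : Set H) :=
      inf_eq_left.1 (eq_of_le_of_card_ge inf_le_left hFeq.ge)
    have hd : Nat.card M ∣ 30 := by
      have hle' : M.map H.subtype ≤ centralizer ({y} : Set G) := by
        rintro _ ⟨m, hm, rfl⟩
        exact mem_cent_iff.2 (congrArg Subtype.val (mem_cent_iff.1 (hMF hm)))
      have h := card_dvd_of_le hle'
      rw [card_map_of_injective H.subtype_injective] at h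
      rcases (five_data hG hy).2 with e | e <;> rw [e] at h
      · exact h.trans (by norm_num)
      · exact h
    have hM2 : Nat.card M ∣ 2 := by
      have := Nat.dvd_gcd h8 hd
      simpa using this
    exact (eq_of_le_of_card_ge hle (by
      rw [Nat.card_zpowers, ht']
      exact Nat.le_of_dvd two_pos hM2)).symm
  -- the quotient
  have hQ : Nat.card (H ⧸ zpowers t') = 60 := by
    have h := card_eq_card_quotient_mul_card_subgroup (zpowers t')
    rw [hH, Nat.card_zpowers, ht'] at h
    omega
  haveI : Nontrivial (H ⧸ zpowers t') := Finite.one_lt_card_iff_nontrivial.mp (by omega)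
  haveI : IsSimpleGroup (H ⧸ zpowers t') := ⟨fun M hM => by
    have hle : zpowers t' ≤ M.comap (QuotientGroup.mk' _) :=
      fun z hz => by
        show QuotientGroup.mk' _ z ∈ M
        rw [show QuotientGroup.mk' (zpowers t') z = 1 from (QuotientGroup.eq_one_iff z).2 hz]
        exact one_mem M
    rcases hsimple _ (hM.comap _) hle with h | h
    · left
      apply comap_injective (QuotientGroup.mk'_surjective (zpowers t'))
      rw [h]
      exact (QuotientGroup.ker_mk' _).symm
    · right
      exact comap_injective (QuotientGroup.mk'_surjective (zpowers t')) (h.trans (comap_top _).symm)⟩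
  obtain ⟨e5⟩ := S0494.result hQ
  -- the derived subgroup misses the involution
  obtain ⟨T⟩ := (inferInstance : Nonempty (Sylow 2 H))
  have hT8 : Nat.card (T : Subgroup H) = 8 := by
    have := SmallGroups.card_sylow_eq (G := H) (p := 2) (a := 3) (m := 15) (by rw [hH]; norm_num)
      (by norm_num) T
    simpa using this
  have hTc : IsMulCommutative (T : Subgroup H) := by
    refine ⟨⟨fun u v => Subtype.ext (Subtype.ext ?_)⟩⟩
    have hsq : ∀ w : (T : Subgroup H), ((w : H) : G)⁻¹ = ((w : H) : G) := fun w =>
      inv_eq_of_mul_eq_one_right (sq_one_of_dvd_pow hG (k := 3) (by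
        rw [orderOf_coe, orderOf_coe]
        exact (orderOf_dvd_natCard w).trans (by rw [hT8]; norm_num)))
    show ((u : H) : G) * ((v : H) : G) = ((v : H) : G) * ((u : H) : G)
    calc ((u : H) : G) * ((v : H) : G) = (((u : H) : G) * ((v : H) : G))⁻¹ := (hsq (u * v)).symm
      _ = ((v : H) : G) * ((u : H) : G) := by rw [mul_inv_rev, hsq u, hsq v]
  have htT : t' ∈ (T : Subgroup H) := by
    obtain ⟨S, hS⟩ := (IsPGroup.of_card (n := 1) (by rw [Nat.card_zpowers, ht', pow_one]) :
      IsPGroup 2 (zpowers t')).exists_le_sylow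
    obtain ⟨c, rfl⟩ := MulAction.exists_smul_eq H S T
    refine ⟨t', hS (mem_zpowers t'), ?_⟩
    show c * t' * c⁻¹ = t'
    rw [← htc c, mul_inv_cancel_right]
  have htD : t' ∉ commutator H := by
    intro h
    have h2 : t' ∈ (T : Subgroup H) ⊓ commutator H ⊓ center H :=
      ⟨⟨htT, h⟩, mem_center_iff.2 fun g => (htc g).symm⟩
    rw [Transfer.inf_commutator_inf_center_eq_bot hTc (by
      rw [hT8]
      show Nat.Coprime (2 ^ 3) _
      exact Nat.Coprime.pow_left 3 (Nat.prime_two.coprime_iff_not_dvd.2 T.not_dvd_index)), mem_bot] at h2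
    rw [h2, orderOf_one] at ht'
    omega
  have hDdisj : commutator H ⊓ zpowers t' = ⊥ := by
    rw [eq_bot_iff]
    rintro z ⟨hzD, hzt⟩
    rw [mem_bot]
    obtain ⟨i, rfl⟩ := mem_zpowers_iff.1 hzt
    rcases Int.even_or_odd i with ⟨j, hj⟩ | ⟨j, hj⟩
    · rw [hj, ← two_mul, zpow_mul, show (2 : ℤ) = ((2 : ℕ) : ℤ) from rfl, zpow_natCast, ← ht',
        pow_orderOf_eq_one, one_zpow]
    · exfalso
      apply htD
      have : t' ^ i = t' := by
        rw [hj, zpow_add, zpow_mul, show (2 : ℤ) = ((2 : ℕ) : ℤ) from rfl, zpow_natCast, ← ht',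
          pow_orderOf_eq_one, one_zpow, one_mul, zpow_one]
      exact this ▸ hzD
  let f2 : H →* alternatingGroup (Fin 5) := e5.toMonoidHom.comp (QuotientGroup.mk' (zpowers t'))
  have hDtop : (commutator H).map (QuotientGroup.mk' (zpowers t')) = ⊤ := by
    refine ((inferInstance : (commutator H).Normal).map (QuotientGroup.mk' (zpowers t'))
      (QuotientGroup.mk'_surjective _)).eq_bot_or_eq_top.resolve_left fun h => ?_
    apply SmallGroups.not_comm_of_not_prime (G := H ⧸ zpowers t') (by rw [hQ]; norm_num)
    refine ⟨⟨fun a b => ?_⟩⟩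
    obtain ⟨a, rfl⟩ := QuotientGroup.mk'_surjective (zpowers t') a
    obtain ⟨b, rfl⟩ := QuotientGroup.mk'_surjective (zpowers t') b
    rw [← commutatorElement_eq_one_iff_mul_comm, ← map_commutatorElement, ← mem_bot, ← h]
    exact mem_map_of_mem _ (commutator_mem_commutator (mem_top a) (mem_top b))
  have hDi : (commutator H).index = 2 := by
    have hsup : commutator H ⊔ zpowers t' = ⊤ := by
      rw [← QuotientGroup.ker_mk' (zpowers t'), ← comap_map_eq, hDtop, comap_top]
    have hDc : Nat.card (commutator H) * 2 = 120 := by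
      have hinj : Function.Injective ((QuotientGroup.mk' (zpowers t')).comp (commutator H).subtype) := by
        rw [← MonoidHom.ker_eq_bot_iff, eq_bot_iff_forall]
        intro z hz
        have : (z : H) ∈ commutator H ⊓ zpowers t' := ⟨z.2, (QuotientGroup.eq_one_iff _).1 hz⟩
        rw [hDdisj, mem_bot] at this
        exact Subtype.ext this
      have hr : ((QuotientGroup.mk' (zpowers t')).comp (commutator H).subtype).range = ⊤ := by
        rw [MonoidHom.range_comp, range_subtype, hDtop]
      have := Nat.card_congr ((MonoidHom.ofInjective hinj).trans ((MulEquiv.subgroupCongr hr).trans topEquiv)).toEquiv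
      rw [this, hQ]
    have := (commutator H).card_mul_index
    rw [hH] at this
    nlinarith
  haveI := Fact.mk Nat.prime_two
  let e2 : (H ⧸ commutator H) ≃* Multiplicative (ZMod 2) :=
    mulEquivOfPrimeCardEq (p := 2) (by rw [← Subgroup.index, hDi]) (by simp)
  let f1 : H →* Multiplicative (ZMod 2) := e2.toMonoidHom.comp (QuotientGroup.mk' (commutator H))
  have hinj : Function.Injective (f1.prod f2) := by
    rw [← MonoidHom.ker_eq_bot_iff, eq_bot_iff]
    intro z hz
    rw [← hDdisj]
    rw [MonoidHom.mem_ker, MonoidHom.prod_apply, Prod.mk_eq_one] at hz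
    exact ⟨(QuotientGroup.eq_one_iff z).1 (e2.injective (hz.1.trans (map_one _).symm)),
      (QuotientGroup.eq_one_iff z).1 (e5.injective (hz.2.trans (map_one _).symm))⟩
  have hcardeq : Nat.card H = Nat.card (Multiplicative (ZMod 2) × alternatingGroup (Fin 5)) := by
    rw [hH, Nat.card_prod, ← Nat.card_congr e5.toEquiv, hQ]
    simp
  refine ⟨MulEquiv.ofBijective (f1.prod f2) ((Nat.bijective_iff_injective_and_card _).2 ⟨hinj, hcardeq⟩), ?_⟩
  show (f1 t', f2 t') = _
  refine Prod.ext ?_ ?_
  · have hne : f1 t' ≠ 1 := fun h => htD ((QuotientGroup.eq_one_iff t').1 (e2.injective (h.trans (map_one e2).symm)))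
    show f1 t' = Multiplicative.ofAdd 1
    exact two_eq _ hne
  · show e5 (QuotientGroup.mk' (zpowers t') t') = 1
    rw [show QuotientGroup.mk' (zpowers t') t' = 1 from (QuotientGroup.eq_one_iff _).2 (mem_zpowers t'), map_one]

end Cfsg.Agent.J1Order38
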