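import Cfsg.Agent.J1Order38.Cent
import Cfsg.Agent.S0016
import Cfsg.Agent.S0107
import Cfsg.Agent.S0201
import Cfsg.Agent.S0514
import Cfsg.Agent.Lib.SmallGroups.Order168
import Cfsg.Agent.Lib.Transfer.Focal
import Cfsg.Agent.Lib.Transfer.Residual
import Cfsg.Agent.Lib.Transfer.Abelian
import Cfsg.Agent.Lib.Transfer.PClasses

/-!
Sylow 2-subgroups of a simple group of order 175560 are elementary abelian, with all involutions
conjugate.
-/

set_option autoImplicit false
set_option linter.style.haveILetI false

namespace Cfsg.Agent.J1Order38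

open Subgroup Cfsg.Agent.FG78

variable {G : Type*} [Group G] [Finite G] [IsSimpleGroup G] (hG : Nat.card G = 175560)
include hG

theorem not_comm : ¬ IsMulCommutative G :=
  SmallGroups.not_comm_of_not_prime (by rw [hG]; norm_num)

theorem residual_top : pResidual 2 G = ⊤ := by
  haveI := Fact.mk (by norm_num : Nat.Prime 3)
  obtain ⟨x, hx⟩ := exists_prime_orderOf_dvd_card' (G := G) 3 (by rw [hG]; norm_num)
  haveI hn : (pResidual 2 G).Normal := by
    refine ⟨fun m hm g => ?_⟩
    have h1 : ((pResidual 2 G).map (MulAut.conj g).toMonoidHom) = pResidual 2 G :=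
      Transfer.map_pResidual_equiv _
    rw [← h1]
    exact ⟨m, hm, rfl⟩
  refine hn.eq_bot_or_eq_top.resolve_left fun h => ?_
  have h2 : x ∈ pResidual 2 G := Transfer.mem_pResidual_of_coprime (by rw [hx]; norm_num)
  rw [h, mem_bot] at h2
  simp [h2] at hx

theorem card_two (T : Sylow 2 G) : Nat.card (T : Subgroup G) = 8 := by
  have := SmallGroups.card_sylow_eq (G := G) (p := 2) (a := 3) (m := 21945) (by rw [hG]; norm_num)
    (by norm_num) T
  simpa using this

theorem not_cyclic (T : Sylow 2 G) : ¬ IsCyclic (T : Subgroup G) :=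
  haveI : Fact (Nat.Prime 2) := ⟨Nat.prime_two⟩
  SmallGroups.not_isCyclic_sylow_minFac (not_comm hG) (by rw [hG]; norm_num) T

/-- The group induced on a Sylow 2-subgroup by its normaliser has odd order when it is abelian. -/
theorem exists_odd_pow_mem_cent (T : Sylow 2 G) (hT : IsMulCommutative (T : Subgroup G)) {n : G}
    (hn : n ∈ normalizer ((T : Subgroup G) : Set G)) :
    ∃ k, Odd k ∧ n ^ k ∈ centralizer ((T : Subgroup G) : Set G) := by
  set N := normalizer ((T : Subgroup G) : Set G)
  haveI hKn : ((centralizer ((T : Subgroup G) : Set G)).subgroupOf N).Normal := by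
    show ((centralizer ((T : Subgroup G) : Set G)).subgroupOf
      (normalizer ((T : Subgroup G) : Set G))).Normal
    rw [← normalizerMonoidHom_ker]
    exact MonoidHom.normal_ker _
  set K := (centralizer ((T : Subgroup G) : Set G)).subgroupOf N
  refine ⟨K.index, ?_, ?_⟩
  · rw [Nat.odd_iff, ← Nat.two_dvd_ne_zero]
    intro h2
    have hTC : (T : Subgroup G) ≤ centralizer ((T : Subgroup G) : Set G) :=
      le_centralizer_iff_isMulCommutative.mpr hT
    have h8 : 8 ∣ Nat.card K := by
      rw [Nat.card_congr (subgroupOfEquivOfLe (centralizer_le_normalizer _)).toEquiv, ← card_two hG T]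
      exact card_dvd_of_le hTC
    have hmul := K.card_mul_index
    have hd : Nat.card N ∣ 175560 := hG ▸ card_subgroup_dvd_card _
    have : 16 ∣ 175560 := (Nat.mul_dvd_mul h8 h2).trans (hmul ▸ hd)
    norm_num at this
  · have h : (⟨n, hn⟩ : N) ^ K.index ∈ K := K.pow_index_mem _
    exact h

omit [Finite G] [IsSimpleGroup G] hG in
theorem eq_of_sq_of_pow {n y : G} (h2 : n * (n * y * n⁻¹) * n⁻¹ = y) {k : ℕ} (hk : Odd k)
    (hc : n ^ k * y * (n ^ k)⁻¹ = y) : n * y * n⁻¹ = y := by
  have hev : ∀ j : ℕ, n ^ (2 * j) * y * (n ^ (2 * j))⁻¹ = y := by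
    intro j
    induction j with
    | zero => simp
    | succ j ih =>
      calc n ^ (2 * (j + 1)) * y * (n ^ (2 * (j + 1)))⁻¹
          = n * (n * (n ^ (2 * j) * y * (n ^ (2 * j))⁻¹) * n⁻¹) * n⁻¹ := by
            rw [show 2 * (j + 1) = 2 * j + 1 + 1 by ring, pow_succ', pow_succ']; group
        _ = y := by rw [ih, h2]
  obtain ⟨j, rfl⟩ := hk
  rw [pow_succ', mul_inv_rev] at hc
  calc n * y * n⁻¹ = n * (n ^ (2 * j) * y * (n ^ (2 * j))⁻¹) * n⁻¹ := by rw [hev j]
    _ = n * n ^ (2 * j) * y * ((n ^ (2 * j))⁻¹ * n⁻¹) := by group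
    _ = y := hc

/-- An abelian Sylow 2-subgroup is elementary. -/
theorem sq_eq_one_of_comm (T : Sylow 2 G) (hT : IsMulCommutative (T : Subgroup G)) :
    ∀ y ∈ (T : Subgroup G), y * y = 1 := by
  classical
  haveI : Fact (Nat.Prime 2) := ⟨Nat.prime_two⟩
  haveI := hT
  intro y hy
  by_contra hy2
  open scoped IsMulCommutative in
  let sq : (T : Subgroup G) →* (T : Subgroup G) := powMonoidHom 2
  have hsq : ∀ s : (T : Subgroup G), sq s = s * s := fun s => pow_two s
  have h8 := card_two hG T
  have hmul : Nat.card sq.range * Nat.card sq.ker = 8 := by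
    rw [← Subgroup.index_ker, mul_comm, card_mul_index, h8]
  -- the image of squaring has order two
  have hrange : Nat.card sq.range = 2 := by
    have hne : sq.range ≠ ⊥ := by
      intro h
      have : sq ⟨y, hy⟩ = 1 := by rw [← mem_bot, ← h]; exact ⟨_, rfl⟩
      rw [hsq] at this
      exact hy2 (congrArg Subtype.val this)
    have h1 : 1 < Nat.card sq.range := sq.range.one_lt_card_iff_ne_bot.mpr hne
    have hker : 4 ≤ Nat.card sq.ker := by
      by_contra hlt
      apply not_cyclic hG T
      -- some element has order eight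
      obtain ⟨s, hs⟩ : ∃ s : (T : Subgroup G), s ^ 4 ≠ 1 := by
        by_contra! hall
        have hle : sq.range ≤ sq.ker := by
          rintro _ ⟨s, rfl⟩
          rw [MonoidHom.mem_ker, hsq, hsq, ← hall s]
          simp [pow_succ, mul_assoc]
        have := card_le_of_le hle
        have hd : Nat.card sq.ker ∣ 8 := ⟨_, hmul.symm.trans (mul_comm _ _)⟩
        interval_cases hq : Nat.card sq.ker <;> simp_all <;> omega
      refine isCyclic_of_orderOf_eq_card s ?_
      have hd : orderOf s ∣ 2 ^ 3 := (orderOf_dvd_natCard s).trans (by rw [h8]; norm_num)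
      obtain ⟨i, hi, he⟩ := (Nat.dvd_prime_pow Nat.prime_two).1 hd
      rw [h8, he]
      interval_cases i
      · exact absurd (by rw [orderOf_eq_one_iff.1 he, one_pow]) hs
      · exact absurd (orderOf_dvd_iff_pow_eq_one.1 (he ▸ (by norm_num : 2 ^ 1 ∣ 4))) hs
      · exact absurd (orderOf_dvd_iff_pow_eq_one.1 (he ▸ (by norm_num : 2 ^ 2 ∣ 4))) hs
      · rfl
    have hle : Nat.card sq.range * 4 ≤ 8 := hmul ▸ Nat.mul_le_mul_left _ hker
    omega
  have hker4 : Nat.card sq.ker = 4 := by rw [hrange] at hmul; omega
  -- every element of the normaliser centralises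
  refine SmallGroups.not_normalizer_le_centralizer (not_comm hG) (p := 2) (by rw [hG]; norm_num) T ?_
  intro n hn
  obtain ⟨k, hk, hkc⟩ := exists_odd_pow_mem_cent hG T hT hn
  rw [mem_centralizer_iff]
  suffices h : ∀ v ∈ (T : Subgroup G), n * v * n⁻¹ = v from fun v hv =>
    (mul_inv_eq_iff_eq_mul.mp (h v hv)).symm
  have hpow : ∀ v ∈ (T : Subgroup G), n ^ k * v * (n ^ k)⁻¹ = v := fun v hv => by
    rw [← (mem_centralizer_iff.1 hkc) v hv, mul_assoc, mul_inv_cancel, mul_one]
  have hmem : ∀ v ∈ (T : Subgroup G), n * v * n⁻¹ ∈ (T : Subgroup G) :=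
    fun v hv => (mem_normalizer_iff.1 hn v).1 hv
  have hcomm : ∀ v ∈ (T : Subgroup G), ∀ w ∈ (T : Subgroup G), v * w = w * v :=
    fun v hv w hw => congrArg Subtype.val (IsMulCommutative.is_comm.comm (⟨v, hv⟩ : (T : Subgroup G)) ⟨w, hw⟩)
  -- squares
  have hz_unique : ∀ v ∈ (T : Subgroup G), ∀ w ∈ (T : Subgroup G), v * v ≠ 1 → w * w ≠ 1 → v * v = w * w := by
    intro v hv w hw hv1 hw1
    have key := (Nat.card_eq_two_iff' (1 : sq.range)).1 hrange
    have hv' : (⟨sq ⟨v, hv⟩, ⟨_, rfl⟩⟩ : sq.range) ≠ 1 := fun h => hv1 (by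
      have := congrArg (fun s : sq.range => ((s : (T : Subgroup G)) : G)) h
      simpa [hsq] using this)
    have hw' : (⟨sq ⟨w, hw⟩, ⟨_, rfl⟩⟩ : sq.range) ≠ 1 := fun h => hw1 (by
      have := congrArg (fun s : sq.range => ((s : (T : Subgroup G)) : G)) h
      simpa [hsq] using this)
    have := congrArg (fun s : sq.range => ((s : (T : Subgroup G)) : G)) (key.unique hv' hw')
    simpa [hsq] using this
  set z := y * y with hz
  have hzT : z ∈ (T : Subgroup G) := mul_mem hy hy
  have hzfix : n * z * n⁻¹ = z := by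
    have h1 : (n * y * n⁻¹) * (n * y * n⁻¹) = n * z * n⁻¹ := by rw [hz]; group
    rw [← h1]
    refine hz_unique _ (hmem y hy) y hy ?_ hy2
    rw [h1]
    intro h
    exact hy2 (conj_eq_one_iff.1 h)
  have hzz : z * z = 1 := by
    by_contra h
    have e := hz_unique z hzT y hy h hy2
    have hz1 : z = 1 := by rw [← hz] at e; exact mul_left_cancel (e.trans (mul_one z).symm)
    exact hy2 hz1
  have hinv : ∀ w ∈ (T : Subgroup G), w * w = 1 → n * w * n⁻¹ = w := by
    intro w hw hww
    refine eq_of_sq_of_pow ?_ hk (hpow w hw)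
    set w' := n * w * n⁻¹ with hw'
    have hw'T := hmem w hw
    have hw'2 : w' * w' = 1 := by
      rw [hw']; simp only [conj_mul, hww, mul_one, mul_inv_cancel]
    by_cases hwz : w = z ∨ w = 1
    · rcases hwz with rfl | rfl
      · rw [hw', hzfix, hzfix]
      · simp [hw']
    push Not at hwz
    -- the four elements of square one
    set Om : Finset (T : Subgroup G) := {1, ⟨z, hzT⟩, ⟨w, hw⟩, ⟨w * z, mul_mem hw hzT⟩}
    have hzne : z ≠ 1 := hy2
    have hwz1 : w * z ≠ 1 := fun h => hwz.1 (by
      calc w = w * (z * z) := by rw [hzz, mul_one]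
        _ = z := by rw [← mul_assoc, h, one_mul])
    have hcard : Om.card = 4 := by
      simp only [Om]
      rw [Finset.card_insert_of_notMem, Finset.card_insert_of_notMem, Finset.card_insert_of_notMem,
        Finset.card_singleton]
      · simp only [Finset.mem_singleton, Subtype.ext_iff]
        intro h
        exact hzne (left_eq_mul.mp h)
      · simp only [Finset.mem_insert, Finset.mem_singleton, Subtype.ext_iff, not_or]
        exact ⟨fun h => hwz.1 h.symm, fun h => hwz.2 (mul_eq_right.mp h.symm)⟩
      · simp only [Finset.mem_insert, Finset.mem_singleton, Subtype.ext_iff, not_or]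
        exact ⟨fun h => hzne h.symm, fun h => hwz.2 h.symm, fun h => hwz1 h.symm⟩
    have hall : ∀ d : (T : Subgroup G), d * d = 1 → d ∈ Om := by
      haveI := Fintype.ofFinite (T : Subgroup G)
      intro d hd
      have hsub : Om ⊆ Finset.univ.filter fun d : (T : Subgroup G) => d ∈ sq.ker := by
        intro d hd'
        simp only [Om, Finset.mem_insert, Finset.mem_singleton] at hd'
        simp only [Finset.mem_filter, Finset.mem_univ, true_and, MonoidHom.mem_ker, hsq]
        rcases hd' with rfl | rfl | rfl | rfl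
        · simp
        · exact Subtype.ext hzz
        · exact Subtype.ext hww
        · refine Subtype.ext ?_
          show w * z * (w * z) = 1
          calc w * z * (w * z) = w * (z * w) * z := by group
            _ = (w * w) * (z * z) := by rw [hcomm z hzT w hw]; group
            _ = 1 := by rw [hww, hzz, mul_one]
      have heq := Finset.eq_of_subset_of_card_le hsub (by
        rw [hcard, ← Fintype.card_subtype, ← Nat.card_eq_fintype_card]; exact hker4.le)
      rw [heq]
      simp only [Finset.mem_filter, Finset.mem_univ, true_and, MonoidHom.mem_ker, hsq, hd]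
    have hcases := hall ⟨w', hw'T⟩ (Subtype.ext hw'2)
    simp only [Om, Finset.mem_insert, Finset.mem_singleton, Subtype.ext_iff, OneMemClass.coe_one] at hcases
    rcases hcases with h | h | h | h
    · exact absurd (conj_eq_one_iff.1 h) hwz.2
    · exact absurd (mul_left_cancel (mul_right_cancel (h.trans hzfix.symm))) hwz.1
    · rw [h]; exact h
    · rw [h, ← conj_mul, ← hw', h, hzfix, mul_assoc, hzz, mul_one]
  intro v hv
  by_cases hv2 : v * v = 1
  · exact hinv v hv hv2
  refine eq_of_sq_of_pow ?_ hk (hpow v hv)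
  set d := v⁻¹ * (n * v * n⁻¹) with hd
  have hdT : d ∈ (T : Subgroup G) := mul_mem (inv_mem hv) (hmem v hv)
  have hd2 : d * d = 1 := by
    have hvv : (n * v * n⁻¹) * (n * v * n⁻¹) = v * v := by
      refine hz_unique _ (hmem v hv) v hv ?_ hv2
      intro h
      exact hv2 (conj_eq_one_iff.1 (by rwa [conj_mul] at h))
    calc d * d = v⁻¹ * ((n * v * n⁻¹) * v⁻¹) * (n * v * n⁻¹) := by rw [hd]; group
      _ = v⁻¹ * (v⁻¹ * (n * v * n⁻¹)) * (n * v * n⁻¹) := by
          rw [hcomm _ (hmem v hv) _ (inv_mem hv)]
      _ = v⁻¹ * v⁻¹ * ((n * v * n⁻¹) * (n * v * n⁻¹)) := by group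
      _ = 1 := by rw [hvv]; group
  have he : n * v * n⁻¹ = v * d := by rw [hd]; group
  rw [he, ← conj_mul, he, hinv d hdT hd2, mul_assoc, hd2, mul_one]

/-- No element of a Sylow 2-subgroup has order four. -/
theorem two_elementary (T : Sylow 2 G) :
    IsMulCommutative (T : Subgroup G) ∧ ∀ y ∈ (T : Subgroup G), y * y = 1 := by
  haveI : Fact (Nat.Prime 2) := ⟨Nat.prime_two⟩
  suffices hT : IsMulCommutative (T : Subgroup G) from ⟨hT, sq_eq_one_of_comm hG T hT⟩
  by_contra hT
  have h8 := card_two hG T
  have hcen2 : Nat.card (center (T : Subgroup G)) ≠ 1 := fun h => by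
    haveI : Nontrivial (T : Subgroup G) := Finite.one_lt_card_iff_nontrivial.mp (by rw [h8]; norm_num)
    haveI := T.2.center_nontrivial
    have h1 := Finite.one_lt_card (α := center (T : Subgroup G))
    omega
  by_cases hinvc : ∃ s : (T : Subgroup G), orderOf s = 2 ∧ s ∉ center (T : Subgroup G)
  · -- dihedral of order eight
    obtain ⟨s, hs, hsc⟩ := hinvc
    obtain ⟨e⟩ := SmallGroups.dihedral_of_card_eight h8 s hs hsc
    obtain ⟨⟨t, htz⟩, ht⟩ := exists_prime_orderOf_dvd_card' (G := center (T : Subgroup G)) 2 (by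
      have hd : Nat.card (center (T : Subgroup G)) ∣ 2 ^ 3 := by
        simpa [h8] using card_subgroup_dvd_card (center (T : Subgroup G))
      obtain ⟨i, -, hi⟩ := (Nat.dvd_prime_pow Nat.prime_two).1 hd
      rw [hi]
      rcases i with _ | i
      · exact absurd (by simpa using hi) hcen2
      · exact dvd_pow_self 2 (by omega))
    rw [orderOf_mk] at ht
    have htG : orderOf (t : G) = 2 := by rw [orderOf_coe]; exact ht
    -- an element of order three centralises a conjugate of `t`
    haveI := Fact.mk (by norm_num : Nat.Prime 3)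
    obtain ⟨x, hx⟩ := exists_prime_orderOf_dvd_card' (G := G) 3 (by rw [hG]; norm_num)
    obtain ⟨w, hwC, hw⟩ := exists_orderOf_prime (r := 2) (centralizer ({x} : Set G))
      (by rw [(three_data hG hx).2]; norm_num)
    obtain ⟨g, hg⟩ := S0107.result T 2 le_rfl ⟨e⟩ (residual_top hG) w t hw htG
    set C := centralizer ({(t : G)} : Set G)
    obtain ⟨N, hNn, hNodd, k, hk⟩ := S0514.result T 4 (by norm_num) ⟨e⟩ (t : G) htG
    haveI := hNn
    set N' := N.map C.subtype
    have hN'odd : Odd (Nat.card N') := by rwa [card_map_of_injective C.subtype_injective]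
    have hTC : (T : Subgroup G) ≤ C := fun u hu => mem_cent_iff.2
      (congrArg Subtype.val (mem_center_iff.1 htz ⟨u, hu⟩))
    have h3 : 3 ∣ Nat.card N := by
      have hxC : g * x * g⁻¹ ∈ C := by
        rw [mem_cent_iff, ← hg]
        simp only [conj_mul]
        rw [(mem_cent_iff.1 hwC).symm]
      have h3C : 3 ∣ Nat.card C := by
        have : orderOf (g * x * g⁻¹) = 3 := by rw [← MulAut.conj_apply, MulEquiv.orderOf_eq, hx]
        rw [← this, ← orderOf_mk _ hxC]
        exact orderOf_dvd_natCard _
      rw [← N.card_mul_index, hk] at h3C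
      exact (Nat.Coprime.dvd_of_dvd_mul_right (Nat.Coprime.pow_right k (by norm_num)) h3C)
    -- a 2-group fixes some subgroup of order three
    let X := {H : Subgroup G // H ≤ N' ∧ Nat.card H = 3}
    letI : MulAction (T : Subgroup G) X :=
      { smul := fun u H => ⟨H.1.map (MulAut.conj (u : G)).toMonoidHom, by
          refine ⟨?_, by rw [card_map_of_injective (MulAut.conj (u : G)).injective, H.2.2]⟩
          rintro _ ⟨h, hh, rfl⟩
          obtain ⟨⟨m, hmC⟩, hm, rfl⟩ := H.2.1 hh
          exact ⟨⟨u, hTC u.2⟩ * ⟨m, hmC⟩ * ⟨u, hTC u.2⟩⁻¹, hNn.conj_mem _ hm _, rfl⟩⟩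
        one_smul := fun H => Subtype.ext (by
          show H.1.map (MulAut.conj ((1 : (T : Subgroup G)) : G)).toMonoidHom = H.1
          ext h; simp)
        mul_smul := fun u v H => Subtype.ext (by
          show H.1.map (MulAut.conj ((u * v : (T : Subgroup G)) : G)).toMonoidHom = _
          ext h
          simp only [Subgroup.coe_mul, map_mul]
          show _ ↔ h ∈ (H.1.map _).map _
          rw [map_map]
          rfl) }
    have hXodd : ¬ 2 ∣ Nat.card X := by
      have hsq3 : ¬ 3 ^ 2 ∣ Nat.card N' := fun h => by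
        have := h.trans (card_subgroup_dvd_card N')
        rw [hG] at this
        norm_num at this
      have e' : X ≃ Sylow 3 N' :=
        { toFun := fun H => ⟨H.1.subgroupOf N', (IsPGroup.of_card (n := 1) (by
              rw [Nat.card_congr (subgroupOfEquivOfLe H.2.1).toEquiv, H.2.2, pow_one])),
            fun {Q} hQ hle => by
              obtain ⟨P, hP⟩ := hQ.exists_le_sylow
              refine (eq_of_le_of_card_ge hle ?_).symm
              refine (card_le_of_le hP).trans ?_
              rw [PrimeSylow.card_sylow_eq (by rw [card_map_of_injective C.subtype_injective]; exact h3) hsq3 P,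
                Nat.card_congr (subgroupOfEquivOfLe H.2.1).toEquiv, H.2.2]⟩
          invFun := fun P => ⟨(P : Subgroup N').map N'.subtype, map_subtype_le _, by
            rw [card_map_of_injective N'.subtype_injective]
            exact PrimeSylow.card_sylow_eq (by rw [card_map_of_injective C.subtype_injective]; exact h3) hsq3 P⟩
          left_inv := fun H => Subtype.ext (by
            show (H.1.subgroupOf N').map N'.subtype = H.1
            rw [subgroupOf_map_subtype, inf_eq_left.2 H.2.1])
          right_inv := fun P => Sylow.ext (by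
            show ((P : Subgroup N').map N'.subtype).subgroupOf N' = P
            exact comap_map_eq_self_of_injective N'.subtype_injective _) }
      rw [Nat.card_congr e']
      intro h2
      obtain ⟨P⟩ := (inferInstance : Nonempty (Sylow 3 N'))
      exact hN'odd.not_two_dvd_nat (Nat.dvd_trans h2 (P.card_dvd_index.trans (P : Subgroup N').index_dvd_card))
    obtain ⟨⟨H, hHN, hH3⟩, hfix⟩ :=
      T.2.nonempty_fixed_point_of_prime_not_dvd_card X hXodd
    obtain ⟨x', hx'H, hx'⟩ := exists_orderOf_prime (r := 3) H (by rw [hH3])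
    have hHx : zpowers x' = H :=
      eq_of_le_of_card_ge (zpowers_le.2 hx'H) (by rw [Nat.card_zpowers, hx', hH3])
    have hTN : (T : Subgroup G) ≤ normalizer ((H : Subgroup G) : Set G) := fun u hu =>
      mem_normalizer_iff_map_conj_eq.2 (congrArg Subtype.val (hfix ⟨u, hu⟩))
    have hrel : (centralizer ((H : Subgroup G) : Set G)).relIndex (normalizer ((H : Subgroup G) : Set G)) ∣ 2 :=
      SmallGroups.relIndex_centralizer_dvd_of_prime H hH3
    have h1 : 4 ∣ Nat.card (centralizer ((H : Subgroup G) : Set G)) := by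
      have h8N : 8 ∣ Nat.card (normalizer ((H : Subgroup G) : Set G)) := h8 ▸ card_dvd_of_le hTN
      rw [← relIndex_bot_left (normalizer _), ← relIndex_mul_relIndex ⊥ _ _ bot_le (centralizer_le_normalizer _),
        relIndex_bot_left] at h8N
      rcases (Nat.dvd_prime Nat.prime_two).1 hrel with h | h <;> rw [h] at h8N <;> omega
    rw [← hHx, centralizer_zpowers, (three_data hG hx').2] at h1
    norm_num at h1
  · -- quaternion of order eight
    push Not at hinvc
    have huniq : ∀ H K : Subgroup (T : Subgroup G), Nat.card H = 2 → Nat.card K = 2 → H = K := by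
      intro H K hH hK
      have hc4 : ¬ 4 ∣ Nat.card (center (T : Subgroup G)) := by
        intro h4
        apply hT
        have hd : (center (T : Subgroup G)).index ∣ 2 := by
          have h1 := (center (T : Subgroup G)).card_mul_index
          rw [h8] at h1
          obtain ⟨m, hm⟩ := h4
          rw [hm, mul_assoc] at h1
          exact ⟨m, by rw [← mul_comm m]; omega⟩
        haveI : IsCyclic ((T : Subgroup G) ⧸ center (T : Subgroup G)) := by
          rcases (Nat.dvd_prime Nat.prime_two).1 hd with h | h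
          · haveI : Subsingleton ((T : Subgroup G) ⧸ center (T : Subgroup G)) :=
              Finite.card_le_one_iff_subsingleton.mp (h.le)
            exact isCyclic_of_subsingleton
          · exact isCyclic_of_prime_card (p := 2) h
        exact MonoidHom.isMulCommutative_of_isCyclic_of_ker_le_center
          (QuotientGroup.mk' (center (T : Subgroup G))) (by rw [QuotientGroup.ker_mk'])
      have hle : ∀ H : Subgroup (T : Subgroup G), Nat.card H = 2 → H ≤ center (T : Subgroup G) := by
        intro H hH v hv
        by_cases hv1 : v = 1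
        · rw [hv1]; exact one_mem _
        refine hinvc v (orderOf_eq_prime ?_ hv1)
        have h1 : (⟨v, hv⟩ : H) ^ 2 = 1 :=
          orderOf_dvd_iff_pow_eq_one.1 ((orderOf_dvd_natCard (⟨v, hv⟩ : H)).trans (dvd_of_eq hH))
        exact congrArg Subtype.val h1
      have hc : Nat.card (center (T : Subgroup G)) = 2 := by
        have h2 : 2 ∣ Nat.card (center (T : Subgroup G)) := by
          have := card_dvd_of_le (hle H hH)
          rwa [hH] at this
        have hd : Nat.card (center (T : Subgroup G)) ∣ 2 ^ 3 := by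
          simpa [h8] using card_subgroup_dvd_card (center (T : Subgroup G))
        obtain ⟨i, -, hi⟩ := (Nat.dvd_prime_pow Nat.prime_two).1 hd
        rcases i with _ | _ | i
        · exact absurd (by simpa using hi) hcen2
        · simpa using hi
        · exact absurd ⟨2 ^ i, by rw [hi]; ring⟩ hc4
      rw [eq_of_le_of_card_ge (hle H hH) (by rw [hH, hc]), eq_of_le_of_card_ge (hle K hK) (by rw [hK, hc])]
    rcases S0016.result 2 T.2 huniq with hc | ⟨-, m, ⟨e⟩⟩
    · exact not_cyclic hG T hc
    · obtain rfl : m = 1 := by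
        have h1 : Nat.card (T : Subgroup G) = Nat.card (QuaternionGroup (2 ^ m)) := Nat.card_congr e.toEquiv
        rw [h8, Nat.card_eq_fintype_card, QuaternionGroup.card] at h1
        refine Nat.pow_right_injective le_rfl (?_ : 2 ^ m = 2 ^ 1)
        omega
      have hcen := S0201.result T 0 e fun N hN hodd => by
        refine hN.eq_bot_or_eq_top.resolve_right fun h => ?_
        rw [h, Subgroup.card_top, hG] at hodd
        exact absurd hodd (by decide)
      rw [SmallGroups.center_eq_bot_of_not_comm (not_comm hG), Subgroup.card_bot] at hcen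
      omega

/-- All involutions are conjugate. -/
theorem conj_involutions {a b : G} (ha : orderOf a = 2) (hb : orderOf b = 2) :
    ∃ g : G, g * a * g⁻¹ = b := by
  classical
  haveI : Fact (Nat.Prime 2) := ⟨Nat.prime_two⟩
  obtain ⟨T⟩ := (inferInstance : Nonempty (Sylow 2 G))
  obtain ⟨hT, hsq⟩ := two_elementary hG T
  haveI := hT
  set N := normalizer ((T : Subgroup G) : Set G) with hN
  -- no element other than the identity is fixed by the normaliser
  have hfree : ∀ w ∈ (T : Subgroup G), (∀ n ∈ N, n * w * n⁻¹ = w) → w = 1 := by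
    intro w hw hfix
    have hle : (T : Subgroup G) ≤ N := le_normalizer
    have hcomm : (T : Subgroup G).subgroupOf N ≤ commutator N := by
      intro s hs
      have h1 := Transfer.sylow_le_focalSubgroup_of_pResidual_eq_top T (residual_top hG) hs
      rw [Transfer.focalSubgroup_eq_commutator_normalizer_of_abelian T hT] at h1
      have h2 : ⁅(T : Subgroup G), N⁆ ≤ (commutator N).map N.subtype := by
        rw [map_subtype_commutator]
        exact commutator_mono hle le_rfl
      obtain ⟨s', hs', e⟩ := h2 h1
      rwa [← Subtype.ext e]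
    have hHall : Nat.Coprime (Nat.card ((T : Subgroup G).subgroupOf N)) ((T : Subgroup G).subgroupOf N).index := by
      rw [Nat.card_congr (subgroupOfEquivOfLe hle).toEquiv, card_two hG T]
      show Nat.Coprime (2 ^ 3) _
      refine Nat.Coprime.pow_left 3 (Nat.prime_two.coprime_iff_not_dvd.2 fun h2 => ?_)
      have hdvd : ((T : Subgroup G).subgroupOf N).index ∣ (T : Subgroup G).index :=
        relIndex_dvd_index_of_le hle
      exact T.not_dvd_index (h2.trans hdvd)
    have hc : IsMulCommutative ((T : Subgroup G).subgroupOf N) :=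
      ⟨⟨fun u v => Subtype.ext (Subtype.ext (congrArg Subtype.val
        (IsMulCommutative.is_comm.comm (⟨((u : N) : G), u.2⟩ : (T : Subgroup G)) ⟨((v : N) : G), v.2⟩) :))⟩⟩
    have hbot := Transfer.inf_commutator_inf_center_eq_bot hc hHall
    have hwm : (⟨w, hle hw⟩ : N) ∈ (T : Subgroup G).subgroupOf N ⊓ commutator N ⊓ center N := by
      refine ⟨⟨hw, hcomm hw⟩, mem_center_iff.2 fun n => Subtype.ext ?_⟩
      exact (mul_inv_eq_iff_eq_mul.1 (hfix n n.2))
    rw [hbot, mem_bot] at hwm
    exact congrArg Subtype.val hwm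
  -- the normaliser is transitive on the seven involutions
  let X := {s : (T : Subgroup G) // s ≠ 1}
  letI : MulAction N X :=
    { smul := fun n s => ⟨⟨n * s.1 * (n : G)⁻¹, (mem_normalizer_iff.1 n.2 _).1 s.1.2⟩, fun h => s.2
        (Subtype.ext (conj_eq_one_iff.1 (congrArg Subtype.val h)))⟩
      one_smul := fun s => Subtype.ext (Subtype.ext (by
        show ((1 : N) : G) * _ * ((1 : N) : G)⁻¹ = _; simp))
      mul_smul := fun m n s => Subtype.ext (Subtype.ext (by
        show ((m * n : N) : G) * _ * ((m * n : N) : G)⁻¹ = (m : G) * ((n : G) * _ * (n : G)⁻¹) * (m : G)⁻¹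
        push_cast; group)) }
  have hX : Nat.card X = 7 := by
    haveI := Fintype.ofFinite (T : Subgroup G)
    rw [Nat.card_eq_fintype_card, Fintype.card_subtype_compl, Fintype.card_subtype_eq,
      ← Nat.card_eq_fintype_card, card_two hG T]
  have horb : ∀ s : X, Odd (Nat.card (MulAction.orbit N s)) ∧ 3 ≤ Nat.card (MulAction.orbit N s) := by
    intro s
    haveI : Nonempty (MulAction.orbit N s) := ⟨⟨s, MulAction.mem_orbit_self s⟩⟩
    have hpos : 0 < Nat.card (MulAction.orbit N s) := Nat.card_pos
    have hne1 : Nat.card (MulAction.orbit N s) ≠ 1 := by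
      intro h1
      refine s.2 (Subtype.ext (hfree s.1 s.1.2 fun n hn => ?_))
      haveI := (Nat.card_eq_one_iff_unique.1 h1).1
      have h2 : (⟨(⟨n, hn⟩ : N) • s, MulAction.mem_orbit _ _⟩ : MulAction.orbit N s) =
          ⟨s, MulAction.mem_orbit_self s⟩ := Subsingleton.elim _ _
      exact congrArg (fun o : MulAction.orbit N s => ((o.1.1 : (T : Subgroup G)) : G)) h2
    have hodd : Odd (Nat.card (MulAction.orbit N s)) := by
      rw [Nat.odd_iff, ← Nat.two_dvd_ne_zero,
        Nat.card_congr (MulAction.orbitEquivQuotientStabilizer N s), ← Subgroup.index]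
      intro h2
      have hle : (T : Subgroup G).subgroupOf N ≤ MulAction.stabilizer N s := fun u hu => by
        refine Subtype.ext (Subtype.ext ?_)
        show (u : G) * _ * (u : G)⁻¹ = _
        have e : (u : G) * ((s.1 : (T : Subgroup G)) : G) = ((s.1 : (T : Subgroup G)) : G) * (u : G) :=
          congrArg Subtype.val (IsMulCommutative.is_comm.comm (⟨(u : G), hu⟩ : (T : Subgroup G)) s.1)
        rw [e, mul_assoc, mul_inv_cancel, mul_one]
      exact T.not_dvd_index (h2.trans ((index_dvd_of_le hle).trans (relIndex_dvd_index_of_le le_normalizer)))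
    refine ⟨hodd, ?_⟩
    have := Nat.odd_iff.1 hodd
    omega
  have htrans : ∀ s s' : X, s' ∈ MulAction.orbit N s := by
    intro s s'
    by_contra hnm
    haveI := Fintype.ofFinite X
    set A := MulAction.orbit N s
    set B := MulAction.orbit N s'
    have hdisj : Disjoint A B := by
      rw [Set.disjoint_left]
      intro u huA huB
      apply hnm
      show s' ∈ MulAction.orbit N s
      rw [← MulAction.orbit_eq_iff.2 huA, MulAction.orbit_eq_iff.2 huB]
      exact MulAction.mem_orbit_self s'
    have hAc : Odd (Nat.card A) ∧ 3 ≤ Nat.card A := horb s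
    have hBc : Odd (Nat.card B) ∧ 3 ≤ Nat.card B := horb s'
    have hsum : Nat.card A + Nat.card B ≤ 7 := by
      rw [Nat.card_coe_set_eq, Nat.card_coe_set_eq, ← hX, ← Set.ncard_union_eq hdisj (Set.toFinite _) (Set.toFinite _)]
      exact Set.ncard_le_card _
    -- what is left outside the two orbits
    have h1 := Nat.odd_iff.1 hAc.1
    have h2 := Nat.odd_iff.1 hBc.1
    obtain ⟨u, hu⟩ : ∃ u : X, u ∉ A ∪ B := by
      by_contra! hall
      have huniv : A ∪ B = Set.univ := Set.eq_univ_of_forall hall
      have : Nat.card A + Nat.card B = 7 := by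
        rw [Nat.card_coe_set_eq, Nat.card_coe_set_eq, ← Set.ncard_union_eq hdisj (Set.toFinite _) (Set.toFinite _),
          huniv, Set.ncard_univ, hX]
      omega
    have hCc := horb u
    have hdisj2 : Disjoint (A ∪ B) (MulAction.orbit N u) := by
      rw [Set.disjoint_left]
      rintro v (hv | hv) hvC
      · refine hu (Or.inl ?_)
        show u ∈ MulAction.orbit N s
        rw [← MulAction.orbit_eq_iff.2 hv, MulAction.orbit_eq_iff.2 hvC]
        exact MulAction.mem_orbit_self u
      · refine hu (Or.inr ?_)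
        show u ∈ MulAction.orbit N s'
        rw [← MulAction.orbit_eq_iff.2 hv, MulAction.orbit_eq_iff.2 hvC]
        exact MulAction.mem_orbit_self u
    have h3 : Nat.card A + Nat.card B + Nat.card (MulAction.orbit N u) ≤ 7 := by
      simp only [Nat.card_coe_set_eq]
      rw [← hX, ← Set.ncard_union_eq hdisj (Set.toFinite _) (Set.toFinite _),
        ← Set.ncard_union_eq hdisj2 (Set.toFinite _) (Set.toFinite _)]
      exact Set.ncard_le_card _
    omega
  -- conjugate both into `T`
  obtain ⟨ga, hga⟩ := Transfer.exists_conj_mem_sylow T (k := 1) (x := a) (by rw [ha, pow_one])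
  obtain ⟨gb, hgb⟩ := Transfer.exists_conj_mem_sylow T (k := 1) (x := b) (by rw [hb, pow_one])
  have hane : ∀ g : G, g * a * g⁻¹ ≠ 1 := fun g h => by
    rw [conj_eq_one_iff.1 h, orderOf_one] at ha; omega
  have hbne : ∀ g : G, g * b * g⁻¹ ≠ 1 := fun g h => by
    rw [conj_eq_one_iff.1 h, orderOf_one] at hb; omega
  obtain ⟨n, hn⟩ := htrans ⟨⟨_, hga⟩, fun h => hane _ (congrArg Subtype.val h)⟩
    ⟨⟨_, hgb⟩, fun h => hbne _ (congrArg Subtype.val h)⟩
  have e : (n : G) * (ga * a * ga⁻¹) * (n : G)⁻¹ = gb * b * gb⁻¹ :=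
    congrArg (fun o : X => ((o.1 : (T : Subgroup G)) : G)) hn
  refine ⟨gb⁻¹ * n * ga, ?_⟩
  calc gb⁻¹ * n * ga * a * (gb⁻¹ * n * ga)⁻¹ = gb⁻¹ * ((n : G) * (ga * a * ga⁻¹) * (n : G)⁻¹) * gb := by group
    _ = b := by rw [e]; group

end Cfsg.Agent.J1Order38
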